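import Mathlib

/-!
# Integer matrices whose Gram matrix is a constant plus the identity
-/

set_option autoImplicit false
set_option maxHeartbeats 800000

namespace Cfsg.Agent.H43.D1

/-- An integer vector of norm two orthogonal to a positive weight has entries `1, -1`. -/
theorem exists_pair {X : Type*} [Fintype X] [DecidableEq X] (D : X → ℤ) (d : X → ℕ)
    (hd : ∀ x, 0 < d x) (h2 : ∑ x, D x ^ 2 = 2) (h0 : ∑ x, (d x : ℤ) * D x = 0) :
    ∃ P M, P ≠ M ∧ ∀ x, D x = (if x = P then 1 else 0) - (if x = M then 1 else 0) := by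
  have hex : ∃ x, D x ≠ 0 := by
    by_contra h
    simp only [not_exists, not_not] at h
    simp [h] at h2
  obtain ⟨x₀, hx₀⟩ := hex
  have hne : ∃ x ∈ Finset.univ, (d x : ℤ) * D x ≠ 0 :=
    ⟨x₀, Finset.mem_univ _, mul_ne_zero (Int.natCast_ne_zero.2 (hd x₀).ne') hx₀⟩
  obtain ⟨P, -, hP⟩ := Finset.exists_pos_of_sum_zero_of_exists_nonzero _ h0 hne
  obtain ⟨M, -, hM⟩ := Finset.exists_pos_of_sum_zero_of_exists_nonzero (fun x => -((d x : ℤ) * D x))
    (by rw [Finset.sum_neg_distrib, h0, neg_zero])
    (hne.imp fun x hx => ⟨hx.1, neg_ne_zero.2 hx.2⟩)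
  have hP' : 1 ≤ D P := pos_of_mul_pos_right hP (Int.natCast_nonneg _)
  have hM' : D M ≤ -1 := by
    rw [neg_pos] at hM
    rcases le_or_gt (D M) (-1) with h | h
    · exact h
    · exact absurd hM (not_lt.2 (mul_nonneg (Int.natCast_nonneg _) (by omega)))
  have hPM : P ≠ M := by
    rintro rfl
    omega
  refine ⟨P, M, hPM, fun x => ?_⟩
  have hs : ∑ y ∈ ({P, M} : Finset X), D y ^ 2 + ∑ y ∈ ({P, M} : Finset X)ᶜ, D y ^ 2 = 2 := by
    rw [Finset.sum_add_sum_compl, h2]
  rw [Finset.sum_pair hPM] at hs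
  have hP2 : (1 : ℤ) ≤ D P ^ 2 := one_le_pow₀ hP'
  have hM2 : (1 : ℤ) ≤ D M ^ 2 := by rw [← neg_sq]; exact one_le_pow₀ (by omega)
  have hrest : ∑ y ∈ ({P, M} : Finset X)ᶜ, D y ^ 2 = 0 :=
    le_antisymm (by linarith) (Finset.sum_nonneg fun _ _ => sq_nonneg _)
  have hP1 : D P = 1 := by
    have h : D P ^ 2 = 1 := by linarith
    rcases sq_eq_one_iff.1 h with h | h <;> omega
  have hM1 : D M = -1 := by
    have h : D M ^ 2 = 1 := by linarith
    rcases sq_eq_one_iff.1 h with h | h <;> omega
  by_cases hxP : x = P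
  · subst hxP
    rw [if_pos rfl, if_neg hPM, sub_zero, hP1]
  by_cases hxM : x = M
  · subst hxM
    rw [if_neg hPM.symm, if_pos rfl, zero_sub, hM1]
  rw [if_neg hxP, if_neg hxM, sub_zero]
  exact sq_eq_zero_iff.1 ((Finset.sum_eq_zero_iff_of_nonneg fun _ _ => sq_nonneg _).1 hrest x
    (by simp [hxP, hxM]))

/-- The support of the matrix is small; when it is as large as possible, all columns share a
vector with entries of absolute value one and differ by one further signed unit entry each. -/
theorem gram_support {X J : Type*} [Fintype X] [Fintype J] [Nonempty J] [DecidableEq X]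
    [DecidableEq J] (A : X → J → ℤ) (d : X → ℕ) (f : ℕ) (hd : ∀ x, 0 < d x)
    (hgram : ∀ i j, ∑ x, A x i * A x j = f + if i = j then 1 else 0)
    (h0 : ∀ j, ∑ x, (d x : ℤ) * A x j = 0) :
    Nat.card {x // ∃ j, A x j ≠ 0} ≤ Fintype.card J + f ∧
      (Nat.card {x // ∃ j, A x j ≠ 0} = Fintype.card J + f →
        ∃ (e : J → X) (ε : ℤ) (b : X → ℤ), Function.Injective e ∧ (ε = 1 ∨ ε = -1) ∧
          (∀ j, b (e j) = 0) ∧ (∀ x j, A x j = b x + if e j = x then ε else 0) ∧
          (∀ x, b x = 0 ∨ b x = 1 ∨ b x = -1)) := by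
  classical
  set T := Finset.univ.filter fun x => ∃ j, A x j ≠ 0 with hT
  have hcard : Nat.card {x // ∃ j, A x j ≠ 0} = T.card := by
    rw [Nat.card_eq_fintype_card, Fintype.card_subtype]
  rw [hcard]
  obtain ⟨j₀⟩ := ‹Nonempty J›
  rcases subsingleton_or_nontrivial J with hJ | hJ
  · have hJ1 : Fintype.card J = 1 :=
      le_antisymm (Fintype.card_le_one_iff_subsingleton.2 hJ) Fintype.card_pos
    have hsum : ∑ x ∈ T, A x j₀ ^ 2 = (f : ℤ) + 1 := by
      rw [Finset.sum_filter_of_ne fun x _ hx => ⟨j₀, fun h => hx (by rw [h]; simp)⟩]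
      simpa [sq] using hgram j₀ j₀
    have hone : ∀ x ∈ T, (1 : ℤ) ≤ A x j₀ ^ 2 := fun x hx => by
      obtain ⟨j, hj⟩ := (Finset.mem_filter.1 hx).2
      rw [Subsingleton.elim j j₀] at hj
      have := sq_pos_iff.2 hj
      omega
    constructor
    · have h := Finset.card_nsmul_le_sum T _ 1 hone
      rw [hsum, nsmul_one] at h
      omega
    intro heq
    have hT1 : ∀ x ∈ T, A x j₀ = 1 ∨ A x j₀ = -1 := fun x hx => sq_eq_one_iff.1
      (((Finset.sum_eq_sum_iff_of_le hone).1 (by
        rw [hsum, Finset.sum_const, nsmul_one, heq]; push_cast; rw [hJ1]; push_cast; ring) x hx).symm)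
    obtain ⟨x₀, hx₀⟩ := Finset.card_pos.1 (by omega : 0 < T.card)
    refine ⟨fun _ => x₀, A x₀ j₀, fun x => if x = x₀ then 0 else A x j₀, fun _ _ _ => Subsingleton.elim _ _,
      hT1 x₀ hx₀, fun _ => if_pos rfl, fun x j => ?_, fun x => ?_⟩
    · rw [Subsingleton.elim j j₀]
      show _ = (if x = x₀ then 0 else A x j₀) + if x₀ = x then A x₀ j₀ else 0
      by_cases h : x = x₀
      · subst h; simp
      · simp [h, Ne.symm h]
    · show (if x = x₀ then 0 else A x j₀) = 0 ∨ _
      by_cases h : x = x₀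
      · exact Or.inl (if_pos h)
      simp only [if_neg h]
      by_cases hx : A x j₀ = 0
      · exact Or.inl hx
      · exact Or.inr (hT1 x (Finset.mem_filter.2 ⟨Finset.mem_univ _, j₀, hx⟩))
  -- the differences of two columns
  have hdiff : ∀ j, j ≠ j₀ → ∃ P M, P ≠ M ∧
      ∀ x, A x j - A x j₀ = (if x = P then 1 else 0) - (if x = M then 1 else 0) := by
    intro j hj
    refine exists_pair _ d hd ?_ (by simp only [mul_sub, Finset.sum_sub_distrib, h0, sub_self])
    have : ∀ x, (A x j - A x j₀) ^ 2 =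
        A x j * A x j + A x j₀ * A x j₀ - 2 * (A x j * A x j₀) := fun x => by ring
    simp only [this, Finset.sum_sub_distrib, Finset.sum_add_distrib, ← Finset.mul_sum, hgram,
      if_pos trivial, if_neg hj]
    ring
  choose P M hPM hD using hdiff
  have hdeg : ∀ j hj, d (P j hj) = d (M j hj) := by
    intro j hj
    have h : ∑ x, (d x : ℤ) * (A x j - A x j₀) = 0 := by
      simp only [mul_sub, Finset.sum_sub_distrib, h0, sub_self]
    simp only [hD j hj, mul_sub, Finset.sum_sub_distrib, mul_ite, mul_one, mul_zero,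
      Finset.sum_ite_eq', Finset.mem_univ, if_true] at h
    omega
  have hinner : ∀ i hi j hj, i ≠ j →
      ((if P i hi = P j hj then 1 else 0) + (if M i hi = M j hj then 1 else 0) : ℤ) =
        1 + (if P i hi = M j hj then 1 else 0) + (if M i hi = P j hj then 1 else 0) := by
    intro i hi j hj hij
    have h : ∑ x, (A x i - A x j₀) * (A x j - A x j₀) = 1 := by
      simp only [mul_sub, sub_mul, Finset.sum_sub_distrib, hgram, if_pos trivial, if_neg hij,
        if_neg hi, if_neg (Ne.symm hj)]
      ring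
    simp only [hD i hi, hD j hj, mul_sub, Finset.sum_sub_distrib, mul_ite, mul_one, mul_zero,
      Finset.sum_ite_eq', Finset.mem_univ, if_true] at h
    simp only [eq_comm (a := P i hi), eq_comm (a := M i hi)]
    linarith
  have hshare : ∀ i hi j hj, i ≠ j → P i hi = P j hj ∨ M i hi = M j hj := by
    intro i hi j hj hij
    by_contra hc
    rw [not_or] at hc
    have h := hinner i hi j hj hij
    rw [if_neg hc.1, if_neg hc.2] at h
    split_ifs at h <;> omega
  obtain ⟨j₁, hj₁⟩ := exists_ne j₀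
  have hall : (∀ j hj, P j hj = P j₁ hj₁) ∨ (∀ j hj, M j hj = M j₁ hj₁) := by
    by_contra hc
    rw [not_or] at hc
    simp only [not_forall] at hc
    obtain ⟨⟨j, hj, hjP⟩, k, hk, hkM⟩ := hc
    have hjM : M j hj = M j₁ hj₁ :=
      (hshare j hj j₁ hj₁ (by rintro rfl; exact hjP rfl)).resolve_left hjP
    have hkP : P k hk = P j₁ hj₁ :=
      (hshare k hk j₁ hj₁ (by rintro rfl; exact hkM rfl)).resolve_right hkM
    rcases hshare j hj k hk (by rintro rfl; exact hkM hjM) with h | h
    · exact hjP (h.trans hkP)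
    · exact hkM (h.symm.trans hjM)
  have hstar : ∃ (e : J → X) (ε : ℤ), Function.Injective e ∧ (ε = 1 ∨ ε = -1) ∧
      ∀ x j, A x j - A x j₀ = ε * ((if e j = x then 1 else 0) - (if e j₀ = x then 1 else 0)) := by
    rcases hall with h | h
    · refine ⟨fun j => if hj : j = j₀ then P j₁ hj₁ else M j hj, -1, fun i j hij => ?_, Or.inr rfl,
        fun x j => ?_⟩
      · by_cases hi : i = j₀
        · by_cases hj : j = j₀
          · rw [hi, hj]
          · simp only [dif_pos hi, dif_neg hj] at hij
            exact absurd ((h j hj).trans hij) (hPM j hj)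
        · by_cases hj : j = j₀
          · simp only [dif_neg hi, dif_pos hj] at hij
            exact absurd ((h i hi).trans hij.symm) (hPM i hi)
          · simp only [dif_neg hi, dif_neg hj] at hij
            by_contra hne
            have h' := hinner i hi j hj hne
            rw [if_pos ((h i hi).trans (h j hj).symm), if_pos hij] at h'
            rw [if_neg (hij ▸ hPM i hi), if_neg (hij ▸ (hPM j hj).symm)] at h'
            omega
      · by_cases hj : j = j₀
        · subst hj; simp
        · simp only [dif_pos, dif_neg hj, hD j hj x, h j hj, eq_comm (a := x)]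
          ring
    · refine ⟨fun j => if hj : j = j₀ then M j₁ hj₁ else P j hj, 1, fun i j hij => ?_, Or.inl rfl,
        fun x j => ?_⟩
      · by_cases hi : i = j₀
        · by_cases hj : j = j₀
          · rw [hi, hj]
          · simp only [dif_pos hi, dif_neg hj] at hij
            exact absurd (hij.symm.trans (h j hj).symm) (hPM j hj)
        · by_cases hj : j = j₀
          · simp only [dif_neg hi, dif_pos hj] at hij
            exact absurd (hij.trans (h i hi).symm) (hPM i hi)
          · simp only [dif_neg hi, dif_neg hj] at hij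
            by_contra hne
            have h' := hinner i hi j hj hne
            rw [if_pos hij, if_pos ((h i hi).trans (h j hj).symm)] at h'
            rw [if_neg (hij ▸ (hPM j hj) : P i hi ≠ M j hj),
              if_neg (hij ▸ (hPM i hi).symm : M i hi ≠ P j hj)] at h'
            omega
      · by_cases hj : j = j₀
        · subst hj; simp
        · simp only [dif_pos, dif_neg hj, hD j hj x, h j hj, eq_comm (a := x)]
          ring
  obtain ⟨e, ε, he, hε, hA⟩ := hstar
  set C : X → ℤ := fun x => A x j₀ - if e j₀ = x then ε else 0 with hC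
  have hAC : ∀ x j, A x j = C x + if e j = x then ε else 0 := by
    intro x j
    have := hA x j
    rw [mul_sub, mul_ite, mul_one, mul_zero, mul_ite, mul_one, mul_zero] at this
    simp only [hC]
    linarith
  have hε2 : ε * ε = 1 := by rcases hε with rfl | rfl <;> norm_num
  have hg2 : ∀ i, ∑ x, C x ^ 2 + 2 * ε * C (e i) = (f : ℤ) := by
    intro i
    have h := hgram i i
    simp only [hAC, add_mul, mul_add, ite_mul, zero_mul, mul_ite, mul_zero, Finset.sum_add_distrib,
      Finset.sum_ite_eq, Finset.mem_univ, if_true, hε2, if_pos trivial] at h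
    simp only [sq]
    linarith
  set c := C (e j₀) with hc
  have hce : ∀ j, C (e j) = c := fun j => by
    have h := (hg2 j).trans (hg2 j₀).symm
    rcases hε with rfl | rfl <;> linarith
  set E := Finset.univ.image e with hE
  have hEc : E.card = Fintype.card J := by
    rw [hE, Finset.card_image_of_injective _ he, Finset.card_univ]
  have hsplit : ∑ x ∈ Eᶜ, C x ^ 2 + ((Fintype.card J : ℤ) * c ^ 2 + 2 * ε * c) = (f : ℤ) := by
    rw [← hg2 j₀, ← Finset.sum_add_sum_compl E]
    rw [hE, Finset.sum_image fun _ _ _ _ h => he h]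
    simp only [hce, Finset.sum_const, Finset.card_univ, nsmul_eq_mul]
    ring
  have hJ2 : (2 : ℤ) ≤ Fintype.card J := by exact_mod_cast Fintype.one_lt_card
  have hpos : 0 ≤ (Fintype.card J : ℤ) * c ^ 2 + 2 * ε * c := by
    rcases eq_or_ne c 0 with h | h
    · simp [h]
    have h1 : 2 * c ^ 2 ≤ (Fintype.card J : ℤ) * c ^ 2 :=
      mul_le_mul_of_nonneg_right hJ2 (sq_nonneg c)
    have h2 : |c| ≤ |c| * |c| := le_mul_of_one_le_left (abs_nonneg c) (Int.one_le_abs h)
    rw [← sq, sq_abs] at h2
    have h3 := le_abs_self c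
    have h4 := neg_abs_le c
    rcases hε with rfl | rfl <;> linarith
  set F := Eᶜ.filter fun x => C x ≠ 0 with hF
  have hTsub : T ⊆ E ∪ F := by
    intro x hx
    by_cases hxE : x ∈ E
    · exact Finset.mem_union_left _ hxE
    refine Finset.mem_union_right _ (Finset.mem_filter.2 ⟨Finset.mem_compl.2 hxE, fun h => ?_⟩)
    obtain ⟨j, hj⟩ := (Finset.mem_filter.1 hx).2
    have hne : e j ≠ x := fun he' => hxE (he' ▸ Finset.mem_image_of_mem e (Finset.mem_univ j))
    rw [hAC, h, zero_add, if_neg hne] at hj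
    exact hj rfl
  have hone : ∀ x ∈ F, (1 : ℤ) ≤ C x ^ 2 := fun x hx => by
    have := sq_pos_iff.2 (Finset.mem_filter.1 hx).2
    omega
  have hFsum : ∑ x ∈ F, C x ^ 2 = ∑ x ∈ Eᶜ, C x ^ 2 :=
    Finset.sum_filter_of_ne fun x _ hx h => hx (by rw [h]; simp)
  have hFle : (F.card : ℤ) ≤ ∑ x ∈ Eᶜ, C x ^ 2 := by
    have h := Finset.card_nsmul_le_sum F _ 1 hone
    rwa [nsmul_one, hFsum] at h
  have hTle : (T.card : ℤ) ≤ Fintype.card J + F.card := by
    exact_mod_cast (Finset.card_le_card hTsub).trans ((Finset.card_union_le _ _).trans_eq (by rw [hEc]))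
  refine ⟨by omega, fun heq => ?_⟩
  have hzero : (Fintype.card J : ℤ) * c ^ 2 + 2 * ε * c = 0 := by omega
  have hF1 : ∀ x, x ∉ E → C x = 0 ∨ C x = 1 ∨ C x = -1 := by
    intro x hx
    by_cases h : C x = 0
    · exact Or.inl h
    refine Or.inr (sq_eq_one_iff.1 (((Finset.sum_eq_sum_iff_of_le hone).1 ?_ x
      (Finset.mem_filter.2 ⟨Finset.mem_compl.2 hx, h⟩)).symm))
    rw [Finset.sum_const, nsmul_one, hFsum]
    omega
  set b : X → ℤ := fun x => if x ∈ E then 0 else C x with hb
  have hbe : ∀ j, b (e j) = 0 := fun j => if_pos (Finset.mem_image_of_mem e (Finset.mem_univ j))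
  have hb1 : ∀ x, b x = 0 ∨ b x = 1 ∨ b x = -1 := fun x => by
    by_cases h : x ∈ E
    · exact Or.inl (if_pos h)
    · simp only [hb, if_neg h]; exact hF1 x h
  rcases eq_or_ne c 0 with hc0 | hc0
  · refine ⟨e, ε, b, he, hε, hbe, fun x j => ?_, hb1⟩
    rw [hAC]
    by_cases h : x ∈ E
    · obtain ⟨i, -, rfl⟩ := Finset.mem_image.1 h
      rw [hce, hc0, hbe]
    · simp only [hb, if_neg h]
  -- two columns, with the two exceptional rows interchanged
  have hlin : (Fintype.card J : ℤ) * c + 2 * ε = 0 := by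
    refine mul_right_cancel₀ hc0 ?_
    rw [zero_mul, ← hzero]; ring
  have hc1 : (Fintype.card J : ℤ) * |c| = 2 := by
    have : (Fintype.card J : ℤ) * c = -(2 * ε) := by linarith
    rw [← Nat.abs_cast (Fintype.card J), ← abs_mul, this]
    rcases hε with rfl | rfl <;> norm_num
  have habs : |c| = 1 := by
    have h1 := Int.one_le_abs hc0
    have h2 : 2 * |c| ≤ 2 := (mul_le_mul_of_nonneg_right hJ2 (abs_nonneg c)).trans_eq hc1
    omega
  rw [habs, mul_one] at hc1
  have hc' : c = -ε := by
    rw [hc1] at hlin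
    linarith
  obtain ⟨a₁, a₂, ha12, hpair⟩ : ∃ a₁ a₂, a₁ ≠ a₂ ∧ (Finset.univ : Finset J) = {a₁, a₂} :=
    Finset.card_eq_two.1 (by rw [Finset.card_univ]; exact_mod_cast hc1)
  set s := Equiv.swap a₁ a₂ with hs
  refine ⟨fun j => e (s j), -ε, b, he.comp s.injective, by omega, fun j => hbe _, fun x j => ?_, hb1⟩
  rw [hAC]
  by_cases h : x ∈ E
  · obtain ⟨i, -, rfl⟩ := Finset.mem_image.1 h
    rw [hce, hc', hbe, zero_add]
    simp only [he.eq_iff]
    have hi : i = a₁ ∨ i = a₂ := by
      have := hpair ▸ Finset.mem_univ i; simpa using this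
    have hj : j = a₁ ∨ j = a₂ := by
      have := hpair ▸ Finset.mem_univ j; simpa using this
    rcases hi with rfl | rfl <;> rcases hj with rfl | rfl <;>
      simp [hs, ha12, ha12.symm]
  · simp only [hb, if_neg h]
    rw [if_neg, if_neg] <;> exact fun he' => h (he' ▸ Finset.mem_image_of_mem e (Finset.mem_univ _))

end Cfsg.Agent.H43.D1
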