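import Mathlib

/-!
# A prime dividing the group order exactly once: the local setting
-/

set_option autoImplicit false
set_option maxHeartbeats 800000

namespace Cfsg.Agent.H43.D1

/-- An element of order `p` generating a Sylow subgroup and a complement of it in its normalizer. -/
structure Setup (p : ℕ) (G : Type*) [Group G] where
  x : G
  L : Subgroup G
  orderOf_x : orderOf x = p
  not_sq : ¬ p ^ 2 ∣ Nat.card G
  le_norm : ∀ l ∈ L, l * x * l⁻¹ ∈ Subgroup.zpowers x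
  not_dvd : ¬ p ∣ Nat.card L
  exists_mul : ∀ g : G, g * x * g⁻¹ ∈ Subgroup.zpowers x →
    ∃ l ∈ L, ∃ u ∈ Subgroup.zpowers x, g = l * u

namespace Setup

variable {p : ℕ} [hp : Fact p.Prime] {G : Type*} [Group G] [Finite G] (S : Setup p G)

/-- The Sylow subgroup. -/
abbrev P : Subgroup G := Subgroup.zpowers S.x

omit [Finite G] in
theorem card_P : Nat.card S.P = p := by rw [Nat.card_zpowers, S.orderOf_x]

omit [Finite G] in
theorem x_ne_one : S.x ≠ 1 := fun h => hp.out.one_lt.ne (by rw [← S.orderOf_x, h, orderOf_one])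

omit hp [Finite G] in
theorem conj_mem {l u : G} (hl : l ∈ S.L) (hu : u ∈ S.P) : l * u * l⁻¹ ∈ S.P := by
  obtain ⟨i, rfl⟩ := Subgroup.mem_zpowers_iff.1 hu
  rw [← conj_zpow]
  exact Subgroup.zpow_mem _ (S.le_norm l hl) i

omit hp [Finite G] in
theorem conj_mem' {l u : G} (hl : l ∈ S.L) (hu : u ∈ S.P) : l⁻¹ * u * l ∈ S.P := by
  simpa using S.conj_mem (S.L.inv_mem hl) hu

theorem inf_eq_one {g : G} (hL : g ∈ S.L) (hP : g ∈ S.P) : g = 1 := by
  have h1 : orderOf g ∣ p := by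
    have := orderOf_dvd_natCard (⟨g, hP⟩ : S.P)
    rwa [Subgroup.orderOf_mk, S.card_P] at this
  have h2 : orderOf g ∣ Nat.card S.L := by
    have := orderOf_dvd_natCard (⟨g, hL⟩ : S.L)
    rwa [Subgroup.orderOf_mk] at this
  rcases (Nat.dvd_prime hp.out).1 h1 with h | h
  · exact orderOf_eq_one_iff.1 h
  · exact absurd (h ▸ h2) S.not_dvd

theorem mul_unique {l l' u u' : G} (hl : l ∈ S.L) (hl' : l' ∈ S.L) (hu : u ∈ S.P) (hu' : u' ∈ S.P)
    (h : l * u = l' * u') : l = l' ∧ u = u' := by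
  have h1 : l'⁻¹ * l = u' * u⁻¹ := by
    rw [eq_mul_inv_iff_mul_eq, mul_assoc, h, inv_mul_cancel_left]
  have h2 := S.inf_eq_one (S.L.mul_mem (S.L.inv_mem hl') hl)
    (h1 ▸ S.P.mul_mem hu' (S.P.inv_mem hu))
  have h3 : l = l' := by
    rw [inv_mul_eq_one] at h2; exact h2.symm
  exact ⟨h3, mul_left_cancel (h3 ▸ h)⟩

/-- The normalizer of the Sylow subgroup. -/
def N : Subgroup G where
  carrier := {g | ∀ u, u ∈ S.P ↔ g * u * g⁻¹ ∈ S.P}
  one_mem' := fun u => by simp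
  mul_mem' := fun {a b} ha hb u => by
    rw [hb u, ha]
    simp [mul_assoc]
  inv_mem' := fun {a} ha u => by
    rw [ha (a⁻¹ * u * a⁻¹⁻¹)]
    simp [mul_assoc]

omit hp [Finite G] in
theorem mem_N_iff {g : G} : g ∈ S.N ↔ ∃ l ∈ S.L, ∃ u ∈ S.P, g = l * u := by
  constructor
  · intro h
    exact S.exists_mul g ((h S.x).1 (Subgroup.mem_zpowers S.x))
  · rintro ⟨l, hl, u, hu, rfl⟩ v
    constructor
    · intro hv
      rw [show l * u * v * (l * u)⁻¹ = l * (u * v * u⁻¹) * l⁻¹ by group]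
      exact S.conj_mem hl (S.P.mul_mem (S.P.mul_mem hu hv) (S.P.inv_mem hu))
    · intro hv
      have h := S.conj_mem' hl hv
      rw [show l⁻¹ * (l * u * v * (l * u)⁻¹) * l = u * v * u⁻¹ by group] at h
      have h2 := S.P.mul_mem (S.P.mul_mem (S.P.inv_mem hu) h) hu
      rwa [show u⁻¹ * (u * v * u⁻¹) * u = v by group] at h2

omit hp [Finite G] in
theorem P_le_N : S.P ≤ S.N := fun u hu =>
  S.mem_N_iff.2 ⟨1, S.L.one_mem, u, hu, (one_mul u).symm⟩

omit hp [Finite G] in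
theorem L_le_N : S.L ≤ S.N := fun l hl =>
  S.mem_N_iff.2 ⟨l, hl, 1, S.P.one_mem, (mul_one l).symm⟩

theorem mem_N_of_conj_mem {g : G} (h : g * S.x * g⁻¹ ∈ S.P) : g ∈ S.N :=
  S.mem_N_iff.2 (S.exists_mul g h)

/-- An element of order `p` of the normalizer lies in the Sylow subgroup. -/
theorem mem_P_of_pow {y : G} (hy : y ∈ S.N) (hyp : y ^ p = 1) : y ∈ S.P := by
  obtain ⟨l, hl, u, hu, rfl⟩ := S.mem_N_iff.1 hy
  have hnorm : ∀ n : ℕ, ∃ v ∈ S.P, (l * u) ^ n = l ^ n * v := by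
    intro n
    induction n with
    | zero => exact ⟨1, S.P.one_mem, by simp⟩
    | succ n ih =>
      obtain ⟨v, hv, e⟩ := ih
      refine ⟨(l⁻¹ * v * l) * u, S.P.mul_mem (S.conj_mem' hl hv) hu, ?_⟩
      rw [pow_succ, e, pow_succ]
      group
  obtain ⟨v, hv, e⟩ := hnorm p
  rw [hyp] at e
  have h1 := (S.mul_unique (S.L.one_mem) (S.L.pow_mem hl p) (S.P.one_mem) hv
    (by rw [one_mul]; exact e)).1
  have h2 : orderOf l ∣ Nat.card S.L := by
    have := orderOf_dvd_natCard (⟨l, hl⟩ : S.L)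
    rwa [Subgroup.orderOf_mk] at this
  have h3 : l = 1 := by
    rcases (Nat.dvd_prime hp.out).1 (orderOf_dvd_of_pow_eq_one h1.symm) with h | h
    · exact orderOf_eq_one_iff.1 h
    · exact absurd (h ▸ h2) S.not_dvd
  rw [h3, one_mul]
  exact hu

/-- The Sylow subgroup fixes only the trivial coset of its normalizer. -/
theorem mem_N_of_fix {g u : G} (hu : u ∈ S.P) (hu1 : u ≠ 1) (h : g⁻¹ * u * g ∈ S.N) : g ∈ S.N := by
  have hcard := S.card_P
  have hP : (g⁻¹ * u * g) ∈ S.P := by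
    refine S.mem_P_of_pow h ?_
    have h1 : u ^ p = 1 := by
      have := pow_card_eq_one' (G := S.P) (x := ⟨u, hu⟩)
      rw [hcard] at this
      exact congrArg Subtype.val this
    rw [show g⁻¹ * u * g = g⁻¹ * u * g⁻¹⁻¹ by simp, conj_pow, h1]
    simp
  have : Fact (Nat.card S.P).Prime := ⟨hcard.symm ▸ hp.out⟩
  obtain ⟨i, hi⟩ : ∃ i : ℤ, u ^ i = S.x := by
    have htop : Subgroup.zpowers (⟨u, hu⟩ : S.P) = ⊤ :=
      (Subgroup.eq_bot_or_eq_top_of_prime_card _).resolve_left fun hbot =>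
        hu1 (congrArg Subtype.val (Subgroup.zpowers_eq_bot.1 hbot))
    have hx : (⟨S.x, Subgroup.mem_zpowers S.x⟩ : S.P) ∈ Subgroup.zpowers (⟨u, hu⟩ : S.P) :=
      htop ▸ Subgroup.mem_top _
    obtain ⟨i, hi⟩ := Subgroup.mem_zpowers_iff.1 hx
    exact ⟨i, congrArg Subtype.val hi⟩
  have hx : g⁻¹ * S.x * g⁻¹⁻¹ ∈ S.P := by
    rw [← hi, ← conj_zpow]
    exact S.P.zpow_mem (by rwa [inv_inv]) i
  simpa using S.N.inv_mem (S.mem_N_of_conj_mem hx)

theorem N_eq_normalizer : S.N = Subgroup.normalizer (S.P : Set G) := by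
  ext g
  rw [Subgroup.mem_normalizer_iff]
  rfl

end Setup

/-- The local setting exists. -/
theorem exists_setup {p : ℕ} [hp : Fact p.Prime] {G : Type*} [Group G] [Finite G]
    (hdiv : p ∣ Nat.card G) (hsq : ¬ p ^ 2 ∣ Nat.card G) {P : Subgroup G} (hP : Nat.card P = p) :
    ∃ S : Setup p G, S.P = P := by
  have : Fact (Nat.card P).Prime := ⟨hP.symm ▸ hp.out⟩
  obtain ⟨x, hx⟩ := exists_prime_orderOf_dvd_card' (G := P) p (hP ▸ dvd_rfl)
  have hgen : Subgroup.zpowers (x : G) = P := by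
    refine Subgroup.eq_of_le_of_card_ge (Subgroup.zpowers_le.2 x.2) ?_
    rw [Nat.card_zpowers, Subgroup.orderOf_coe, hx, hP]
  set N := Subgroup.normalizer (P : Set G) with hNdef
  have hPN : P ≤ N := Subgroup.le_normalizer
  have hnot : ¬ p ∣ (P.subgroupOf N).index := by
    intro h
    refine hsq ?_
    have h1 : p * p ∣ Nat.card (P.subgroupOf N) * (P.subgroupOf N).index :=
      mul_dvd_mul (by rw [Nat.card_congr (Subgroup.subgroupOfEquivOfLe hPN).toEquiv, hP]) h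
    rw [Subgroup.card_mul_index, ← sq] at h1
    exact h1.trans N.card_subgroup_dvd_card
  have : (P.subgroupOf N).Normal := Subgroup.normal_subgroupOf_of_le_normalizer le_rfl
  obtain ⟨Q, hQ⟩ := Subgroup.exists_right_complement'_of_coprime (N := P.subgroupOf N) (by
    rw [Nat.card_congr (Subgroup.subgroupOfEquivOfLe hPN).toEquiv, hP]
    exact hp.out.coprime_iff_not_dvd.2 hnot)
  have hQcard : Nat.card (Q.map N.subtype) = (P.subgroupOf N).index := by
    rw [Subgroup.card_map_of_injective Subtype.val_injective,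
      (Subgroup.IsComplement'.index_eq_card hQ.symm)]
  refine ⟨⟨x, Q.map N.subtype, by rw [Subgroup.orderOf_coe, hx], hsq, ?_, ?_, ?_⟩, hgen⟩
  · rintro l ⟨q, -, rfl⟩
    rw [hgen]
    exact (Subgroup.mem_normalizer_iff.1 q.2 x).1 x.2
  · rw [hQcard]; exact hnot
  · intro g hg
    rw [hgen] at hg ⊢
    have hgN : g ∈ N := by
      rw [hNdef, Subgroup.mem_normalizer_iff_map_conj_eq]
      refine Subgroup.eq_of_le_of_card_ge ?_ ?_
      · rintro _ ⟨v, hv, rfl⟩
        rw [← hgen] at hv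
        obtain ⟨i, rfl⟩ := Subgroup.mem_zpowers_iff.1 hv
        rw [map_zpow]
        exact Subgroup.zpow_mem _ hg i
      · exact (Subgroup.card_map_of_injective (MulAut.conj g).injective).ge
    obtain ⟨⟨q, u⟩, hqu⟩ := (hQ.symm.2 : Function.Surjective _) ⟨g, hgN⟩
    exact ⟨_, ⟨q.1, q.2, rfl⟩, _, u.2, congrArg Subtype.val hqu.symm⟩

end Cfsg.Agent.H43.D1
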