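import Mathlib
import Cfsg.Agent.H43.D1.ModP
import Cfsg.Agent.H43.D1.Setup

/-!
# Stable kernels of a Sylow subgroup of prime order on modular representations

For a representation of `G` in characteristic `p` and `x` of order `p` we compare the kernel of the
norm `∑_{u ∈ ⟨x⟩} u` with the image of `x - 1`.
-/

set_option autoImplicit false
set_option maxHeartbeats 800000

namespace Cfsg.Agent.H43.D1

open Module

variable {k : Type*} [Field k] {G : Type*} [Group G] [Fintype G] {p : ℕ} [hp : Fact p.Prime]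
  [CharP k p] {V : Type*} [AddCommGroup V] [Module k V]

/-- The endomorphism `x - 1`. -/
def delta (ρ : G →* Module.End k V) (x : G) : Module.End k V := ρ x - 1

/-- The norm of the cyclic subgroup generated by `x`. -/
noncomputable def normP (ρ : G →* Module.End k V) (x : G) : Module.End k V := by
  classical exact ∑ u : Subgroup.zpowers x, ρ (u : G)

theorem normP_apply (ρ : G →* Module.End k V) (x : G) [Fintype (Subgroup.zpowers x)] (v : V) :
    normP ρ x v = ∑ u : Subgroup.zpowers x, ρ (u : G) v := by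
  rw [normP, LinearMap.sum_apply]
  exact Finset.sum_congr (Finset.ext fun _ => by simp) fun _ _ => rfl

omit [CharP k p] in
theorem normP_eq_sum_range (ρ : G →* Module.End k V) {x : G} (hx : orderOf x = p) :
    normP ρ x = ∑ i ∈ Finset.range p, ρ x ^ i := by
  classical
  rw [normP, ← Fin.sum_univ_eq_sum_range (fun i => ρ x ^ i) p]
  refine (Fintype.sum_equiv ((finCongr hx.symm).trans (finEquivZPowers (isOfFinOrder_of_finite x)))
    _ _ fun i => ?_).symm
  simp [finEquivZPowers_apply]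

omit [Fintype G] in
/-- In characteristic `p` the geometric sum is a power of `a - 1`. -/
theorem geom_sum_eq_sub_one_pow {A : Type*} [Ring A] [Algebra k A] (a : A) :
    ∑ i ∈ Finset.range p, a ^ i = (a - 1) ^ (p - 1) := by
  have h : (∑ i ∈ Finset.range p, (Polynomial.X : Polynomial k) ^ i) =
      (Polynomial.X - 1) ^ (p - 1) := by
    refine mul_right_cancel₀ (by simpa using Polynomial.X_sub_C_ne_zero (1 : k)) ?_
    rw [geom_sum_mul, ← pow_succ, Nat.sub_add_cancel hp.out.one_lt.le, sub_pow_char, one_pow]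
  have h2 := congrArg (Polynomial.aeval a) h
  simpa using h2

theorem normP_eq_pow (ρ : G →* Module.End k V) {x : G} (hx : orderOf x = p) :
    normP ρ x = delta ρ x ^ (p - 1) := by
  rw [normP_eq_sum_range ρ hx, geom_sum_eq_sub_one_pow (k := k) (p := p), delta]

theorem delta_pow_eq_zero (ρ : G →* Module.End k V) {x : G} (hx : orderOf x = p) :
    delta ρ x ^ p = 0 := by
  have h : normP ρ x * delta ρ x = 0 := by
    rw [normP_eq_sum_range ρ hx, delta, geom_sum_mul, ← map_pow, ← hx, pow_orderOf_eq_one, map_one,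
      sub_self]
  rwa [normP_eq_pow ρ hx, ← pow_succ, Nat.sub_add_cancel hp.out.one_lt.le] at h

theorem range_le_ker (ρ : G →* Module.End k V) {x : G} (hx : orderOf x = p) :
    LinearMap.range (delta ρ x) ≤ LinearMap.ker (normP ρ x) := by
  rintro _ ⟨v, rfl⟩
  rw [LinearMap.mem_ker, normP_eq_pow ρ hx, ← Module.End.mul_apply, ← pow_succ,
    Nat.sub_add_cancel hp.out.one_lt.le, delta_pow_eq_zero ρ hx, LinearMap.zero_apply]

omit [CharP k p] in
theorem sub_mem_range (ρ : G →* Module.End k V) {x u : G} (hu : u ∈ Subgroup.zpowers x) (v : V) :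
    ρ u v - v ∈ LinearMap.range (delta ρ x) := by
  obtain ⟨n, rfl⟩ := (mem_powers_iff_mem_zpowers (x := x) (y := u)).2 hu
  refine ⟨(∑ i ∈ Finset.range n, ρ x ^ i) v, ?_⟩
  show delta ρ x ((∑ i ∈ Finset.range n, ρ x ^ i) v) = ρ (x ^ n) v - v
  rw [← Module.End.mul_apply, delta, mul_geom_sum, ← map_pow, LinearMap.sub_apply,
    Module.End.one_apply]

/-- A sum over a set on which `⟨x⟩` acts freely by conjugation maps the kernel of the norm into the
image of `x - 1`. -/
theorem sum_free_mem {α : Type*} {x : G} [MulAction (Subgroup.zpowers x) α]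
    (ρ : G →* Module.End k V) (s : Finset α)
    (hs : ∀ (u : Subgroup.zpowers x), ∀ a ∈ s, u • a ∈ s)
    (hfree : ∀ (u : Subgroup.zpowers x), ∀ a ∈ s, u • a = a → u = 1)
    (F : α → Module.End k V)
    (hF : ∀ (u : Subgroup.zpowers x), ∀ a ∈ s,
      F (u • a) = ρ (u : G) * F a * ρ (u : G)⁻¹) {v : V} (hv : normP ρ x v = 0) :
    (∑ a ∈ s, F a) v ∈ LinearMap.range (delta ρ x) := by
  classical
  let w : α → k := fun a =>
    if (Quotient.mk (MulAction.orbitRel (Subgroup.zpowers x) α) a).out = a then 1 else 0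
  have hw : ∀ a ∈ s, ∑ u : Subgroup.zpowers x, w (u • a) = 1 := by
    intro a ha
    obtain ⟨u₀, hu₀⟩ : ∃ u₀ : Subgroup.zpowers x,
        u₀ • a = (Quotient.mk (MulAction.orbitRel (Subgroup.zpowers x) α) a).out :=
      Quotient.mk_out (s := MulAction.orbitRel (Subgroup.zpowers x) α) a
    rw [Finset.sum_eq_single u₀ (fun u _ hu => ?_) (fun h => absurd (Finset.mem_univ _) h)]
    · show (if _ then (1 : k) else 0) = 1
      rw [if_pos]
      rw [Quotient.sound (⟨u₀, rfl⟩ : (MulAction.orbitRel (Subgroup.zpowers x) α).r (u₀ • a) a)]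
      exact hu₀.symm
    · show (if _ then (1 : k) else 0) = 0
      rw [if_neg]
      intro h
      rw [Quotient.sound (⟨u, rfl⟩ : (MulAction.orbitRel (Subgroup.zpowers x) α).r (u • a) a),
        ← hu₀] at h
      refine hu ((inv_mul_eq_one.1 (hfree (u₀⁻¹ * u) a ha ?_)).symm)
      rw [mul_smul, ← h, inv_smul_smul]
  set B := ∑ a ∈ s, w a • F a with hB
  have hshift : ∀ u : Subgroup.zpowers x,
      ρ (u : G)⁻¹ * B * ρ (u : G) = ∑ a ∈ s, w (u • a) • F a := by
    intro u
    rw [hB, Finset.mul_sum, Finset.sum_mul]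
    refine Finset.sum_bij' (fun a _ => u⁻¹ • a) (fun a _ => u • a) (fun a ha => hs _ a ha)
      (fun a ha => hs _ a ha) (fun a _ => smul_inv_smul u a) (fun a _ => inv_smul_smul u a)
      (fun a ha => ?_)
    rw [smul_inv_smul, hF _ a ha, mul_smul_comm, smul_mul_assoc]
    simp
  have hsum : ∑ a ∈ s, F a = ∑ u : Subgroup.zpowers x, ρ (u : G)⁻¹ * B * ρ (u : G) := by
    simp only [hshift]
    rw [Finset.sum_comm]
    refine Finset.sum_congr rfl fun a ha => ?_
    rw [← Finset.sum_smul, hw a ha, one_smul]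
  rw [hsum, LinearMap.sum_apply]
  have h0 : ∑ u : Subgroup.zpowers x, B (ρ (u : G) v) = 0 := by
    rw [← map_sum, ← normP_apply, hv, map_zero]
  rw [show (∑ u : Subgroup.zpowers x, (ρ (u : G)⁻¹ * B * ρ (u : G)) v) =
      ∑ u : Subgroup.zpowers x, ((ρ (u : G)⁻¹) (B (ρ (u : G) v)) - B (ρ (u : G) v)) by
    rw [Finset.sum_sub_distrib, h0, sub_zero]; rfl]
  exact Submodule.sum_mem _ fun u _ => sub_mem_range ρ (Subgroup.inv_mem _ u.2) _

/-- A full trace maps the kernel of the norm into the image of `x - 1`. -/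
theorem trace_mem (ρ : G →* Module.End k V) (x : G) (A : Module.End k V) {v : V}
    (hv : normP ρ x v = 0) :
    (∑ g, ρ g * A * ρ g⁻¹) v ∈ LinearMap.range (delta ρ x) := by
  refine sum_free_mem ρ Finset.univ (fun _ _ _ => Finset.mem_univ _) (fun u a _ h => ?_) _
    (fun u a _ => ?_) hv
  · exact Subtype.ext (mul_eq_right.1 h)
  · show ρ ((u : G) * a) * A * ρ ((u : G) * a)⁻¹ = _
    rw [map_mul, mul_inv_rev, map_mul]
    simp only [mul_assoc]

omit [CharP k p] in
theorem trace_comm (ρ : G →* Module.End k V) (A : Module.End k V) (h : G) :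
    ρ h * (∑ g, ρ g * A * ρ g⁻¹) = (∑ g, ρ g * A * ρ g⁻¹) * ρ h := by
  rw [Finset.mul_sum, Finset.sum_mul]
  refine Fintype.sum_equiv (Equiv.mulLeft h) _ _ fun g => ?_
  simp only [Equiv.coe_mulLeft, map_mul, mul_inv_rev, ← mul_assoc]
  simp only [mul_assoc, ← map_mul]
  simp

/-- The simplicity of the stable quotient of an irreducible module. -/
theorem quot_simple [IsAlgClosed k] [FiniteDimensional k V] (S : Setup p G)
    (ρ : G →* Module.End k V) (hρ : IsIrred ρ) (W : Submodule k V)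
    (hDW : LinearMap.range (delta ρ S.x) ≤ W) (hWK : W ≤ LinearMap.ker (normP ρ S.x))
    (hinv : ∀ l ∈ S.L, ∀ v ∈ W, ρ l v ∈ W) :
    W = LinearMap.range (delta ρ S.x) ∨ W = LinearMap.ker (normP ρ S.x) := by
  classical
  set δ := delta ρ S.x with hδ
  set D := LinearMap.range δ with hD
  set K := LinearMap.ker (normP ρ S.x) with hK
  by_contra hcon
  push Not at hcon
  obtain ⟨hWD, hWK'⟩ := hcon
  -- invariance of `D` and of the kernels of the powers of `δ`
  have hDinv : ∀ l ∈ S.L, ∀ v ∈ D, ρ l v ∈ D := by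
    rintro l hl _ ⟨w, rfl⟩
    have h : ρ l (δ w) = ρ (l * S.x * l⁻¹) (ρ l w) - ρ l w := by
      rw [← Module.End.mul_apply (ρ (l * S.x * l⁻¹)), ← map_mul, inv_mul_cancel_right, map_mul,
        Module.End.mul_apply, hδ, delta, LinearMap.sub_apply, Module.End.one_apply, map_sub]
    rw [h]
    exact sub_mem_range ρ (S.le_norm l hl) _
  have hkerinv : ∀ (j : ℕ), ∀ l ∈ S.L, ∀ v, (δ ^ j) v = 0 → (δ ^ j) (ρ l v) = 0 := by
    intro j l hl v hv
    have h1 := S.conj_mem' hl (Subgroup.mem_zpowers S.x)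
    obtain ⟨n, hn⟩ := (mem_powers_iff_mem_zpowers (x := S.x)).2 h1
    set c := ∑ i ∈ Finset.range n, ρ S.x ^ i
    have hδl : δ * ρ l = ρ l * (c * δ) := by
      have hcδ : c * δ = ρ (l⁻¹ * S.x * l) - 1 := by
        rw [hδ, delta, geom_sum_mul, ← map_pow, show S.x ^ n = l⁻¹ * S.x * l from hn]
      rw [hcδ, mul_sub, mul_one, ← map_mul, show l * (l⁻¹ * S.x * l) = S.x * l by group, hδ, delta,
        sub_mul, one_mul, map_mul]
    have hcc : Commute c δ :=
      Commute.sum_left _ _ _ fun i _ => by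
        rw [hδ, delta]
        exact ((Commute.refl (ρ S.x)).pow_left i).sub_right (Commute.one_right _)
    have hpow : ∀ m : ℕ, δ ^ m * ρ l = ρ l * (c * δ) ^ m := by
      intro m
      induction m with
      | zero => simp
      | succ m ih =>
        rw [pow_succ', mul_assoc, ih, ← mul_assoc, hδl, mul_assoc, ← pow_succ']
    rw [← Module.End.mul_apply, hpow, hcc.mul_pow, ← mul_assoc, Module.End.mul_apply, hv, map_zero]
  -- the first kernel not in `D`
  have hex : ∃ l, ¬ LinearMap.ker (δ ^ l) ≤ D := by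
    refine ⟨p - 1, fun h => hWD (le_antisymm ?_ hDW)⟩
    rw [← normP_eq_pow ρ S.orderOf_x] at h
    exact hWK.trans h
  set l := Nat.find hex with hl
  have hlD : ¬ LinearMap.ker (δ ^ l) ≤ D := Nat.find_spec hex
  have hl0 : 0 < l := by
    rcases Nat.eq_zero_or_pos l with h | h
    · exfalso; apply hlD; rw [h, pow_zero]; intro v hv
      rw [LinearMap.mem_ker, Module.End.one_apply] at hv
      rw [hv]; exact D.zero_mem
    · exact h
  have hlp : l ≤ p - 1 := by
    refine Nat.find_min' hex fun h => hWD (le_antisymm ?_ hDW)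
    rw [← normP_eq_pow ρ S.orderOf_x] at h
    exact hWK.trans h
  have hlK : LinearMap.ker (δ ^ l) ≤ K := by
    intro v hv
    rw [LinearMap.mem_ker] at hv
    rw [hK, LinearMap.mem_ker, normP_eq_pow ρ S.orderOf_x, ← hδ,
      show p - 1 = (p - 1 - l) + l by omega, pow_add, Module.End.mul_apply, hv, map_zero]
  have hprev : LinearMap.ker (δ ^ (l - 1)) ≤ D := by
    by_contra h
    have : l ≤ l - 1 := Nat.find_min' hex h
    omega
  -- choose a proper invariant layer `A`
  set U := LinearMap.ker (δ ^ l) ⊔ D with hU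
  have hUinv : ∀ g ∈ S.L, ∀ v ∈ U, ρ g v ∈ U := by
    intro g hg v hv
    rw [hU, Submodule.mem_sup] at hv ⊢
    obtain ⟨a, ha, b, hb, rfl⟩ := hv
    exact ⟨ρ g a, hkerinv l g hg a ha, ρ g b, hDinv g hg b hb, (map_add _ _ _).symm⟩
  have hUK : U ≤ K := sup_le hlK (range_le_ker ρ S.orderOf_x)
  obtain ⟨A, hDA, hAU, hAinv, hAK, a₀, ha₀A, ha₀D⟩ : ∃ A : Submodule k V, D ≤ A ∧ A ≤ U ∧
      (∀ g ∈ S.L, ∀ v ∈ A, ρ g v ∈ A) ∧ ¬ K ≤ A ∧ ∃ a ∈ A, a ∉ D := by
    by_cases h : W ⊓ U ≤ D
    · refine ⟨U, le_sup_right, le_rfl, hUinv, fun hKU => hWD (le_antisymm ?_ hDW), ?_⟩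
      · exact le_trans (le_inf le_rfl (hWK.trans hKU)) h
      · obtain ⟨a, ha, ha'⟩ := SetLike.not_le_iff_exists.1 hlD
        exact ⟨a, Submodule.mem_sup_left ha, ha'⟩
    · obtain ⟨a, ha, ha'⟩ := SetLike.not_le_iff_exists.1 h
      exact ⟨W ⊓ U, le_inf hDW le_sup_right, inf_le_right,
        fun g hg v hv => ⟨hinv g hg v hv.1, hUinv g hg v hv.2⟩,
        fun hKA => hWK' (le_antisymm hWK (hKA.trans inf_le_left)), a, ha, ha'⟩
  -- a projection `q` killing `D`, with values in `A ∩ ker δ ^ l`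
  obtain ⟨q, hqD, hqA, hqker, hqmod⟩ : ∃ q : Module.End k V, (∀ d ∈ D, q d = 0) ∧
      (∀ v, q v ∈ A) ∧ (∀ v, (δ ^ l) (q v) = 0) ∧ (∀ a ∈ A, q a - a ∈ D) := by
    set A1 := A ⊓ LinearMap.ker (δ ^ l) with hA1
    obtain ⟨A0, hA0⟩ := Submodule.exists_isCompl ((D ⊓ A1).comap A1.subtype)
    set A0' := A0.map A1.subtype with hA0'
    have hA0le : A0' ≤ A1 := by
      rintro _ ⟨z, -, rfl⟩; exact z.2
    have hdisj : Disjoint A0' D := by
      rw [Submodule.disjoint_def]
      rintro _ ⟨z, hz, rfl⟩ hzD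
      have h0 : z ∈ (D ⊓ A1).comap A1.subtype := ⟨hzD, z.2⟩
      have := Submodule.disjoint_def.1 hA0.disjoint z h0 hz
      rw [this]; rfl
    obtain ⟨C, hC⟩ := Submodule.exists_isCompl (A0' ⊔ D)
    have hcompl : IsCompl A0' (D ⊔ C) := by
      constructor
      · exact Disjoint.disjoint_sup_right_of_disjoint_sup_left hdisj hC.disjoint
      · rw [codisjoint_iff, ← sup_assoc]; exact hC.codisjoint.eq_top
    refine ⟨A0'.projectionOnto (D ⊔ C) hcompl |> fun P => A0'.subtype ∘ₗ P, fun d hd => ?_,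
      fun v => (hA0le (Submodule.coe_mem _)).1, fun v => (hA0le (Submodule.coe_mem _)).2,
      fun a ha => ?_⟩
    · rw [LinearMap.comp_apply, Submodule.projectionOnto_apply_of_mem_right hcompl
        (Submodule.mem_sup_left hd)]
      rfl
    · have ha' : a ∈ U := hAU ha
      rw [hU, Submodule.mem_sup] at ha'
      obtain ⟨b, hb, d, hd, rfl⟩ := ha'
      have hbA : b ∈ A := by
        have := A.sub_mem ha (hDA hd)
        rwa [add_sub_cancel_right] at this
      have hb1 : (⟨b, hbA, hb⟩ : A1) ∈ (⊤ : Submodule k A1) := Submodule.mem_top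
      rw [← hA0.sup_eq_top, Submodule.mem_sup] at hb1
      obtain ⟨y, hy, z, hz, hyz⟩ := hb1
      have hbeq : b = (y : V) + (z : V) := congrArg Subtype.val hyz.symm
      have hsum : b + d = (z : V) + ((y : V) + d) := by rw [hbeq]; abel
      have hzA0 : (z : V) ∈ A0' := ⟨z, hz, rfl⟩
      have hydD : (y : V) + d ∈ D ⊔ C := Submodule.mem_sup_left (D.add_mem hy.1 hd)
      rw [hsum, LinearMap.comp_apply, map_add,
        Submodule.projectionOnto_apply_of_mem_left hcompl hzA0,
        Submodule.projectionOnto_apply_of_mem_right hcompl hydD, add_zero]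
      show (z : V) - ((z : V) + ((y : V) + d)) ∈ D
      rw [sub_add_cancel_left]
      exact D.neg_mem (D.add_mem hy.1 hd)
  -- lift `q` to an endomorphism commuting with `δ`
  obtain ⟨Λ, hΛ0, hΛq, hΛker⟩ : ∃ Λ : Module.End k V, (∀ w, Λ ((δ ^ l) w) = 0) ∧
      (∀ v ∈ K, Λ ((δ ^ (l - 1)) v) = q v) ∧ (∀ w, (δ ^ l) (Λ w) = 0) := by
    set R := LinearMap.range (δ ^ l) with hR
    set Ψ : K →ₗ[k] V ⧸ R := (R.mkQ ∘ₗ (δ ^ (l - 1))) ∘ₗ K.subtype with hΨ
    set q' : K →ₗ[k] LinearMap.ker (δ ^ l) :=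
      LinearMap.codRestrict _ (q ∘ₗ K.subtype) (fun v => LinearMap.mem_ker.2 (hqker v)) with hq'
    have hker : LinearMap.ker Ψ ≤ LinearMap.ker q' := by
      intro v hv
      rw [LinearMap.mem_ker, hΨ, LinearMap.comp_apply, LinearMap.comp_apply,
        Submodule.mkQ_apply, Submodule.Quotient.mk_eq_zero] at hv
      obtain ⟨w, hw⟩ := hv
      have hmem : (v : V) - δ w ∈ D := by
        refine hprev ?_
        rw [LinearMap.mem_ker, map_sub, ← Module.End.mul_apply, ← pow_succ,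
          Nat.sub_add_cancel hl0, hw]
        exact sub_self _
      have hvD : (v : V) ∈ D := by
        have := D.add_mem hmem (⟨w, rfl⟩ : δ w ∈ D)
        rwa [sub_add_cancel] at this
      rw [LinearMap.mem_ker]
      exact Subtype.ext (hqD _ hvD)
    obtain ⟨L', hL'⟩ : ∃ L' : V ⧸ R →ₗ[k] LinearMap.ker (δ ^ l), L' ∘ₗ Ψ = q' := by
      obtain ⟨g, hg⟩ := (((LinearMap.ker Ψ).liftQ q' hker) ∘ₗ
        Ψ.quotKerEquivRange.symm.toLinearMap).exists_extend
      refine ⟨g, LinearMap.ext fun v => ?_⟩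
      have := LinearMap.congr_fun hg ⟨Ψ v, LinearMap.mem_range_self Ψ v⟩
      simp only [LinearMap.comp_apply, Submodule.subtype_apply, LinearEquiv.coe_coe,
        LinearMap.quotKerEquivRange_symm_apply_image, Submodule.mkQ_apply,
        Submodule.liftQ_apply] at this
      exact this
    refine ⟨(LinearMap.ker (δ ^ l)).subtype ∘ₗ L' ∘ₗ R.mkQ, fun w => ?_, fun v hv => ?_,
      fun w => (L' (R.mkQ w)).2⟩
    · simp only [LinearMap.comp_apply, Submodule.mkQ_apply]
      rw [(Submodule.Quotient.mk_eq_zero R).2 (⟨w, rfl⟩ : (δ ^ l) w ∈ R), map_zero]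
      rfl
    · exact congrArg Subtype.val (LinearMap.congr_fun hL' ⟨v, hv⟩)
  set E0 : Module.End k V := ∑ j ∈ Finset.range l, δ ^ j * Λ * δ ^ (l - 1 - j) with hE0
  have hδE0 : δ * E0 = E0 * δ := by
    rw [hE0, Finset.mul_sum, Finset.sum_mul]
    obtain ⟨l', hl'⟩ : ∃ l', l = l' + 1 := ⟨l - 1, by omega⟩
    rw [hl'] at hΛ0 hΛker ⊢
    rw [Finset.sum_range_succ (fun j => δ * (δ ^ j * Λ * δ ^ (l' + 1 - 1 - j))),
      Finset.sum_range_succ' (fun j => δ ^ j * Λ * δ ^ (l' + 1 - 1 - j) * δ)]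
    have e1 : δ * (δ ^ l' * Λ * δ ^ (l' + 1 - 1 - l')) = 0 := by
      rw [← mul_assoc, ← mul_assoc, ← pow_succ', show δ ^ (l' + 1) * Λ = 0 from LinearMap.ext hΛker,
        zero_mul]
    have e2 : δ ^ 0 * Λ * δ ^ (l' + 1 - 1 - 0) * δ = 0 := by
      rw [mul_assoc, ← pow_succ, pow_zero, one_mul, show l' + 1 - 1 - 0 + 1 = l' + 1 by omega,
        show Λ * δ ^ (l' + 1) = 0 from LinearMap.ext hΛ0]
    rw [e1, e2]
    congr 1
    refine Finset.sum_congr rfl fun j hj => ?_
    rw [Finset.mem_range] at hj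
    rw [← mul_assoc, ← mul_assoc, ← pow_succ', mul_assoc _ _ δ, ← pow_succ,
      show l' + 1 - 1 - (j + 1) + 1 = l' + 1 - 1 - j by omega]
  have hE0mod : ∀ v ∈ K, E0 v - q v ∈ D := by
    intro v hv
    rw [hE0, LinearMap.sum_apply, ← Finset.add_sum_erase _ _ (Finset.mem_range.2 hl0), pow_zero,
      one_mul, Nat.sub_zero, Module.End.mul_apply, hΛq v hv, add_sub_cancel_left]
    refine Submodule.sum_mem _ fun j hj => ?_
    obtain ⟨j', rfl⟩ := Nat.exists_eq_succ_of_ne_zero (Finset.mem_erase.1 hj).1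
    rw [pow_succ', mul_assoc, mul_assoc, Module.End.mul_apply]
    exact ⟨_, rfl⟩
  have hE0P : ∀ u ∈ S.P, ρ u * E0 = E0 * ρ u := by
    have hx : Commute (ρ S.x) E0 := by
      have h1 : Commute δ E0 := hδE0
      have h2 : ρ S.x = δ + 1 := by rw [hδ, delta, sub_add_cancel]
      rw [h2]; exact h1.add_left (Commute.one_left _)
    intro u hu
    obtain ⟨n, rfl⟩ := (mem_powers_iff_mem_zpowers (x := S.x)).2 hu
    rw [show (fun i => S.x ^ i) n = S.x ^ n from rfl, map_pow]
    exact hx.pow_left n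
  -- average over the complement
  have hm : (Nat.card S.L : k) ≠ 0 := fun h =>
    S.not_dvd ((CharP.cast_eq_zero_iff k p _).1 h)
  set E1 : Module.End k V :=
    (Nat.card S.L : k)⁻¹ • ∑ g : S.L, ρ (g : G) * E0 * ρ (g : G)⁻¹ with hE1
  have hE1N : ∀ n ∈ S.N, ρ n * E1 * ρ n⁻¹ = E1 := by
    intro n hn
    obtain ⟨g₀, hg₀, u, hu, rfl⟩ := S.mem_N_iff.1 hn
    have hu1 : ρ u * E1 * ρ u⁻¹ = E1 := by
      rw [hE1, mul_smul_comm, smul_mul_assoc, Finset.mul_sum, Finset.sum_mul]
      congr 1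
      refine Finset.sum_congr rfl fun g _ => ?_
      rw [← mul_assoc, ← mul_assoc, ← map_mul,
        show u * (g : G) = (g : G) * ((g : G)⁻¹ * u * g) by group, map_mul,
        mul_assoc (ρ (g : G)), hE0P _ (S.conj_mem' g.2 hu)]
      simp only [mul_assoc, ← map_mul]
      congr 3
      group
    have hl1 : ρ g₀ * E1 * ρ g₀⁻¹ = E1 := by
      rw [hE1, mul_smul_comm, smul_mul_assoc, Finset.mul_sum, Finset.sum_mul]
      congr 1
      refine Fintype.sum_equiv (Equiv.mulLeft (⟨g₀, hg₀⟩ : S.L)) _ _ fun g => ?_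
      simp only [Equiv.coe_mulLeft, Subgroup.coe_mul, mul_inv_rev, map_mul, mul_assoc]
    rw [mul_inv_rev, map_mul, map_mul]
    calc ρ g₀ * ρ u * E1 * (ρ u⁻¹ * ρ g₀⁻¹) = ρ g₀ * (ρ u * E1 * ρ u⁻¹) * ρ g₀⁻¹ := by
          simp only [mul_assoc]
      _ = E1 := by rw [hu1, hl1]
  have hE1mod : ∀ v ∈ K, ∃ a ∈ A, E1 v - a ∈ D := by
    intro v hv
    refine ⟨(Nat.card S.L : k)⁻¹ • ∑ g : S.L, ρ (g : G) (q (ρ (g : G)⁻¹ v)),
      A.smul_mem _ (A.sum_mem fun g _ => hAinv _ g.2 _ (hqA _)), ?_⟩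
    rw [hE1, LinearMap.smul_apply, LinearMap.sum_apply, ← smul_sub, ← Finset.sum_sub_distrib]
    refine D.smul_mem _ (D.sum_mem fun g _ => ?_)
    rw [Module.End.mul_apply, Module.End.mul_apply, ← map_sub]
    refine hDinv _ g.2 _ (hE0mod _ ?_)
    rw [hK, LinearMap.mem_ker, normP_eq_pow ρ S.orderOf_x] at hv ⊢
    exact hkerinv _ _ (S.L.inv_mem g.2) v hv
  have hE1A : E1 a₀ - a₀ ∈ D := by
    have h : a₀ = (Nat.card S.L : k)⁻¹ • ∑ g : S.L, ρ (g : G) (ρ (g : G)⁻¹ a₀) := by
      simp only [← Module.End.mul_apply, ← map_mul, mul_inv_cancel, map_one, Module.End.one_apply]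
      rw [Finset.sum_const, Finset.card_univ, ← Nat.card_eq_fintype_card,
        ← Nat.cast_smul_eq_nsmul k, smul_smul, inv_mul_cancel₀ hm, one_smul]
    conv => arg 2; rw [hE1, LinearMap.smul_apply, LinearMap.sum_apply]; arg 2; rw [h]
    rw [← smul_sub, ← Finset.sum_sub_distrib]
    refine D.smul_mem _ (D.sum_mem fun g _ => ?_)
    rw [Module.End.mul_apply, Module.End.mul_apply, ← map_sub]
    have haA := hAinv _ (S.L.inv_mem g.2) _ ha₀A
    refine hDinv _ g.2 _ ?_
    have := D.add_mem (hE0mod _ (hUK (hAU haA))) (hqmod _ haA)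
    rwa [sub_add_sub_cancel] at this
  -- the transfer to `G` is a scalar
  let F : G ⧸ S.N → Module.End k V := fun c => ρ c.out * E1 * ρ c.out⁻¹
  have hFact : ∀ (g : G) (c : G ⧸ S.N), F (g • c) = ρ g * F c * ρ g⁻¹ := by
    intro g c
    obtain ⟨n, hn⟩ := QuotientGroup.mk_out_eq_mul S.N (g * c.out)
    have hgc : g • c = QuotientGroup.mk (g * c.out) := by
      conv_lhs => rw [← QuotientGroup.out_eq' c]
      rfl
    show ρ (g • c).out * E1 * ρ (g • c).out⁻¹ = _
    rw [hgc, hn]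
    simp only [F, map_mul, mul_inv_rev]
    calc ρ g * ρ c.out * ρ (n : G) * E1 * (ρ (n : G)⁻¹ * (ρ c.out⁻¹ * ρ g⁻¹))
        = ρ g * ρ c.out * (ρ (n : G) * E1 * ρ (n : G)⁻¹) * (ρ c.out⁻¹ * ρ g⁻¹) := by
          simp only [mul_assoc]
      _ = _ := by rw [hE1N n n.2]; simp only [mul_assoc]
  set E : Module.End k V := ∑ c : G ⧸ S.N, F c with hE
  have hEcomm : ∀ g, ρ g * E = E * ρ g := by
    intro g
    have h : ρ g * E * ρ g⁻¹ = E := by
      rw [hE, Finset.mul_sum, Finset.sum_mul]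
      exact Fintype.sum_equiv (MulAction.toPerm g) _ _ fun c => (hFact g c).symm
    conv_rhs => rw [← h]
    rw [mul_assoc, ← map_mul, inv_mul_cancel, map_one, mul_one]
  have hnt := hρ.1
  obtain ⟨c, hc⟩ := Module.End.exists_eigenvalue E
  have hscal : ∀ v, E v = c • v := by
    rcases hρ.2 (Module.End.eigenspace E c) (fun g v hv => by
      rw [Module.End.mem_eigenspace_iff] at hv ⊢
      rw [← Module.End.mul_apply, ← hEcomm, Module.End.mul_apply, hv, map_smul]) with h | h
    · exact absurd h hc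
    · intro v
      exact Module.End.mem_eigenspace_iff.1 (h ▸ Submodule.mem_top : v ∈ Module.End.eigenspace E c)
  have hEmod : ∀ v ∈ K, E v - E1 v ∈ D := by
    intro v hv
    set c₀ : G ⧸ S.N := QuotientGroup.mk (1 : G)
    have hF0 : F c₀ = E1 := hE1N _ (by
      obtain ⟨n, hn⟩ := QuotientGroup.mk_out_eq_mul S.N (1 : G)
      rw [hn, one_mul]; exact n.2)
    rw [hE, ← Finset.add_sum_erase _ _ (Finset.mem_univ c₀), LinearMap.add_apply, hF0,
      add_sub_cancel_left]
    refine sum_free_mem ρ _ (fun u a ha => ?_) (fun u a ha hua => ?_) _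
      (fun u a _ => hFact (u : G) a) hv
    · refine Finset.mem_erase.2 ⟨fun h => (Finset.mem_erase.1 ha).1 ?_, Finset.mem_univ _⟩
      rw [← inv_smul_smul u a, h]
      exact QuotientGroup.eq.2 (by simpa using S.P_le_N u.2)
    · induction a using QuotientGroup.induction_on with
      | H g =>
        by_contra hu
        have hg : g ∈ S.N := by
          refine S.mem_N_of_fix u.2 (fun h => hu (Subtype.ext h)) ?_
          have h2 : (QuotientGroup.mk g : G ⧸ S.N) = QuotientGroup.mk ((u : G) * g) := hua.symm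
          rw [QuotientGroup.eq] at h2
          simpa [mul_assoc] using h2
        exact (Finset.mem_erase.1 ha).1 (QuotientGroup.eq.2 (by simpa using hg))
  have hc1 : c = 1 := by
    by_contra hne
    have h1 : E a₀ - a₀ ∈ D := by
      have := D.add_mem (hEmod a₀ (hUK (hAU ha₀A))) hE1A
      rwa [sub_add_sub_cancel] at this
    rw [hscal, show c • a₀ - a₀ = (c - 1) • a₀ by rw [sub_smul, one_smul]] at h1
    exact ha₀D ((D.smul_mem_iff (sub_ne_zero.2 hne)).1 h1)
  refine hAK fun v hv => ?_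
  obtain ⟨a, ha, hva⟩ := hE1mod v hv
  have h1 : E v - a ∈ D := by
    have := D.add_mem (hEmod v hv) hva
    rwa [sub_add_sub_cancel] at this
  rw [hscal, hc1, one_smul] at h1
  have := A.add_mem (hDA h1) ha
  rwa [sub_add_cancel] at this

end Cfsg.Agent.H43.D1
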