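import Mathlib
import Cfsg.Agent.H43.D1.Stable

/-!
# Non-projective simple modules above the simple modules of the normalizer
-/

set_option autoImplicit false
set_option maxHeartbeats 800000

namespace Cfsg.Agent.H43.D1

open Module

variable {k : Type*} [Field k] {G : Type*} [Group G] {p : ℕ}
  {V : Type*} [AddCommGroup V] [Module k V]

/-- The representation on an invariant subspace. -/
def restrictRep (ρ : G →* Module.End k V) (U : Submodule k V)
    (hU : ∀ g, ∀ v ∈ U, ρ g v ∈ U) : G →* Module.End k U where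
  toFun g := (ρ g).restrict (hU g)
  map_one' := LinearMap.ext fun v => Subtype.ext (by simp)
  map_mul' a b := LinearMap.ext fun v => Subtype.ext (by simp)

theorem restrictRep_coe (ρ : G →* Module.End k V) (U : Submodule k V)
    (hU : ∀ g, ∀ v ∈ U, ρ g v ∈ U) (g : G) (v : U) :
    ((restrictRep ρ U hU g v : U) : V) = ρ g v := rfl

theorem normP_restrict [Fintype G] (ρ : G →* Module.End k V) (U : Submodule k V)
    (hU : ∀ g, ∀ v ∈ U, ρ g v ∈ U) (x : G) (v : U) :
    ((normP (restrictRep ρ U hU) x v : U) : V) = normP ρ x v := by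
  classical
  rw [normP_apply, normP_apply, AddSubmonoidClass.coe_finsetSum]
  rfl

/-- A nonzero invariant subspace contains an irreducible one. -/
theorem exists_irred_sub [FiniteDimensional k V] (ρ : G →* Module.End k V) (U : Submodule k V)
    (hU : ∀ g, ∀ v ∈ U, ρ g v ∈ U) (hne : U ≠ ⊥) :
    ∃ (S : Submodule k V) (hS : ∀ g, ∀ v ∈ S, ρ g v ∈ S), S ≤ U ∧
      IsIrred (restrictRep ρ S hS) := by
  classical
  have hex : ∃ n, ∃ S : Submodule k V, (∀ g, ∀ v ∈ S, ρ g v ∈ S) ∧ S ≠ ⊥ ∧ S ≤ U ∧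
      finrank k S = n := ⟨_, U, hU, hne, le_rfl, rfl⟩
  obtain ⟨S, hS, hS0, hSU, hn⟩ := Nat.find_spec hex
  refine ⟨S, hS, hSU, (Submodule.nontrivial_iff_ne_bot).2 hS0, fun W hW => ?_⟩
  by_cases hW0 : W = ⊥
  · exact Or.inl hW0
  right
  have hmap : (∀ g, ∀ v ∈ W.map S.subtype, ρ g v ∈ W.map S.subtype) := by
    rintro g _ ⟨w, hw, rfl⟩
    exact ⟨_, hW g w hw, rfl⟩
  have hle : Nat.find hex ≤ finrank k (W.map S.subtype) := Nat.find_min' hex
    ⟨_, hmap, fun h => hW0 (Submodule.map_injective_of_injective (f := S.subtype) Subtype.val_injective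
      (h.trans (Submodule.map_bot _).symm)),
      (Submodule.map_subtype_le S W).trans hSU, rfl⟩
  refine Submodule.map_injective_of_injective (f := S.subtype) Subtype.val_injective ?_
  rw [Submodule.map_top, Submodule.range_subtype]
  exact Submodule.eq_of_le_of_finrank_le (Submodule.map_subtype_le S W) (hn ▸ hle)

variable [Fintype G] [hp : Fact p.Prime] [CharP k p] [FiniteDimensional k V]

/-- A module induced from the normalizer has a simple submodule whose stable quotient maps onto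
the inducing module. -/
theorem exists_simple_sub (S : Setup p G) (ρ : G →* Module.End k V)
    {W0 : Type*} [AddCommGroup W0] [Module k W0] [Nontrivial W0] [FiniteDimensional k W0]
    (τ : S.L →* Module.End k W0) (π : V →ₗ[k] W0) (A : W0 →ₗ[k] V)
    (hπl : ∀ (l : S.L) v, π (ρ (l : G) v) = τ l (π v))
    (hπu : ∀ u ∈ S.P, ∀ v, π (ρ u v) = π v)
    (hAl : ∀ (l : S.L), ∀ u ∈ S.P, ∀ t, π (ρ ((l : G) * u) (A t)) = τ l t)
    (hAout : ∀ g, g ∉ S.N → ∀ t, π (ρ g (A t)) = 0)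
    (hsep : ∀ v, (∀ g, π (ρ g v) = 0) → v = 0) :
    ∃ (U : Submodule k V) (hU : ∀ g, ∀ v ∈ U, ρ g v ∈ U), IsIrred (restrictRep ρ U hU) ∧
      ∃ v ∈ U, normP ρ S.x v = 0 ∧ π v ≠ 0 := by
  classical
  have hπD : ∀ v ∈ LinearMap.range (delta ρ S.x), π v = 0 := by
    rintro _ ⟨w, rfl⟩
    rw [delta, LinearMap.sub_apply, Module.End.one_apply, map_sub,
      hπu _ (Subgroup.mem_zpowers S.x), sub_self]
  let Good : Submodule k V → Prop := fun U => (∀ g, ∀ v ∈ U, ρ g v ∈ U) ∧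
    (∃ U' : Submodule k V, (∀ g, ∀ v ∈ U', ρ g v ∈ U') ∧ IsCompl U U') ∧
    ∃ v ∈ U, normP ρ S.x v = 0 ∧ π v ≠ 0
  have hfix : ∀ t, ∀ u ∈ S.P, ρ u (A t) = A t := by
    intro t u hu
    rw [← sub_eq_zero]
    refine hsep _ fun g => ?_
    rw [map_sub, map_sub, ← Module.End.mul_apply, ← map_mul, sub_eq_zero]
    by_cases hg : g ∈ S.N
    · obtain ⟨l, hl, v, hv, rfl⟩ := S.mem_N_iff.1 hg
      rw [mul_assoc, hAl ⟨l, hl⟩ _ (S.P.mul_mem hv hu), hAl ⟨l, hl⟩ _ hv]
    · rw [hAout _ hg, hAout]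
      exact fun h => hg (by simpa using S.N.mul_mem h (S.N.inv_mem (S.P_le_N hu)))
  have hπA : ∀ t, π (A t) = t := by
    intro t
    have := hAl 1 1 S.P.one_mem t
    rwa [Subgroup.coe_one, one_mul, map_one, Module.End.one_apply, map_one,
      Module.End.one_apply] at this
  have hgood_top : Good ⊤ := by
    refine ⟨fun _ _ _ => Submodule.mem_top, ⟨⊥, fun g v hv => ?_, isCompl_top_bot⟩, ?_⟩
    · rw [Submodule.mem_bot] at hv ⊢; rw [hv, map_zero]
    · obtain ⟨t, ht⟩ := exists_ne (0 : W0)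
      refine ⟨A t, Submodule.mem_top, ?_, by rwa [hπA]⟩
      rw [normP_apply, Finset.sum_congr rfl fun u _ => hfix t _ u.2, Finset.sum_const,
        Finset.card_univ, ← Nat.card_eq_fintype_card, S.card_P, ← Nat.cast_smul_eq_nsmul k,
        CharP.cast_eq_zero, zero_smul]
  have hex : ∃ n, ∃ U, Good U ∧ finrank k U = n := ⟨_, ⊤, hgood_top, rfl⟩
  obtain ⟨U, ⟨hUinv, ⟨U', hU'inv, hUU'⟩, v₀, hv₀U, hv₀K, hv₀π⟩, hn⟩ := Nat.find_spec hex
  have hUne : U ≠ ⊥ := by
    intro h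
    rw [h, Submodule.mem_bot] at hv₀U
    exact hv₀π (by rw [hv₀U, map_zero])
  obtain ⟨T, hT, hTU, hTirr⟩ := exists_irred_sub ρ U hUinv hUne
  refine ⟨T, hT, hTirr, ?_⟩
  by_contra hcon
  push Not at hcon
  -- `π` factors through the norm on `T`
  obtain ⟨Lf, hLf⟩ : ∃ Lf : V →ₗ[k] W0, ∀ v ∈ T, Lf (normP ρ S.x v) = π v := by
    set f : T →ₗ[k] V := (normP ρ S.x) ∘ₗ T.subtype with hf
    have hker : LinearMap.ker f ≤ LinearMap.ker (π ∘ₗ T.subtype) := by
      intro v hv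
      exact hcon v v.2 hv
    obtain ⟨g, hg⟩ := (((LinearMap.ker f).liftQ (π ∘ₗ T.subtype) hker) ∘ₗ
      f.quotKerEquivRange.symm.toLinearMap).exists_extend
    refine ⟨g, fun v hv => ?_⟩
    have := LinearMap.congr_fun hg ⟨f ⟨v, hv⟩, LinearMap.mem_range_self f _⟩
    simp only [LinearMap.comp_apply, Submodule.subtype_apply, LinearEquiv.coe_coe,
      LinearMap.quotKerEquivRange_symm_apply_image, Submodule.mkQ_apply,
      Submodule.liftQ_apply] at this
    exact this
  have hm : (Nat.card S.L : k) ≠ 0 := fun h =>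
    S.not_dvd ((CharP.cast_eq_zero_iff k p _).1 h)
  set B : Module.End k V := A ∘ₗ ((Nat.card S.L : k)⁻¹ • Lf) with hB
  set α : Module.End k V := ∑ g, ρ g * B * ρ g⁻¹ with hα
  have hαT : ∀ v ∈ T, α v = v := by
    intro v hv
    rw [← sub_eq_zero]
    refine hsep _ fun y => ?_
    rw [map_sub, map_sub, sub_eq_zero, hα, LinearMap.sum_apply, map_sum, map_sum]
    have hterm : ∀ g, π (ρ y ((ρ g * B * ρ g⁻¹) v)) = π (ρ (y * g) (A (((Nat.card S.L : k)⁻¹ • Lf)
        (ρ g⁻¹ v)))) := fun g => by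
      rw [map_mul ρ y g]; rfl
    simp only [hterm]
    rw [← Fintype.sum_equiv (Equiv.mulLeft y⁻¹)
      (fun z => π (ρ (y * (y⁻¹ * z)) (A (((Nat.card S.L : k)⁻¹ • Lf) (ρ (y⁻¹ * z)⁻¹ v))))) _
      (fun z => rfl)]
    simp only [mul_inv_cancel_left, mul_inv_rev, inv_inv]
    rw [← Finset.sum_filter_of_ne (p := fun z => z ∈ S.N) (fun z _ hz => by
      by_contra h
      exact hz (hAout z h _))]
    rw [← Finset.sum_bij (fun (q : S.L × S.P) _ => (q.1 : G) * (q.2 : G))
      (fun q _ => Finset.mem_filter.2 ⟨Finset.mem_univ _,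
        S.mem_N_iff.2 ⟨_, q.1.2, _, q.2.2, rfl⟩⟩)
      (fun q _ q' _ h => by
        obtain ⟨h1, h2⟩ := S.mul_unique q.1.2 q'.1.2 q.2.2 q'.2.2 h
        exact Prod.ext (Subtype.ext h1) (Subtype.ext h2))
      (fun z hz => by
        obtain ⟨l, hl, u, hu, rfl⟩ := S.mem_N_iff.1 (Finset.mem_filter.1 hz).2
        exact ⟨(⟨l, hl⟩, ⟨u, hu⟩), Finset.mem_univ _, rfl⟩)
      (fun q _ => rfl), Fintype.sum_prod_type]
    have hinner : ∀ l : S.L, ∑ u : S.P,
        π (ρ ((l : G) * (u : G)) (A (((Nat.card S.L : k)⁻¹ • Lf) (ρ (((l : G) * (u : G))⁻¹ * y) v))))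
        = (Nat.card S.L : k)⁻¹ • π (ρ y v) := by
      intro l
      simp only [hAl l _ (Subtype.mem _), LinearMap.smul_apply, map_smul, ← Finset.smul_sum]
      congr 1
      rw [← map_sum, ← map_sum]
      have h1 : ∑ u : S.P, ρ (((l : G) * (u : G))⁻¹ * y) v =
          normP ρ S.x (ρ ((l : G)⁻¹ * y) v) := by
        rw [normP_apply]
        refine Fintype.sum_equiv (Equiv.inv S.P) _ _ fun u => ?_
        rw [← Module.End.mul_apply, ← map_mul, Equiv.inv_apply, Subgroup.coe_inv, mul_inv_rev,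
          mul_assoc]
      rw [h1, hLf _ (hT _ v hv), ← hπl, ← Module.End.mul_apply, ← map_mul, mul_inv_cancel_left]
    rw [Finset.sum_congr rfl fun l _ => hinner l, Finset.sum_const, Finset.card_univ,
      ← Nat.card_eq_fintype_card, ← Nat.cast_smul_eq_nsmul k, smul_smul, mul_inv_cancel₀ hm,
      one_smul]
  set P1 : Module.End k V := U.subtype ∘ₗ U.projectionOnto U' hUU' with hP1
  have hP1U : ∀ v, P1 v ∈ U := fun v => (U.projectionOnto U' hUU' v).2
  have hP1id : ∀ v ∈ U, P1 v = v := fun v hv =>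
    congrArg Subtype.val (Submodule.projectionOnto_apply_of_mem_left hUU' hv)
  have hP1c : ∀ g, ρ g * P1 = P1 * ρ g := by
    intro g
    refine LinearMap.ext fun v => ?_
    obtain ⟨a, ha, b, hb, rfl⟩ : ∃ a ∈ U, ∃ b ∈ U', a + b = v :=
      Submodule.mem_sup.1 (hUU'.sup_eq_top ▸ Submodule.mem_top)
    have h0 : ∀ w ∈ U', P1 w = 0 := fun w hw =>
      congrArg Subtype.val (Submodule.projectionOnto_apply_of_mem_right hUU' hw)
    simp only [Module.End.mul_apply, map_add, hP1id a ha, h0 b hb, map_zero, add_zero,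
      hP1id _ (hUinv g a ha), h0 _ (hU'inv g b hb)]
  have hαc : ∀ g, ρ g * α = α * ρ g := trace_comm ρ B
  let β0 : Module.End k U := (P1 * α).restrict (fun v _ => hP1U (α v))
  let ρU := restrictRep ρ U hUinv
  have hβc : ∀ g, ρU g * β0 = β0 * ρU g := by
    intro g
    refine LinearMap.ext fun w => Subtype.ext ?_
    show (ρ g * (P1 * α)) (w : V) = ((P1 * α) * ρ g) (w : V)
    rw [← mul_assoc, hP1c, mul_assoc, hαc, mul_assoc]
  have hβT : ∀ w : U, (w : V) ∈ T → β0 w = w := fun w hw => Subtype.ext (by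
    show P1 (α (w : V)) = w
    rw [hαT _ hw, hP1id _ w.2])
  obtain ⟨t₀, ht₀T, ht₀⟩ : ∃ t ∈ T, t ≠ 0 := by
    have hnt := hTirr.1
    obtain ⟨z, hz⟩ := exists_ne (0 : T)
    exact ⟨z, z.2, fun h => hz (Subtype.ext h)⟩
  -- Fitting
  obtain ⟨n, hn0, hcompl⟩ : ∃ n, 0 < n ∧
      IsCompl (LinearMap.ker (β0 ^ n)) (LinearMap.range (β0 ^ n)) :=
    (Filter.eventually_atTop.1 β0.eventually_isCompl_ker_pow_range_pow).elim
      fun n h => ⟨n + 1, n.succ_pos, h _ n.le_succ⟩
  have hpc : ∀ g, ρU g * β0 ^ n = β0 ^ n * ρU g := fun g =>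
    ((Commute.pow_right (hβc g) n : Commute (ρU g) (β0 ^ n))).eq
  have hrange_inv : ∀ g, ∀ w ∈ LinearMap.range (β0 ^ n), ρU g w ∈ LinearMap.range (β0 ^ n) := by
    rintro g _ ⟨z, rfl⟩
    exact ⟨ρU g z, (LinearMap.congr_fun (hpc g) z).symm⟩
  have hker_inv : ∀ g, ∀ w ∈ LinearMap.ker (β0 ^ n), ρU g w ∈ LinearMap.ker (β0 ^ n) := by
    intro g w hw
    rw [LinearMap.mem_ker] at hw ⊢
    rw [← Module.End.mul_apply, ← hpc, Module.End.mul_apply, hw, map_zero]
  -- one of the two summands is good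
  have hgood : ∀ (X Y : Submodule k U), (∀ g, ∀ w ∈ X, ρU g w ∈ X) → (∀ g, ∀ w ∈ Y, ρU g w ∈ Y) →
      IsCompl X Y → (∃ w ∈ X, normP ρU S.x w = 0 ∧ π (w : V) ≠ 0) → X = ⊤ := by
    intro X Y hX hY hXY ⟨w, hwX, hwK, hwπ⟩
    have hgoodX : Good (X.map U.subtype) := by
      refine ⟨?_, ⟨Y.map U.subtype ⊔ U', ?_, ?_⟩, w, ⟨w, hwX, rfl⟩, ?_, hwπ⟩
      · rintro g _ ⟨z, hz, rfl⟩
        exact ⟨_, hX g z hz, rfl⟩
      · intro g v hv
        rw [Submodule.mem_sup] at hv ⊢
        obtain ⟨_, ⟨z, hz, rfl⟩, b, hb, rfl⟩ := hv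
        exact ⟨ρ g (z : V), ⟨_, hY g z hz, rfl⟩, ρ g b, hU'inv g b hb, (map_add _ _ _).symm⟩
      · constructor
        · refine Disjoint.disjoint_sup_right_of_disjoint_sup_left ?_ ?_
          · rw [Submodule.disjoint_def]
            rintro _ ⟨z, hz, rfl⟩ ⟨z', hz', hzz'⟩
            rw [Subtype.val_injective hzz'] at hz'
            rw [Submodule.disjoint_def.1 hXY.disjoint z hz hz', map_zero]
          · rw [← Submodule.map_sup, hXY.sup_eq_top, Submodule.map_top, Submodule.range_subtype]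
            exact hUU'.disjoint
        · rw [codisjoint_iff, ← sup_assoc, ← Submodule.map_sup, hXY.sup_eq_top, Submodule.map_top,
            Submodule.range_subtype, hUU'.sup_eq_top]
      · rw [← normP_restrict ρ U hUinv, hwK, ZeroMemClass.coe_zero]
    have hle := Nat.find_min' hex ⟨_, hgoodX, rfl⟩
    rw [← hn] at hle
    refine Submodule.map_injective_of_injective (f := U.subtype) Subtype.val_injective ?_
    rw [Submodule.map_top, Submodule.range_subtype]
    exact Submodule.eq_of_le_of_finrank_le (Submodule.map_subtype_le U X) hle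
  have hrange_top : LinearMap.range (β0 ^ n) = ⊤ := by
    obtain ⟨a, ha, b, hb, hab⟩ : ∃ a ∈ LinearMap.ker (β0 ^ n), ∃ b ∈ LinearMap.range (β0 ^ n),
        a + b = (⟨v₀, hv₀U⟩ : U) := Submodule.mem_sup.1 (hcompl.sup_eq_top ▸ Submodule.mem_top)
    have hNinv : ∀ (X : Submodule k U), (∀ g, ∀ w ∈ X, ρU g w ∈ X) → ∀ w ∈ X,
        normP ρU S.x w ∈ X := by
      intro X hX w hw
      rw [normP_apply]
      exact Submodule.sum_mem _ fun u _ => hX _ w hw
    have hNa := hNinv _ hker_inv a ha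
    have hNb := hNinv _ hrange_inv b hb
    have hN0 : normP ρU S.x a + normP ρU S.x b = 0 := by
      rw [← map_add, hab]
      exact Subtype.ext (by rw [normP_restrict]; exact hv₀K)
    have ha0 : normP ρU S.x a = 0 := Submodule.disjoint_def.1 hcompl.disjoint _ hNa (by
      rw [eq_neg_of_add_eq_zero_left hN0]; exact Submodule.neg_mem _ hNb)
    have hb0 : normP ρU S.x b = 0 := by rwa [ha0, zero_add] at hN0
    by_cases hπa : π (a : V) = 0
    · refine hgood _ _ hrange_inv hker_inv hcompl.symm ⟨b, hb, hb0, ?_⟩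
      intro hπb
      refine hv₀π ?_
      rw [show v₀ = (a : V) + (b : V) from congrArg Subtype.val hab.symm, map_add, hπa, hπb,
        add_zero]
    · exfalso
      have htop := hgood _ _ hker_inv hrange_inv hcompl ⟨a, ha, ha0, hπa⟩
      have hstep : ∀ j : ℕ, (β0 ^ j) ⟨t₀, hTU ht₀T⟩ = ⟨t₀, hTU ht₀T⟩ := by
        intro j
        induction j with
        | zero => simp
        | succ j ihj => rw [pow_succ', Module.End.mul_apply, ihj, hβT _ ht₀T]
      have h1 := hstep n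
      have h2 : (⟨t₀, hTU ht₀T⟩ : U) ∈ LinearMap.ker (β0 ^ n) := htop ▸ Submodule.mem_top
      rw [LinearMap.mem_ker, h1] at h2
      exact ht₀ (congrArg Subtype.val h2)
  have hsurj : Function.Surjective β0 := by
    intro w
    have : w ∈ LinearMap.range (β0 ^ n) := hrange_top ▸ Submodule.mem_top
    obtain ⟨z, hz⟩ := this
    exact ⟨(β0 ^ (n - 1)) z, by
      rw [← Module.End.mul_apply, ← pow_succ', Nat.sub_add_cancel hn0, hz]⟩
  have hinj : Function.Injective β0 := LinearMap.injective_iff_surjective.2 hsurj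
  obtain ⟨z₀, hz₀⟩ := hsurj ⟨v₀, hv₀U⟩
  -- `v₀ = β0 z₀` with `z₀` in the kernel of the norm, so `π v₀ = 0`
  have hNβ : normP ρU S.x (β0 z₀) = β0 (normP ρU S.x z₀) := by
    rw [normP_apply, normP_apply, map_sum]
    exact Finset.sum_congr rfl fun u _ => LinearMap.congr_fun (hβc u) z₀
  have hz₀K : normP ρU S.x z₀ = 0 := hinj (by
    rw [← hNβ, hz₀, map_zero]
    exact Subtype.ext (by rw [normP_restrict]; exact hv₀K))
  have hmem := trace_mem ρ S.x (P1 * B) (v := (z₀ : V)) (by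
    rw [← normP_restrict ρ U hUinv, hz₀K, ZeroMemClass.coe_zero])
  refine hv₀π (hπD _ ?_)
  have : v₀ = (∑ g, ρ g * (P1 * B) * ρ g⁻¹) (z₀ : V) := by
    rw [show v₀ = (P1 * α) (z₀ : V) from congrArg Subtype.val hz₀.symm, hα, Finset.mul_sum]
    congr 1
    refine Finset.sum_congr rfl fun g _ => ?_
    rw [← mul_assoc, ← mul_assoc, ← hP1c, mul_assoc (ρ g)]
  rw [this]
  exact hmem

end Cfsg.Agent.H43.D1
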