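import Mathlib
import Cfsg.Agent.H43.D1.Stable
import Cfsg.Agent.H43.CharTools
import Cfsg.Agent.H43.RegularPart
import Cfsg.Agent.H41.LocalRing
import Cfsg.Agent.H27.DefectZero
import Cfsg.Agent.H25.CharIntegral

/-!
# Reductions of character idempotents acting on modular representations
-/

set_option autoImplicit false
set_option maxHeartbeats 800000

namespace Cfsg.Agent.H43.D1

open Module Cfsg.Agent.H41

section Op

variable {k : Type*} [Field k] {G : Type*} [Group G] [Fintype G]
  {V : Type*} [AddCommGroup V] [Module k V]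

/-- The action of a function on the group. -/
def opF (ρ : G →* Module.End k V) (c : G → k) : Module.End k V := ∑ g, c g • ρ g

theorem opF_mul (ρ : G →* Module.End k V) (c d : G → k) :
    opF ρ c * opF ρ d = opF ρ fun y => ∑ g, c g * d (g⁻¹ * y) := by
  simp only [opF, Finset.sum_mul_sum, smul_mul_assoc, mul_smul_comm, smul_smul, ← map_mul,
    Finset.sum_smul]
  conv_rhs => rw [Finset.sum_comm]
  refine Finset.sum_congr rfl fun g _ => ?_
  refine Fintype.sum_equiv (Equiv.mulLeft g) _ _ fun y => ?_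
  simp [mul_comm (d y)]

theorem opF_zero (ρ : G →* Module.End k V) : opF ρ (fun _ => (0 : k)) = 0 := by simp [opF]

theorem opF_conj (ρ : G →* Module.End k V) (c : G → k) (h : G) :
    ρ h * opF ρ c * ρ h⁻¹ = opF ρ fun y => c (h⁻¹ * y * h) := by
  simp only [opF, Finset.mul_sum, Finset.sum_mul, mul_smul_comm, smul_mul_assoc, ← map_mul]
  refine Fintype.sum_equiv (MulAut.conj h).toEquiv _ _ fun g => ?_
  simp [mul_assoc]

theorem opF_comm (ρ : G →* Module.End k V) {c : G → k} (hc : ∀ g h, c (h * g * h⁻¹) = c g)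
    (h : G) : ρ h * opF ρ c = opF ρ c * ρ h := by
  have h1 : ρ h * opF ρ c * ρ h⁻¹ = opF ρ c := by
    rw [opF_conj]
    congr 1
    funext y
    simpa using hc y h⁻¹
  conv_rhs => rw [← h1, mul_assoc, ← map_mul, inv_mul_cancel, map_one, mul_one]

end Op

variable {G : Type*} [Group G] [Fintype G]

/-- The coefficients of the central idempotent of a character. -/
noncomputable def idemC (χ : Cfsg.IrrCharacter G) (g : G) : ℂ :=
  (Nat.card G : ℂ)⁻¹ * (χ.1 1 * χ.1 g⁻¹)

theorem idemC_conj (χ : Cfsg.IrrCharacter G) (g h : G) : idemC χ (h * g * h⁻¹) = idemC χ g := by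
  rw [idemC, idemC, show (h * g * h⁻¹)⁻¹ = h * g⁻¹ * h⁻¹ by group, H26.irr_conj]

open scoped Classical in
theorem idemC_conv (χ ψ : Cfsg.IrrCharacter G) (y : G) :
    ∑ g, idemC χ g * idemC ψ (g⁻¹ * y) = if χ = ψ then idemC χ y else 0 := by
  have h := sum_mul_inv_mul ψ χ y⁻¹
  have h0 : (Nat.card G : ℂ) ≠ 0 := Nat.cast_ne_zero.mpr Nat.card_pos.ne'
  have h1 : χ.1 1 ≠ 0 := H26.irr_one_ne_zero χ
  have e : ∑ g, idemC χ g * idemC ψ (g⁻¹ * y) =
      (Nat.card G : ℂ)⁻¹ * (Nat.card G : ℂ)⁻¹ * (χ.1 1 * ψ.1 1) *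
        ∑ g, ψ.1 g * χ.1 (g⁻¹ * y⁻¹) := by
    rw [Finset.mul_sum]
    refine Fintype.sum_equiv (Equiv.mulLeft y⁻¹) _ _ fun g => ?_
    simp only [idemC, Equiv.coe_mulLeft, mul_inv_rev, inv_inv]
    rw [show g⁻¹ * y * y⁻¹ = g⁻¹ by group]
    ring
  rw [e, h]
  by_cases hχ : χ = ψ
  · subst hχ
    rw [if_pos rfl, if_pos rfl, idemC]
    field_simp
  · rw [if_neg (Ne.symm hχ), if_neg hχ, mul_zero]

variable (M : Ideal Cfsg.AlgInt) [M.IsMaximal]

/-- The reduced coefficients, when they are locally integral. -/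
noncomputable def redC (χ : Cfsg.IrrCharacter G) (h : ∀ g, idemC χ g ∈ localRing M) (g : G) :
    ResField M :=
  res M ⟨idemC χ g, h g⟩

theorem redC_conj (χ : Cfsg.IrrCharacter G) (h : ∀ g, idemC χ g ∈ localRing M) (g y : G) :
    redC M χ h (y * g * y⁻¹) = redC M χ h g :=
  congrArg (res M) (Subtype.ext (idemC_conj χ g y))

open scoped Classical in
theorem redC_conv (χ ψ : Cfsg.IrrCharacter G) (hχ : ∀ g, idemC χ g ∈ localRing M)
    (hψ : ∀ g, idemC ψ g ∈ localRing M) (y : G) :
    ∑ g, redC M χ hχ g * redC M ψ hψ (g⁻¹ * y) = if χ = ψ then redC M χ hχ y else 0 := by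
  simp only [redC, ← map_mul, ← map_sum]
  by_cases h : χ = ψ
  · rw [if_pos h]
    refine congrArg (res M) (Subtype.ext ?_)
    push_cast
    rw [idemC_conv, if_pos h]
  · rw [if_neg h, ← map_zero (res M)]
    refine congrArg (res M) (Subtype.ext ?_)
    push_cast
    rw [idemC_conv, if_neg h]

theorem opF_redC_idem {V : Type*} [AddCommGroup V] [Module (ResField M) V]
    (ρ : G →* Module.End (ResField M) V) (χ : Cfsg.IrrCharacter G)
    (hχ : ∀ g, idemC χ g ∈ localRing M) :
    opF ρ (redC M χ hχ) * opF ρ (redC M χ hχ) = opF ρ (redC M χ hχ) := by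
  classical
  rw [opF_mul]
  congr 1
  funext y
  rw [redC_conv, if_pos rfl]

theorem opF_redC_orth {V : Type*} [AddCommGroup V] [Module (ResField M) V]
    (ρ : G →* Module.End (ResField M) V) {χ ψ : Cfsg.IrrCharacter G} (hne : χ ≠ ψ)
    (hχ : ∀ g, idemC χ g ∈ localRing M) (hψ : ∀ g, idemC ψ g ∈ localRing M) :
    opF ρ (redC M χ hχ) * opF ρ (redC M ψ hψ) = 0 := by
  classical
  rw [opF_mul, show (fun y => ∑ g, redC M χ hχ g * redC M ψ hψ (g⁻¹ * y)) = fun _ => 0 from
    funext fun y => by rw [redC_conv, if_neg hne], opF_zero]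

variable {p : ℕ} [hp : Fact p.Prime]

/-- When `p` does not divide the group order every idempotent is locally integral. -/
theorem idemC_mem_of_not_dvd (hM : Cfsg.IsPModular p M) (hG : ¬ p ∣ Nat.card G)
    (χ : Cfsg.IrrCharacter G) (g : G) : idemC χ g ∈ localRing M :=
  mul_mem (IsPModular.inv_natCast_mem hM hG)
    (isIntegral_mem_localRing ((irr_isIntegral χ 1).mul (irr_isIntegral χ g⁻¹)))

theorem redC_one_ne_zero (hM : Cfsg.IsPModular p M) (hG : ¬ p ∣ Nat.card G)
    (χ : Cfsg.IrrCharacter G) :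
    redC M χ (idemC_mem_of_not_dvd M hM hG χ) 1 ≠ 0 := by
  intro h
  set d := Cfsg.charDegree χ.1
  have hd : ¬ p ∣ d * d := fun hd => hG
    (((Nat.Prime.dvd_mul hp.out).1 hd).elim id id |>.trans (irr_charDegree_dvd χ))
  refine hd ((IsPModular.natCast_eq_zero_iff hM _).1 ?_)
  have e : (⟨idemC χ 1, idemC_mem_of_not_dvd M hM hG χ 1⟩ : localRing M) * (Nat.card G : localRing M)
      = ((d * d : ℕ) : localRing M) := by
    refine Subtype.ext ?_
    push_cast
    rw [idemC, inv_one, irr_charDegree_spec]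
    have h0 : (Nat.card G : ℂ) ≠ 0 := Nat.cast_ne_zero.mpr Nat.card_pos.ne'
    field_simp
    ring
  have e2 := congrArg (res M) e
  rw [map_mul, show res M ⟨idemC χ 1, idemC_mem_of_not_dvd M hM hG χ 1⟩ = 0 from h, zero_mul,
    map_natCast] at e2
  exact e2.symm

section DefectZero

variable (hM : Cfsg.IsPModular p M) (hdiv : p ∣ Nat.card G) (hsq : ¬ p ^ 2 ∣ Nat.card G)
  (χ : Cfsg.IrrCharacter G) (hχ : p ∣ Cfsg.charDegree χ.1)

include hM hdiv hsq hχ in
theorem degree_div_card_mem : χ.1 1 / (Nat.card G : ℂ) ∈ localRing M := by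
  obtain ⟨Q, hQ⟩ := hdiv
  obtain ⟨d', hd'⟩ := hχ
  have hpQ : ¬ p ∣ Q := fun h => hsq (by rw [hQ, sq]; exact Nat.mul_dvd_mul_left p h)
  have hp0 : (p : ℂ) ≠ 0 := Nat.cast_ne_zero.mpr hp.out.ne_zero
  rw [irr_charDegree_spec, hd', hQ, Nat.cast_mul, Nat.cast_mul, mul_div_mul_left _ _ hp0,
    div_eq_mul_inv]
  exact mul_mem (natCast_mem _ d') (IsPModular.inv_natCast_mem hM hpQ)

include hM hdiv hsq hχ in
theorem idemC_mem_of_defect_zero (g : G) : idemC χ g ∈ localRing M := by
  rw [idemC, ← mul_assoc, mul_comm (Nat.card G : ℂ)⁻¹, ← div_eq_mul_inv]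
  exact mul_mem (degree_div_card_mem M hM hdiv hsq χ hχ)
    (isIntegral_mem_localRing (irr_isIntegral χ g⁻¹))

include hdiv hsq hχ in
omit [M.IsMaximal] in
theorem value_eq_zero_of_singular (g : G) (hg : p ∣ orderOf g) : χ.1 g = 0 :=
  H27.char_eq_zero_of_defect_zero χ hp.out (n := 1) (by rwa [pow_one]) hsq
    (irr_charDegree_spec χ) (by rwa [pow_one]) g hg

include hM hdiv hsq hχ in
theorem exists_redC_ne_zero :
    ∃ g, redC M χ (idemC_mem_of_defect_zero M hM hdiv hsq χ hχ) g ≠ 0 := by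
  classical
  by_contra hall
  push Not at hall
  -- `1` would be in the local ideal
  have h1 : χ.1 1 ≠ 0 := H26.irr_one_ne_zero χ
  have hconv : (1 : ℂ) = ∑ g, idemC χ g * (χ.1 g / χ.1 1) := by
    have h := sum_mul_conj χ χ
    rw [if_pos rfl] at h
    have e : ∀ g, idemC χ g * (χ.1 g / χ.1 1) =
        (Nat.card G : ℂ)⁻¹ * (χ.1 g * (starRingEnd ℂ) (χ.1 g)) := fun g => by
      rw [idemC, H26.irr_inv]; field_simp
    simp only [e]
    rw [← Finset.mul_sum, h, inv_mul_cancel₀ (Nat.cast_ne_zero.mpr Nat.card_pos.ne')]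
  let _ : Fintype (ConjClasses G) := Fintype.ofFinite _
  have hcl : ∀ C : ConjClasses G, IsIntegral ℤ
      (((Finset.univ.filter fun g => ConjClasses.mk g = C).card : ℂ) *
        χ.1 C.out / χ.1 1) := by
    intro C
    obtain ⟨n, ρ, hρ, e⟩ := χ.2
    have h := H25.isIntegral_classSize_mul_char_div ρ C.out
    rw [e] at h
    have hd : (Module.finrank ℂ (Fin n → ℂ) : ℂ) = χ.1 1 := by rw [← e, ρ.char_one]
    rw [hd] at h
    rw [H25.index_centralizer_eq_card_class] at h
    convert h using 4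
    rw [← Fintype.card_subtype, ← Nat.card_eq_fintype_card]
    refine Nat.card_congr (Equiv.subtypeEquivRight fun g => ?_)
    conv_lhs => rw [← show ConjClasses.mk C.out = C from Quotient.out_eq C]
    rw [ConjClasses.mk_eq_mk_iff_isConj]
    exact isConj_comm
  have hsum : (⟨1, one_mem _⟩ : localRing M) = ∑ C : ConjClasses G,
      (⟨idemC χ C.out, idemC_mem_of_defect_zero M hM hdiv hsq χ hχ _⟩ : localRing M) *
        ⟨_, isIntegral_mem_localRing (hcl C)⟩ := by
    refine Subtype.ext ?_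
    push_cast
    conv_lhs => rw [hconv, ← Finset.sum_fiberwise_of_maps_to (g := ConjClasses.mk) (t := Finset.univ)
      (fun g _ => Finset.mem_univ _)]
    refine Finset.sum_congr rfl fun C _ => ?_
    rw [Finset.sum_congr rfl (g := fun _ => idemC χ C.out * (χ.1 C.out / χ.1 1)) fun g hg => ?_,
      Finset.sum_const, nsmul_eq_mul]
    · ring
    · have hgC := (Finset.mem_filter.1 hg).2
      rw [← Quotient.out_eq C] at hgC
      obtain ⟨w, hw⟩ := isConj_iff.1 (ConjClasses.mk_eq_mk_iff_isConj.1 hgC)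
      rw [← hw, idemC_conj, H26.irr_conj]
  have h2 := congrArg (res M) hsum
  rw [map_sum] at h2
  rw [Finset.sum_eq_zero fun C _ => by
    rw [map_mul, show res M ⟨idemC χ C.out, _⟩ = 0 from hall C.out, zero_mul]] at h2
  exact one_ne_zero ((map_one (res M)).symm.trans h2)

include hM hdiv hsq hχ in
/-- The reduced idempotent of a character of defect zero is a trace from the trivial subgroup. -/
theorem exists_trace_eq_redC :
    ∃ b : G → ResField M, ∀ y, ∑ h, b (h⁻¹ * y * h) =
      redC M χ (idemC_mem_of_defect_zero M hM hdiv hsq χ hχ) y := by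
  classical
  have hmem : ∀ y : G, idemC χ y / (Nat.card (Subgroup.centralizer ({y} : Set G)) : ℂ) ∈
      localRing M := by
    intro y
    set C := Subgroup.centralizer ({y} : Set G) with hC
    by_cases hy : p ∣ orderOf y
    · rw [idemC, value_eq_zero_of_singular hdiv hsq χ hχ y⁻¹ (by rwa [orderOf_inv]), mul_zero,
        mul_zero, zero_div]
      exact zero_mem _
    let D : Sylow p C := default
    set D' := (D : Subgroup C).map C.subtype with hD'
    have hcD : Nat.card D' = Nat.card (D : Subgroup C) :=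
      Subgroup.card_map_of_injective Subtype.val_injective
    have hcomm : ∀ d ∈ D', Commute y⁻¹ d := by
      rintro d ⟨c, -, rfl⟩
      exact Commute.inv_left (show Commute y (c : G) from
        (Subgroup.mem_centralizer_singleton_iff.mp c.2).symm)
    let _ : Fintype D' := Fintype.ofFinite _
    have hint := isIntegral_average_coset χ y⁻¹ D' hcomm
    rw [Finset.sum_eq_single (1 : D') (fun d _ hd => ?_) (fun h => absurd (Finset.mem_univ _) h),
      Subgroup.coe_one, mul_one] at hint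
    · obtain ⟨q, hq⟩ : ∃ q, Nat.card C = Nat.card D' * q := ⟨(D : Subgroup C).index, by
        rw [hcD, Subgroup.card_mul_index]⟩
      have hpq : ¬ p ∣ q := fun h => D.not_dvd_index (by
        have : q = (D : Subgroup C).index := by
          refine Nat.eq_of_mul_eq_mul_left (Nat.card_pos (α := D')) ?_
          rw [← hq, hcD, Subgroup.card_mul_index]
        rwa [← this])
      rw [show idemC χ y / (Nat.card C : ℂ) = χ.1 1 / (Nat.card G : ℂ) *
          ((Nat.card D' : ℂ)⁻¹ * χ.1 y⁻¹) * (q : ℂ)⁻¹ by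
        rw [idemC, hq, Nat.cast_mul, div_eq_mul_inv, mul_inv, div_eq_mul_inv]; ring]
      exact mul_mem (mul_mem (degree_div_card_mem M hM hdiv hsq χ hχ)
        (isIntegral_mem_localRing hint)) (IsPModular.inv_natCast_mem hM hpq)
    · refine value_eq_zero_of_singular hdiv hsq χ hχ _ ?_
      obtain ⟨a, ha⟩ := IsPGroup.iff_orderOf.mp (D.isPGroup'.map C.subtype) d
      rw [← Subgroup.orderOf_coe] at ha
      have ha0 : a ≠ 0 := fun h0 => hd (Subtype.ext (orderOf_eq_one_iff.1 (by rw [ha, h0, pow_zero])))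
      have hcop : (orderOf y⁻¹).Coprime (orderOf (d : G)) := by
        rw [orderOf_inv, ha]
        exact Nat.Coprime.pow_right a ((hp.out.coprime_iff_not_dvd.mpr hy).symm)
      rw [(hcomm d d.2).orderOf_mul_eq_mul_orderOf_of_coprime hcop, ha]
      exact Dvd.dvd.mul_left (dvd_pow_self p ha0) _
  refine ⟨fun y => if (ConjClasses.mk y).out = y then res M ⟨_, hmem y⟩ else 0, fun y => ?_⟩
  set z := (ConjClasses.mk y).out with hz
  have hmk : ∀ h : G, ConjClasses.mk (h⁻¹ * y * h) = ConjClasses.mk y := fun h =>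
    ConjClasses.mk_eq_mk_iff_isConj.2 (isConj_iff.2 ⟨h, by group⟩)
  have hterm : ∀ h : G,
      (if (ConjClasses.mk (h⁻¹ * y * h)).out = h⁻¹ * y * h then
        res M ⟨_, hmem (h⁻¹ * y * h)⟩ else 0) =
      if h⁻¹ * y * h = z then res M ⟨_, hmem z⟩ else 0 := by
    intro h
    rw [hmk h, ← hz]
    by_cases hh : h⁻¹ * y * h = z
    · rw [if_pos hh.symm, if_pos hh]
      simp only [hh]
    · rw [if_neg (Ne.symm hh), if_neg hh]
  simp only [hterm]
  rw [← Finset.sum_filter, Finset.sum_const]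
  obtain ⟨w, hw⟩ : ∃ w, w * y * w⁻¹ = z := isConj_iff.1 (ConjClasses.mk_eq_mk_iff_isConj.1
    (Quotient.out_eq (ConjClasses.mk y)).symm)
  have hcard : (Finset.univ.filter fun h => h⁻¹ * y * h = z).card =
      Nat.card (Subgroup.centralizer ({z} : Set G)) := by
    rw [← Fintype.card_subtype, ← Nat.card_eq_fintype_card]
    refine Nat.card_congr ((Equiv.mulLeft w).subtypeEquiv fun h => ?_)
    rw [SetLike.mem_coe.symm, Equiv.coe_mulLeft, SetLike.mem_coe,
      Subgroup.mem_centralizer_singleton_iff, ← hw]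
    constructor
    · intro e
      calc w * h * (w * y * w⁻¹) = w * h * (h⁻¹ * y * h) := by rw [e]
        _ = w * y * w⁻¹ * (w * h) := by group
    · intro e
      calc h⁻¹ * y * h = (w * h)⁻¹ * (w * y * w⁻¹ * (w * h)) := by group
        _ = (w * h)⁻¹ * (w * h * (w * y * w⁻¹)) := by rw [e]
        _ = w * y * w⁻¹ := by group
  rw [hcard, redC]
  have he : (⟨idemC χ y, idemC_mem_of_defect_zero M hM hdiv hsq χ hχ y⟩ : localRing M) =
      (Nat.card (Subgroup.centralizer ({z} : Set G)) : localRing M) * ⟨_, hmem z⟩ := by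
    refine Subtype.ext ?_
    push_cast
    rw [mul_div_cancel₀ _ (Nat.cast_ne_zero.mpr Nat.card_pos.ne'), ← hw, idemC_conj]
  rw [he, map_mul, map_natCast, nsmul_eq_mul]

end DefectZero

end Cfsg.Agent.H43.D1
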