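import Mathlib
import Cfsg.Agent.H43.D1.Idem
import Cfsg.Agent.H43.D1.Existence
import Cfsg.Agent.H42.MaxIdeal

/-!
# Lower bound for the number of `p`-regular classes
-/

set_option autoImplicit false
set_option maxHeartbeats 1600000

namespace Cfsg.Agent.H43.D1

open Module Cfsg.Agent.H41

section Generic

variable {k : Type*} [Field k] {G : Type*} [Group G]

/-- The right regular representation on functions. -/
def regRep (k : Type*) [Field k] (G : Type*) [Group G] : G →* Module.End k (G → k) where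
  toFun g :=
    { toFun := fun f y => f (y * g)
      map_add' := fun _ _ => rfl
      map_smul' := fun _ _ => rfl }
  map_one' := LinearMap.ext fun f => funext fun y => by simp
  map_mul' a b := LinearMap.ext fun f => funext fun y => by simp [mul_assoc]

theorem regRep_apply (g : G) (f : G → k) (y : G) : regRep k G g f y = f (y * g) := rfl

theorem opF_restrict_coe [Fintype G] {V : Type*} [AddCommGroup V] [Module k V]
    (ρ : G →* Module.End k V) (U : Submodule k V) (hU : ∀ g, ∀ v ∈ U, ρ g v ∈ U) (c : G → k)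
    (v : U) : ((opF (restrictRep ρ U hU) c v : U) : V) = opF ρ c (v : V) := by
  simp only [opF, LinearMap.sum_apply, LinearMap.smul_apply, AddSubmonoidClass.coe_finsetSum,
    SetLike.val_smul, restrictRep_coe]

/-- A nonzero equivariant map between irreducible representations is bijective. -/
theorem bijective_of_irred {V W : Type*} [AddCommGroup V] [Module k V] [AddCommGroup W]
    [Module k W] {ρ : G →* Module.End k V} {σ : G →* Module.End k W} (hρ : IsIrred ρ)
    (hσ : IsIrred σ) (θ : V →ₗ[k] W) (hθ : ∀ g v, θ (ρ g v) = σ g (θ v)) (hne : θ ≠ 0) :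
    Function.Bijective θ := by
  constructor
  · rw [← LinearMap.ker_eq_bot]
    refine (hρ.2 _ fun g v hv => ?_).resolve_right fun h => hne (LinearMap.ker_eq_top.1 h)
    rw [LinearMap.mem_ker] at hv ⊢
    rw [hθ, hv, map_zero]
  · rw [← LinearMap.range_eq_top]
    refine (hσ.2 _ ?_).resolve_left fun h => hne (LinearMap.range_eq_bot.1 h)
    rintro g _ ⟨v, rfl⟩
    exact ⟨ρ g v, hθ g v⟩

theorem irred_map {V : Type*} [AddCommGroup V] [Module k V] (ρ : G →* Module.End k V)
    (M0 : Submodule k V) (hM0 : ∀ g, ∀ v ∈ M0, ρ g v ∈ M0) (U : Submodule k M0)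
    (hU : ∀ g, ∀ v ∈ U, restrictRep ρ M0 hM0 g v ∈ U)
    (hirr : IsIrred (restrictRep (restrictRep ρ M0 hM0) U hU)) :
    ∃ hU' : ∀ g, ∀ v ∈ U.map M0.subtype, ρ g v ∈ U.map M0.subtype,
      IsIrred (restrictRep ρ (U.map M0.subtype) hU') := by
  refine ⟨fun g v hv => ?_, ?_, fun W hW => ?_⟩
  · obtain ⟨w, hw, rfl⟩ := hv
    exact ⟨_, hU g w hw, rfl⟩
  · obtain ⟨z, hz⟩ := @exists_ne _ hirr.1 (0 : U)
    refine ⟨⟨⟨_, ⟨z.1, z.2, rfl⟩⟩, 0, fun h => hz (Subtype.ext (Subtype.ext ?_))⟩⟩
    have h2 := congrArg Subtype.val h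
    simpa using h2
  · let e : U ≃ₗ[k] U.map M0.subtype := U.equivMapOfInjective M0.subtype Subtype.val_injective
    have he : ∀ w : U, ((e w : U.map M0.subtype) : V) = ((w : M0) : V) := fun w => rfl
    rcases hirr.2 (W.comap e.toLinearMap) (fun g w hw => by
      have := hW g _ hw
      show e _ ∈ W
      convert this using 1
      exact Subtype.ext rfl) with h | h
    · left
      rw [eq_bot_iff]
      intro z hz
      have h1 : e.symm z ∈ W.comap e.toLinearMap := by
        show e (e.symm z) ∈ W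
        rwa [e.apply_symm_apply]
      rw [h, Submodule.mem_bot] at h1
      rw [Submodule.mem_bot, ← e.apply_symm_apply z, h1, map_zero]
    · right
      rw [eq_top_iff]
      intro z _
      have h1 : e.symm z ∈ W.comap e.toLinearMap := h ▸ Submodule.mem_top
      simpa using h1

theorem normP_comm [Fintype G] {p : ℕ} [Fact p.Prime] {V : Type*} [AddCommGroup V] [Module k V]
    (S : Setup p G) (ρ : G →* Module.End k V) {l : G} (hl : l ∈ S.L) :
    normP ρ S.x * ρ l = ρ l * normP ρ S.x := by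
  classical
  refine LinearMap.ext fun v => ?_
  rw [Module.End.mul_apply, Module.End.mul_apply, normP_apply, normP_apply, map_sum]
  refine Fintype.sum_bijective (fun u : S.P => (⟨l⁻¹ * u * l, S.conj_mem' hl u.2⟩ : S.P)) ?_ _ _
    fun u => ?_
  · refine Finite.injective_iff_bijective.1 fun a b h => Subtype.ext ?_
    simpa using congrArg Subtype.val h
  · rw [← Module.End.mul_apply, ← map_mul, ← Module.End.mul_apply, ← map_mul]
    congr 2
    simp [mul_assoc]

theorem equivariant_delta {V W : Type*} [AddCommGroup V] [Module k V] [AddCommGroup W] [Module k W]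
    {ρ : G →* Module.End k V} {σ : G →* Module.End k W} (θ : V →ₗ[k] W)
    (hθ : ∀ g v, θ (ρ g v) = σ g (θ v)) (x : G) (v : V) :
    θ (delta ρ x v) = delta σ x (θ v) := by
  simp only [delta, LinearMap.sub_apply, Module.End.one_apply, map_sub, hθ]

theorem equivariant_normP [Fintype G] {V W : Type*} [AddCommGroup V] [Module k V] [AddCommGroup W]
    [Module k W] {ρ : G →* Module.End k V} {σ : G →* Module.End k W} (θ : V →ₗ[k] W)
    (hθ : ∀ g v, θ (ρ g v) = σ g (θ v)) (x : G) (v : V) :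
    θ (normP ρ x v) = normP σ x (θ v) := by
  classical
  rw [normP_apply, normP_apply, map_sum]
  exact Finset.sum_congr rfl fun u _ => hθ _ _

theorem equivariant_opF [Fintype G] {V W : Type*} [AddCommGroup V] [Module k V] [AddCommGroup W]
    [Module k W] {ρ : G →* Module.End k V} {σ : G →* Module.End k W} (θ : V →ₗ[k] W)
    (hθ : ∀ g v, θ (ρ g v) = σ g (θ v)) (c : G → k) (v : V) :
    θ (opF ρ c v) = opF σ c (θ v) := by
  simp only [opF, LinearMap.sum_apply, LinearMap.smul_apply, map_sum, map_smul, hθ]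

/-- No nonzero maps between a module with exact norm and one with nonzero stable quotient. -/
theorem eq_zero_of_exact [Fintype G] {V W T : Type*} [AddCommGroup V] [Module k V] [AddCommGroup W]
    [Module k W] [AddCommGroup T] [Module k T] {ρ : G →* Module.End k V}
    {σ : G →* Module.End k W} (hρ : IsIrred ρ) (hσ : IsIrred σ) (x : G) (π : W →ₗ[k] T)
    (hπ : ∀ w ∈ LinearMap.range (delta σ x), π w = 0)
    (hw : ∃ w, normP σ x w = 0 ∧ π w ≠ 0)
    (hex : ∀ v, normP ρ x v = 0 → v ∈ LinearMap.range (delta ρ x)) :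
    (∀ θ : V →ₗ[k] W, (∀ g v, θ (ρ g v) = σ g (θ v)) → θ = 0) ∧
    (∀ θ : W →ₗ[k] V, (∀ g v, θ (σ g v) = ρ g (θ v)) → θ = 0) := by
  obtain ⟨w₀, hw₀, hw₁⟩ := hw
  constructor
  · intro θ hθ
    by_contra hne
    have hbij := bijective_of_irred hρ hσ θ hθ hne
    obtain ⟨z, rfl⟩ := hbij.2 w₀
    have hz : normP ρ x z = 0 := hbij.1 (by rw [equivariant_normP θ hθ, map_zero]; exact hw₀)
    obtain ⟨y, rfl⟩ := hex z hz
    exact hw₁ (hπ _ ⟨θ y, (equivariant_delta θ hθ x y).symm⟩)
  · intro θ hθ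
    by_contra hne
    have hbij := bijective_of_irred hσ hρ θ hθ hne
    obtain ⟨y, hy⟩ := hex (θ w₀) (by rw [← equivariant_normP θ hθ, hw₀, map_zero])
    obtain ⟨y', rfl⟩ := hbij.2 y
    exact hw₁ (hπ _ ⟨y', hbij.1 (by rw [equivariant_delta θ hθ, hy])⟩)

/-- In the kernel of the norm the projection only kills the image of `x - 1`. -/
theorem mem_range_of_proj_zero [IsAlgClosed k] [Fintype G] {p : ℕ} [Fact p.Prime] [CharP k p]
    (S : Setup p G) {U T : Type*} [AddCommGroup U] [Module k U] [FiniteDimensional k U]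
    [AddCommGroup T] [Module k T] (α : G →* Module.End k U) (hα : IsIrred α)
    (τ : S.L →* Module.End k T) (β : U →ₗ[k] T)
    (hβ : ∀ u ∈ LinearMap.range (delta α S.x), β u = 0)
    (hβl : ∀ (l : S.L) u, β (α (l : G) u) = τ l (β u))
    (hu : ∃ u, normP α S.x u = 0 ∧ β u ≠ 0) (u : U) (hu0 : normP α S.x u = 0) (hu1 : β u = 0) :
    u ∈ LinearMap.range (delta α S.x) := by
  set Z := LinearMap.ker (normP α S.x) ⊓ LinearMap.ker β
  have hZ := quot_simple S α hα Z
    (le_inf (range_le_ker _ S.orderOf_x) fun z hz => LinearMap.mem_ker.2 (hβ z hz))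
    inf_le_left (fun l hl z hz => ⟨by
      rw [SetLike.mem_coe, LinearMap.mem_ker, ← Module.End.mul_apply, normP_comm S α hl,
        Module.End.mul_apply, LinearMap.mem_ker.1 hz.1, map_zero], by
      rw [SetLike.mem_coe, LinearMap.mem_ker, hβl ⟨l, hl⟩, LinearMap.mem_ker.1 hz.2, map_zero]⟩)
  rcases hZ with h | h
  · exact h ▸ (⟨hu0, hu1⟩ : u ∈ Z)
  · exfalso
    obtain ⟨z, hzK, hzπ⟩ := hu
    have hzZ : z ∈ Z := h ▸ (LinearMap.mem_ker.2 hzK)
    exact hzπ hzZ.2

/-- Maps between modules whose stable quotients are separated by the complement vanish. -/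
theorem eq_zero_of_separated [IsAlgClosed k] [Fintype G] {p : ℕ} [Fact p.Prime] [CharP k p]
    (S : Setup p G) [Fintype S.L] {V W T : Type*} [AddCommGroup V] [Module k V]
    [FiniteDimensional k V] [AddCommGroup W] [Module k W] [FiniteDimensional k W] [AddCommGroup T]
    [Module k T] {ρ : G →* Module.End k V} {σ : G →* Module.End k W} (hρ : IsIrred ρ)
    (hσ : IsIrred σ) (τ : S.L →* Module.End k T) (π : V →ₗ[k] T) (π' : W →ₗ[k] T)
    (hπ : ∀ v ∈ LinearMap.range (delta ρ S.x), π v = 0)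
    (hπ' : ∀ v ∈ LinearMap.range (delta σ S.x), π' v = 0)
    (hπl : ∀ (l : S.L) v, π (ρ (l : G) v) = τ l (π v))
    (hπl' : ∀ (l : S.L) v, π' (σ (l : G) v) = τ l (π' v))
    (hv : ∃ v, normP ρ S.x v = 0 ∧ π v ≠ 0) (hw : ∃ w, normP σ S.x w = 0 ∧ π' w ≠ 0)
    (c : S.L → k) (hc : ∀ v, opF τ c (π v) = π v) (hc' : ∀ w, opF τ c (π' w) = 0)
    (θ : V →ₗ[k] W) (hθ : ∀ g v, θ (ρ g v) = σ g (θ v)) : θ = 0 := by
  classical
  by_contra hne
  have hbij := bijective_of_irred hρ hσ θ hθ hne
  obtain ⟨v, hvK, hvπ⟩ := hv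
  set εv : V := ∑ l : S.L, c l • ρ (l : G) v with hεv
  have hεK : normP ρ S.x εv = 0 := by
    rw [hεv, map_sum]
    refine Finset.sum_eq_zero fun l _ => ?_
    rw [map_smul, ← Module.End.mul_apply, normP_comm S _ l.2, Module.End.mul_apply, hvK, map_zero,
      smul_zero]
  have hεπ : π εv = π v := by
    rw [← hc v, hεv, map_sum]
    simp [opF, LinearMap.sum_apply, hπl]
  obtain ⟨w, hw'⟩ := mem_range_of_proj_zero S ρ hρ τ π hπ hπl ⟨v, hvK, hvπ⟩ (v - εv) (by rw [map_sub, hvK, hεK, sub_zero])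
    (by rw [map_sub, hεπ, sub_self])
  have h1 : π' (θ v) - π' (θ εv) = 0 := by
    rw [← map_sub, ← map_sub, ← hw', equivariant_delta θ hθ]
    exact hπ' _ ⟨_, rfl⟩
  have h2 : π' (θ εv) = 0 := by
    rw [← hc' (θ v), hεv, map_sum, map_sum]
    simp [opF, LinearMap.sum_apply, hθ, hπl']
  rw [h2, sub_zero] at h1
  have hθK : normP σ S.x (θ v) = 0 := by rw [← equivariant_normP θ hθ, hvK, map_zero]
  obtain ⟨w', hw''⟩ := mem_range_of_proj_zero S σ hσ τ π' hπ' hπl' hw (θ v) hθK h1
  obtain ⟨w'', rfl⟩ := hbij.2 w'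
  exact hvπ (hπ v ⟨w'', hbij.1 (by rw [equivariant_delta θ hθ, hw''])⟩)

end Generic

variable {G : Type*} [Group G] [Fintype G] {p : ℕ} [hp : Fact p.Prime]
  (M : Ideal Cfsg.AlgInt) [M.IsMaximal]

/-- A defect zero character gives a simple module on which the norm is exact. -/
theorem exists_defect_zero_sub (hM : Cfsg.IsPModular p M) (hdiv : p ∣ Nat.card G)
    (hsq : ¬ p ^ 2 ∣ Nat.card G) (x : G) (χ : Cfsg.IrrCharacter G)
    (hχ : p ∣ Cfsg.charDegree χ.1) :
    ∃ (U : Submodule (ResField M) (G → ResField M)) (hU : ∀ g, ∀ v ∈ U, regRep (ResField M) G g v ∈ U),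
      IsIrred (restrictRep (regRep (ResField M) G) U hU) ∧
      opF (restrictRep (regRep (ResField M) G) U hU)
        (redC M χ (idemC_mem_of_defect_zero M hM hdiv hsq χ hχ)) = 1 ∧
      ∀ v : U, normP (restrictRep (regRep (ResField M) G) U hU) x v = 0 →
        v ∈ LinearMap.range (delta (restrictRep (regRep (ResField M) G) U hU) x) := by
  classical
  have := IsPModular.charP hM
  set R := regRep (ResField M) G
  set c := redC M χ (idemC_mem_of_defect_zero M hM hdiv hsq χ hχ) with hc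
  have hconj : ∀ g h, c (h * g * h⁻¹) = c g := fun g h => redC_conj M χ _ g h
  set Rg := LinearMap.range (opF R c) with hRg
  have hinv : ∀ g, ∀ v ∈ Rg, R g v ∈ Rg := by
    rintro g _ ⟨w, rfl⟩
    exact ⟨R g w, (LinearMap.congr_fun (opF_comm R hconj g) w).symm⟩
  have hne : Rg ≠ ⊥ := by
    intro h
    obtain ⟨g, hg⟩ := exists_redC_ne_zero M hM hdiv hsq χ hχ
    refine hg ?_
    have h1 : opF R c (Pi.single 1 1) ∈ Rg := ⟨_, rfl⟩
    rw [h, Submodule.mem_bot] at h1
    have h2 := congrFun h1 g⁻¹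
    simp only [opF, LinearMap.sum_apply, Finset.sum_apply, LinearMap.smul_apply, Pi.smul_apply,
      Pi.zero_apply, smul_eq_mul, R, regRep_apply, Pi.single_apply, mul_ite, mul_one,
      mul_zero, inv_mul_eq_one] at h2
    simpa [Finset.sum_ite_eq] using h2
  obtain ⟨U, hU, hUR, hirr⟩ := exists_irred_sub R Rg hinv hne
  have hone : opF (restrictRep R U hU) c = 1 := by
    refine LinearMap.ext fun v => Subtype.ext ?_
    obtain ⟨w, hw⟩ := hUR v.2
    rw [opF_restrict_coe, ← hw, ← Module.End.mul_apply, hc, opF_redC_idem, ← hc, hw,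
      Module.End.one_apply]
  refine ⟨U, hU, hirr, hone, fun v hv => ?_⟩
  obtain ⟨b, hb⟩ := exists_trace_eq_redC M hM hdiv hsq χ hχ
  have h := trace_mem (restrictRep R U hU) x (opF (restrictRep R U hU) b) hv
  have e : ∑ g, restrictRep R U hU g * opF (restrictRep R U hU) b * restrictRep R U hU g⁻¹ =
      opF (restrictRep R U hU) c := by
    simp only [opF_conj]
    simp only [opF]
    rw [Finset.sum_comm]
    refine Finset.sum_congr rfl fun y _ => ?_
    rw [← Finset.sum_smul, hb]
  rwa [e, hone, Module.End.one_apply] at h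

/-- A character of the complement gives a simple module with nonzero stable quotient. -/
theorem exists_stable_sub (hM : Cfsg.IsPModular p M) (S : Setup p G) [Fintype S.L]
    (ψ : Cfsg.IrrCharacter S.L) :
    ∃ (U : Submodule (ResField M) (G → ResField M)) (hU : ∀ g, ∀ v ∈ U, regRep (ResField M) G g v ∈ U),
      IsIrred (restrictRep (regRep (ResField M) G) U hU) ∧
      (∀ f ∈ U, ∀ u ∈ S.P, ∀ g, f (u * g) = f g) ∧
      (∀ f ∈ U, opF (regRep (ResField M) S.L) (redC M ψ (idemC_mem_of_not_dvd M hM S.not_dvd ψ))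
        (fun m : S.L => f (m : G)) = fun m : S.L => f (m : G)) ∧
      ∃ v : U, normP (restrictRep (regRep (ResField M) G) U hU) S.x v = 0 ∧
        (fun m : S.L => (v : G → ResField M) (m : G)) ≠ 0 := by
  classical
  have := IsPModular.charP hM
  have := isAlgClosed_resField M
  set k := ResField M
  set R := regRep k G
  set RL := regRep k S.L
  set c := redC M ψ (idemC_mem_of_not_dvd M hM S.not_dvd ψ) with hc
  have hconj : ∀ g h, c (h * g * h⁻¹) = c g := fun g h => redC_conj M ψ _ g h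
  set Rg := LinearMap.range (opF RL c) with hRg
  have hinv : ∀ g, ∀ v ∈ Rg, RL g v ∈ Rg := by
    rintro g _ ⟨w, rfl⟩
    exact ⟨RL g w, (LinearMap.congr_fun (opF_comm RL hconj g) w).symm⟩
  have hne : Rg ≠ ⊥ := by
    intro h
    refine redC_one_ne_zero M hM S.not_dvd ψ ?_
    have h1 : opF RL c (Pi.single 1 1) ∈ Rg := ⟨_, rfl⟩
    rw [h, Submodule.mem_bot] at h1
    have h2 := congrFun h1 1
    simp only [opF, LinearMap.sum_apply, Finset.sum_apply, LinearMap.smul_apply, Pi.smul_apply,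
      Pi.zero_apply, smul_eq_mul, RL, regRep_apply, Pi.single_apply, mul_ite, mul_one,
      mul_zero, one_mul] at h2
    rw [Finset.sum_ite_eq'] at h2
    simpa using h2
  obtain ⟨T, hT, hTR, hTirr⟩ := exists_irred_sub RL Rg hinv hne
  -- functions left invariant under `P` with translates in `T`
  let M0 : Submodule k (G → k) :=
    { carrier := {f | (∀ u ∈ S.P, ∀ g, f (u * g) = f g) ∧ ∀ g, (fun m : S.L => f ((m : G) * g)) ∈ T}
      add_mem' := fun {a b} ha hb => ⟨fun u hu g => by simp [ha.1 u hu g, hb.1 u hu g],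
        fun g => T.add_mem (ha.2 g) (hb.2 g)⟩
      zero_mem' := ⟨fun _ _ _ => rfl, fun _ => T.zero_mem⟩
      smul_mem' := fun r {a} ha => ⟨fun u hu g => by simp [ha.1 u hu g],
        fun g => T.smul_mem r (ha.2 g)⟩ }
  have hM0 : ∀ g, ∀ v ∈ M0, R g v ∈ M0 := by
    intro g v hv
    refine ⟨fun u hu y => ?_, fun y => ?_⟩
    · simp only [R, regRep_apply, mul_assoc]; exact hv.1 u hu _
    · simp only [R, regRep_apply, mul_assoc]; exact hv.2 _
  let π : M0 →ₗ[k] T :=
    { toFun := fun f => ⟨fun m => (f : G → k) (m : G), by simpa using f.2.2 1⟩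
      map_add' := fun _ _ => rfl
      map_smul' := fun _ _ => rfl }
  have hlp : ∀ g : G, ∃ l : S.L, g ∈ S.N → ∃ u ∈ S.P, g = (l : G) * u := fun g => by
    by_cases hg : g ∈ S.N
    · obtain ⟨l, hl, u, hu, e⟩ := S.mem_N_iff.1 hg
      exact ⟨⟨l, hl⟩, fun _ => ⟨u, hu, e⟩⟩
    · exact ⟨1, fun h => absurd h hg⟩
  choose lp hlp using hlp
  have hlp_eq : ∀ (l : S.L), ∀ u ∈ S.P, lp ((l : G) * u) = l := by
    intro l u hu
    obtain ⟨v, hv, e⟩ := hlp ((l : G) * u) (S.mem_N_iff.2 ⟨_, l.2, u, hu, rfl⟩)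
    exact Subtype.ext (S.mul_unique l.2 (Subtype.mem _) hu hv e).1.symm
  have hA : ∀ t : T, (fun g : G => if g ∈ S.N then (t : S.L → k) (lp g) else 0) ∈ M0 := by
    intro t
    refine ⟨fun u hu g => ?_, fun g => ?_⟩
    · by_cases hg : g ∈ S.N
      · show (if _ then _ else _) = (if _ then _ else _)
        rw [if_pos hg, if_pos (S.N.mul_mem (S.P_le_N hu) hg)]
        obtain ⟨v, hv, e⟩ := hlp g hg
        have h2 : u * g = (lp g : G) * (((lp g : G))⁻¹ * u * (lp g : G) * v) := by
          conv_lhs => rw [e]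
          group
        rw [h2, hlp_eq (lp g) _ (S.P.mul_mem (S.conj_mem' (lp g).2 hu) hv)]
      · show (if _ then _ else _) = (if _ then _ else _)
        rw [if_neg hg, if_neg]
        intro h
        exact hg (by simpa using S.N.mul_mem (S.N.inv_mem (S.P_le_N hu)) h)
    · by_cases hg : g ∈ S.N
      · obtain ⟨v, hv, e⟩ := hlp g hg
        have : (fun m : S.L => if (m : G) * g ∈ S.N then (t : S.L → k) (lp ((m : G) * g)) else 0) =
            RL (lp g) (t : S.L → k) := by
          funext m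
          rw [if_pos (S.N.mul_mem (S.L_le_N m.2) hg)]
          conv_lhs => rw [e, ← mul_assoc, ← Subgroup.coe_mul, hlp_eq _ v hv]
          rfl
        rw [this]
        exact hT _ _ t.2
      · have : (fun m : S.L => if (m : G) * g ∈ S.N then (t : S.L → k) (lp ((m : G) * g)) else 0) =
            0 := by
          funext m
          rw [if_neg]
          · rfl
          · intro h
            exact hg (by simpa using S.N.mul_mem (S.N.inv_mem (S.L_le_N m.2)) h)
        rw [this]
        exact T.zero_mem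
  let A : T →ₗ[k] M0 :=
    { toFun := fun t => ⟨_, hA t⟩
      map_add' := fun a b => by
        refine Subtype.ext (funext fun g => ?_)
        simp only [Submodule.coe_add, Pi.add_apply]
        split_ifs <;> simp
      map_smul' := fun r a => by
        refine Subtype.ext (funext fun g => ?_)
        simp only [SetLike.val_smul, Pi.smul_apply, RingHom.id_apply]
        split_ifs <;> simp }
  have := hTirr.1
  obtain ⟨U, hU, hirr, v, hvU, hvK, hvπ⟩ := exists_simple_sub S (restrictRep R M0 hM0)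
    (restrictRep RL T hT) π A
    (fun l f => Subtype.ext (funext fun m => by
      show (f : G → k) ((m : G) * (l : G)) = (f : G → k) ((m * l : S.L) : G)
      rw [Subgroup.coe_mul]))
    (fun u hu f => Subtype.ext (funext fun m => by
      show (f : G → k) ((m : G) * u) = (f : G → k) (m : G)
      rw [show (m : G) * u = ((m : G) * u * (m : G)⁻¹) * (m : G) by group,
        f.2.1 _ (S.conj_mem m.2 hu)]))
    (fun l u hu t => Subtype.ext (funext fun m => by
      show (if (m : G) * ((l : G) * u) ∈ S.N then (t : S.L → k) (lp ((m : G) * ((l : G) * u))) else 0) =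
        (t : S.L → k) (m * l)
      rw [if_pos (S.N.mul_mem (S.L_le_N m.2) (S.mem_N_iff.2 ⟨_, l.2, u, hu, rfl⟩)), ← mul_assoc,
        ← Subgroup.coe_mul, hlp_eq _ u hu]))
    (fun g hg t => Subtype.ext (funext fun m => by
      show (if (m : G) * g ∈ S.N then (t : S.L → k) (lp ((m : G) * g)) else 0) = 0
      rw [if_neg]
      intro h
      exact hg (by simpa using S.N.mul_mem (S.N.inv_mem (S.L_le_N m.2)) h)))
    (fun f hf => Subtype.ext (funext fun g => by
      have h := congrFun (congrArg Subtype.val (hf g)) (1 : S.L)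
      simpa [π, R, restrictRep_coe, regRep_apply] using h))
  obtain ⟨hU', hirr'⟩ := irred_map R M0 hM0 U hU hirr
  refine ⟨U.map M0.subtype, hU', hirr', ?_, ?_, ⟨(v : G → k), ⟨v, hvU, rfl⟩⟩, ?_, ?_⟩
  · rintro _ ⟨f, -, rfl⟩
    exact f.2.1
  · rintro _ ⟨f, -, rfl⟩
    obtain ⟨w, hw⟩ := hTR (π f).2
    show opF RL c ((π f : T) : S.L → k) = ((π f : T) : S.L → k)
    rw [← hw, ← Module.End.mul_apply, hc, opF_redC_idem]
  · refine Subtype.ext ?_
    rw [normP_restrict]
    have h := congrArg Subtype.val hvK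
    rw [normP_restrict] at h
    exact h
  · intro h
    exact hvπ (Subtype.ext h)

/-- The defect zero characters and the characters of the complement inject into the regular
classes. -/
theorem card_add_le_regClasses (S : Setup p G) (hdiv : p ∣ Nat.card G) :
    Nat.card {χ : Cfsg.IrrCharacter G // p ∣ Cfsg.charDegree χ.1} +
      Nat.card (Cfsg.IrrCharacter S.L) ≤ Nat.card (regClasses p G) := by
  classical
  obtain ⟨M, hM⟩ := H42.exists_isPModular hp.out
  have : M.IsMaximal := hM.2.1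
  have := IsPModular.charP hM
  have := isAlgClosed_resField M
  let _ : Fintype S.L := Fintype.ofFinite _
  set k := ResField M
  set R := regRep k G
  choose U1 hU1 hirr1 hone1 hexact1 using fun χ : {χ : Cfsg.IrrCharacter G // p ∣ Cfsg.charDegree χ.1} =>
    exists_defect_zero_sub M hM hdiv S.not_sq S.x χ.1 χ.2
  choose U2 hU2 hirr2 hleft2 hfix2 hne2 using fun ψ : Cfsg.IrrCharacter S.L => exists_stable_sub M hM S ψ
  let Sub : {χ : Cfsg.IrrCharacter G // p ∣ Cfsg.charDegree χ.1} ⊕ Cfsg.IrrCharacter S.L →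
      Submodule k (G → k) := Sum.elim U1 U2
  have hSub : ∀ i, ∀ g, ∀ v ∈ Sub i, R g v ∈ Sub i := Sum.rec hU1 hU2
  have hcard := card_le_regClasses (p := p) (fun i => ↥(Sub i))
    (fun i => restrictRep R (Sub i) (hSub i))
    (Sum.rec hirr1 hirr2) ?_
  · rw [Fintype.card_sum] at hcard
    rwa [Nat.card_eq_fintype_card, Nat.card_eq_fintype_card]
  have hπD : ∀ ψ, ∀ v ∈ LinearMap.range (delta (restrictRep R (U2 ψ) (hU2 ψ)) S.x),
      (fun m : S.L => (v : G → k) (m : G)) = 0 := by
    rintro ψ _ ⟨w, rfl⟩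
    funext m
    show ((restrictRep R (U2 ψ) (hU2 ψ) S.x w : U2 ψ) : G → k) (m : G) - (w : G → k) (m : G) = 0
    rw [restrictRep_coe, regRep_apply,
      show (m : G) * S.x = ((m : G) * S.x * (m : G)⁻¹) * (m : G) by group,
      hleft2 ψ _ w.2 _ (S.conj_mem m.2 (Subgroup.mem_zpowers S.x)), sub_self]
  let Pr : ∀ (η : Cfsg.IrrCharacter S.L), U2 η →ₗ[k] (S.L → k) := fun η =>
    { toFun := fun f m => (f : G → k) (m : G), map_add' := fun _ _ => rfl,
      map_smul' := fun _ _ => rfl }
  have h11 : ∀ χ χ', χ ≠ χ' → ∀ θ : U1 χ →ₗ[k] U1 χ',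
      (∀ g v, θ (restrictRep R _ (hU1 χ) g v) = restrictRep R _ (hU1 χ') g (θ v)) → θ = 0 := by
    intro χ χ' hne θ hθ
    refine LinearMap.ext fun v => ?_
    set c := redC M χ.1 (idemC_mem_of_defect_zero M hM hdiv S.not_sq χ.1 χ.2)
    have hzero : opF (restrictRep R (U1 χ') (hU1 χ')) c = 0 := by
      rw [← mul_one (opF _ c), ← hone1 χ']
      exact opF_redC_orth M _ (fun h => hne (Subtype.ext h)) _ _
    have h := equivariant_opF θ hθ c v
    rw [hone1 χ, hzero, Module.End.one_apply, LinearMap.zero_apply] at h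
    rw [LinearMap.zero_apply]
    exact h
  have h12 := fun χ ψ => eq_zero_of_exact (hirr1 χ) (hirr2 ψ) S.x (Pr ψ) (hπD ψ) (hne2 ψ) (hexact1 χ)
  have h22 : ∀ ψ ψ', ψ ≠ ψ' → ∀ θ : U2 ψ →ₗ[k] U2 ψ',
      (∀ g v, θ (restrictRep R _ (hU2 ψ) g v) = restrictRep R _ (hU2 ψ') g (θ v)) → θ = 0 := by
    intro ψ ψ' hne θ hθ
    refine eq_zero_of_separated S (hirr2 ψ) (hirr2 ψ') (regRep k S.L) (Pr ψ) (Pr ψ') (hπD ψ) (hπD ψ')
      (fun _ _ => rfl) (fun _ _ => rfl) (hne2 ψ) (hne2 ψ')
      (redC M ψ (idemC_mem_of_not_dvd M hM S.not_dvd ψ)) (fun v => hfix2 ψ _ v.2) (fun w => ?_) θ hθ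
    rw [show Pr ψ' w = opF (regRep k S.L) (redC M ψ' (idemC_mem_of_not_dvd M hM S.not_dvd ψ'))
      (Pr ψ' w) from (hfix2 ψ' _ w.2).symm, ← Module.End.mul_apply,
      opF_redC_orth M _ hne _ _, LinearMap.zero_apply]
  rintro (χ | ψ) (χ' | ψ') hij θ hθ
  · exact h11 χ χ' (fun h => hij (congrArg Sum.inl h)) θ hθ
  · exact (h12 χ ψ').1 θ hθ
  · exact (h12 χ' ψ).2 θ hθ
  · exact h22 ψ ψ' (fun h => hij (congrArg Sum.inr h)) θ hθ

end Cfsg.Agent.H43.D1
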