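import Mathlib
import Cfsg.Agent.H43.D1.Setup
import Cfsg.Agent.H43.D1.ModP
import Cfsg.Agent.H86.Basic

/-!
# Singular and regular classes when the prime divides the order once
-/

set_option autoImplicit false
set_option maxHeartbeats 800000

namespace Cfsg.Agent.H43.D1

/-- The `p`-singular conjugacy classes. -/
def singClasses (p : ℕ) (G : Type*) [Group G] : Set (ConjClasses G) :=
  {C | ∃ y : G, p ∣ orderOf y ∧ ConjClasses.mk y = C}

theorem orderOf_eq_of_mk_eq {G : Type*} [Group G] {a b : G}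
    (h : ConjClasses.mk a = ConjClasses.mk b) : orderOf a = orderOf b := by
  obtain ⟨w, rfl⟩ := isConj_iff.1 (ConjClasses.mk_eq_mk_iff_isConj.1 h)
  exact ((MulAut.conj w).orderOf_eq a).symm

theorem card_conjClasses_eq_add (p : ℕ) (G : Type*) [Group G] [Finite G] :
    Nat.card (ConjClasses G) = Nat.card (regClasses p G) + Nat.card (singClasses p G) := by
  classical
  have : singClasses p G = (regClasses p G)ᶜ := by
    ext C
    induction C using Quotient.inductionOn with
    | h a =>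
      constructor
      · rintro ⟨y, hy, e⟩ ⟨z, hz, e'⟩
        exact hz (orderOf_eq_of_mk_eq (e.trans e'.symm) ▸ hy)
      · intro h
        exact ⟨a, by_contra fun ha => h ⟨a, ha, rfl⟩, rfl⟩
  let _ : Fintype (ConjClasses G) := Fintype.ofFinite _
  rw [this, Nat.card_coe_set_eq, Nat.card_coe_set_eq, Set.ncard_add_ncard_compl]

theorem sum_centralizer_eq_card_mul {X : Type*} [Group X] [Fintype X] [DecidableEq X]
    (s : Finset X) (hs : ∀ g, ∀ y ∈ s, g * y * g⁻¹ ∈ s) :
    ∑ y ∈ s, Nat.card (Subgroup.centralizer ({y} : Set X)) =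
      Nat.card {C : ConjClasses X // ∃ y ∈ s, ConjClasses.mk y = C} * Nat.card X := by
  classical
  let _ : Fintype (ConjClasses X) := Fintype.ofFinite _
  rw [← Finset.sum_fiberwise_of_maps_to (g := ConjClasses.mk) (t := s.image ConjClasses.mk)
    (fun y hy => Finset.mem_image_of_mem _ hy)]
  have hfib : ∀ C ∈ s.image ConjClasses.mk,
      ∑ y ∈ s.filter (fun y => ConjClasses.mk y = C),
        Nat.card (Subgroup.centralizer ({y} : Set X)) = Nat.card X := by
    intro C hC
    obtain ⟨y₀, hy₀, rfl⟩ := Finset.mem_image.1 hC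
    have hset : s.filter (fun y => ConjClasses.mk y = ConjClasses.mk y₀) =
        Finset.univ.image fun g : X => g * y₀ * g⁻¹ := by
      ext y
      simp only [Finset.mem_filter, Finset.mem_image, Finset.mem_univ, true_and,
        ConjClasses.mk_eq_mk_iff_isConj]
      constructor
      · rintro ⟨-, h⟩
        obtain ⟨g, hg⟩ := isConj_iff.1 h.symm
        exact ⟨g, hg⟩
      · rintro ⟨g, rfl⟩
        exact ⟨hs g _ hy₀, (isConj_iff.2 ⟨g, rfl⟩ : IsConj y₀ _).symm⟩
    rw [hset]
    have hstep : ∀ y ∈ Finset.univ.image (fun g : X => g * y₀ * g⁻¹),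
        Nat.card (Subgroup.centralizer ({y} : Set X)) =
          (Finset.univ.filter fun g : X => g * y₀ * g⁻¹ = y).card := by
      intro y hy
      obtain ⟨w, -, rfl⟩ := Finset.mem_image.1 hy
      rw [← Fintype.card_subtype, ← Nat.card_eq_fintype_card]
      refine Nat.card_congr ((Equiv.mulRight w).subtypeEquiv fun g => ?_)
      rw [Equiv.coe_mulRight, Subgroup.mem_centralizer_singleton_iff]
      constructor
      · intro h
        calc g * w * y₀ * (g * w)⁻¹ = g * (w * y₀ * w⁻¹) * g⁻¹ := by group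
          _ = w * y₀ * w⁻¹ * g * g⁻¹ := by rw [h]
          _ = w * y₀ * w⁻¹ := by group
      · intro h
        calc g * (w * y₀ * w⁻¹) = g * w * y₀ * (g * w)⁻¹ * g := by group
          _ = w * y₀ * w⁻¹ * g := by rw [h]
    rw [Finset.sum_congr rfl hstep, ← Finset.card_eq_sum_card_image, Finset.card_univ,
      Nat.card_eq_fintype_card]
  rw [Finset.sum_congr rfl hfib, Finset.sum_const, smul_eq_mul, ← Fintype.card_coe,
    ← Nat.card_eq_fintype_card]
  congr 1
  exact Nat.card_congr (Equiv.subtypeEquivRight fun C => by simp)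

namespace Setup

variable {p : ℕ} [hp : Fact p.Prime] {G : Type*} [Group G] [Finite G] (S : Setup p G)

theorem exists_exp (l : S.L) : ∃ c : (ZMod p)ˣ,
    (l : G) * S.x * (l : G)⁻¹ = S.x ^ (c : ZMod p).val := by
  obtain ⟨n, hn⟩ := (mem_powers_iff_mem_zpowers (x := S.x)).2 (S.le_norm _ l.2)
  change S.x ^ n = _ at hn
  have hc : n.Coprime p := by
    refine ((hp.out.coprime_iff_not_dvd).2 fun h => ?_).symm
    obtain ⟨m, rfl⟩ := h
    have hx1 : S.x ^ p = 1 := by
      conv_lhs => arg 2; rw [← S.orderOf_x]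
      exact pow_orderOf_eq_one _
    rw [pow_mul, hx1, one_pow] at hn
    refine S.x_ne_one ?_
    have := congrArg (fun z => (l : G)⁻¹ * z * (l : G)) hn
    simpa [mul_assoc] using this.symm
  refine ⟨ZMod.unitOfCoprime n hc, ?_⟩
  rw [ZMod.coe_unitOfCoprime, ZMod.val_natCast, ← hn]
  conv_rhs => arg 2; rw [← S.orderOf_x]
  exact (pow_mod_orderOf _ _).symm

omit hp [Finite G] in
theorem x_pow_p : S.x ^ p = 1 :=
  orderOf_dvd_iff_pow_eq_one.1 (dvd_of_eq S.orderOf_x)

omit [Finite G] in
theorem x_pow_eq_iff {a b : ℕ} : S.x ^ a = S.x ^ b ↔ (a : ZMod p) = (b : ZMod p) := by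
  rw [pow_eq_pow_iff_modEq, S.orderOf_x, ZMod.natCast_eq_natCast_iff]

omit [Finite G] in
theorem x_pow_val_inj {a b : ZMod p} (h : S.x ^ a.val = S.x ^ b.val) : a = b := by
  rwa [S.x_pow_eq_iff, ZMod.natCast_rightInverse a, ZMod.natCast_rightInverse b] at h

theorem exists_action : ∃ r : S.L →* (ZMod p)ˣ,
    ∀ l : S.L, (l : G) * S.x * (l : G)⁻¹ = S.x ^ (r l : ZMod p).val := by
  choose c hc using S.exists_exp
  have hone : c 1 = 1 := Units.ext (S.x_pow_val_inj (by
    rw [← hc 1, Units.val_one, ZMod.val_one, pow_one]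
    simp))
  refine ⟨{ toFun := c, map_one' := hone, map_mul' := fun a b => Units.ext (S.x_pow_val_inj ?_) }, hc⟩
  rw [← hc (a * b), Subgroup.coe_mul,
    show (a : G) * b * S.x * ((a : G) * b)⁻¹ = a * ((b : G) * S.x * (b : G)⁻¹) * (a : G)⁻¹ by group,
    hc b, ← conj_pow, hc a, ← pow_mul, S.x_pow_eq_iff, Nat.cast_mul, Units.val_mul,
    ZMod.natCast_rightInverse, ZMod.natCast_rightInverse, ZMod.natCast_rightInverse]

/-- The action of the complement on the Sylow subgroup. -/
noncomputable def act : S.L →* (ZMod p)ˣ := S.exists_action.choose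

theorem act_spec (l : S.L) : (l : G) * S.x * (l : G)⁻¹ = S.x ^ (S.act l : ZMod p).val :=
  S.exists_action.choose_spec l

theorem conj_x_pow (l : S.L) (n : ℕ) :
    (l : G) * S.x ^ n * (l : G)⁻¹ = S.x ^ ((S.act l : ZMod p).val * n) := by
  rw [← conj_pow, S.act_spec, ← pow_mul]

/-- The `p'`-part of the centralizer. -/
noncomputable abbrev V : Subgroup S.L := S.act.ker

theorem commute_of_mem_V {v : S.L} (hv : v ∈ S.V) : Commute (v : G) S.x := by
  have h := S.act_spec v
  rw [show S.act v = 1 from hv, Units.val_one, ZMod.val_one, pow_one] at h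
  exact mul_inv_eq_iff_eq_mul.1 h

/-- The singular elements of the normalizer. -/
noncomputable def sing (i : (ZMod p)ˣ) (v : S.V) : G := S.x ^ (i : ZMod p).val * ((v : S.L) : G)

theorem not_dvd_orderOf_L (l : S.L) : ¬ p ∣ orderOf (l : G) := fun h =>
  S.not_dvd (h.trans ((Subgroup.orderOf_coe l).symm ▸ orderOf_dvd_natCard l))

theorem orderOf_x_pow (i : (ZMod p)ˣ) : orderOf (S.x ^ (i : ZMod p).val) = p := by
  rw [Nat.Coprime.orderOf_pow, S.orderOf_x]
  rw [S.orderOf_x]
  exact (ZMod.val_coe_unit_coprime i).symm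

theorem dvd_orderOf_sing (i : (ZMod p)ˣ) (v : S.V) : p ∣ orderOf (S.sing i v) := by
  have hc : Commute (S.x ^ (i : ZMod p).val) ((v : S.L) : G) :=
    ((S.commute_of_mem_V v.2).symm).pow_left _
  rw [sing, hc.orderOf_mul_eq_mul_orderOf_of_coprime, S.orderOf_x_pow]
  · exact dvd_mul_right _ _
  · rw [S.orderOf_x_pow]
    exact hp.out.coprime_iff_not_dvd.2 (S.not_dvd_orderOf_L _)

theorem sing_mem_N (i : (ZMod p)ˣ) (v : S.V) : S.sing i v ∈ S.N :=
  S.N.mul_mem (S.P_le_N (Subgroup.pow_mem _ (Subgroup.mem_zpowers _) _)) (S.L_le_N (Subtype.mem _))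

theorem sing_injective : Function.Injective fun q : (ZMod p)ˣ × S.V => S.sing q.1 q.2 := by
  rintro ⟨i, v⟩ ⟨j, w⟩ h
  have hcv : S.sing i v = ((v : S.L) : G) * S.x ^ (i : ZMod p).val :=
    (((S.commute_of_mem_V v.2).symm).pow_left _).eq
  have hcw : S.sing j w = ((w : S.L) : G) * S.x ^ (j : ZMod p).val :=
    (((S.commute_of_mem_V w.2).symm).pow_left _).eq
  change S.sing i v = S.sing j w at h
  rw [hcv, hcw] at h
  obtain ⟨h1, h2⟩ := S.mul_unique (Subtype.mem _) (Subtype.mem _)
    (Subgroup.pow_mem _ (Subgroup.mem_zpowers _) _) (Subgroup.pow_mem _ (Subgroup.mem_zpowers _) _) h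
  exact Prod.ext (Units.ext (S.x_pow_val_inj h2)) (Subtype.ext (Subtype.ext h1))

/-- An element of the normalizer is conjugate into the complement or is one of the standard
singular elements. -/
theorem conj_or_sing {g : G} (hg : g ∈ S.N) :
    (∃ l : S.L, ∃ u ∈ S.P, u * (l : G) * u⁻¹ = g) ∨ ∃ i v, g = S.sing i v := by
  classical
  obtain ⟨l, hl, u, hu, rfl⟩ := S.mem_N_iff.1 hg
  by_cases hlV : (⟨l, hl⟩ : S.L) ∈ S.V
  · by_cases hu1 : u = 1
    · exact Or.inl ⟨⟨l, hl⟩, 1, S.P.one_mem, by simp [hu1]⟩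
    · obtain ⟨n, rfl⟩ := (mem_powers_iff_mem_zpowers (x := S.x)).2 hu
      have hn : n.Coprime p := by
        refine ((hp.out.coprime_iff_not_dvd).2 fun h => hu1 ?_).symm
        obtain ⟨m, rfl⟩ := h
        show S.x ^ (p * m) = 1
        rw [pow_mul, S.x_pow_p, one_pow]
      refine Or.inr ⟨ZMod.unitOfCoprime n hn, ⟨⟨l, hl⟩, hlV⟩, ?_⟩
      have hx : S.x ^ n = S.x ^ ((ZMod.unitOfCoprime n hn : (ZMod p)ˣ) : ZMod p).val := by
        rw [S.x_pow_eq_iff, ZMod.natCast_rightInverse, ZMod.coe_unitOfCoprime]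
      show l * S.x ^ n = _
      rw [sing, ← hx]
      exact ((S.commute_of_mem_V hlV : Commute l S.x).pow_right n).eq
  · left
    let f : S.P → S.P := fun w => ⟨(l⁻¹ * (w : G) * l) * (w : G)⁻¹,
      S.P.mul_mem (S.conj_mem' hl w.2) (S.P.inv_mem w.2)⟩
    have hf : Function.Surjective f := by
      refine (Finite.injective_iff_bijective.1 fun a b h => ?_).2
      by_contra hab
      have hcomm : ∀ c d : G, c ∈ S.P → d ∈ S.P → c * d = d * c := by
        intro c d hc hd
        obtain ⟨i, rfl⟩ := Subgroup.mem_zpowers_iff.1 hc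
        obtain ⟨j, rfl⟩ := Subgroup.mem_zpowers_iff.1 hd
        exact ((Commute.refl S.x).zpow_zpow i j).eq
      have h' := congrArg Subtype.val h
      set c := (b : G)⁻¹ * (a : G)
      have hc : c ∈ S.P := S.P.mul_mem (S.P.inv_mem b.2) a.2
      have hcl : l⁻¹ * c * l = c := by
        have h1 : l⁻¹ * (a : G) * l = l⁻¹ * (b : G) * l * (b : G)⁻¹ * (a : G) :=
          (mul_inv_eq_iff_eq_mul.1 h')
        calc l⁻¹ * c * l = (l⁻¹ * (b : G) * l)⁻¹ * (l⁻¹ * (a : G) * l) := by simp [c, mul_assoc]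
          _ = (b : G)⁻¹ * (a : G) := by rw [h1]; group
          _ = c := rfl
      have hc1 : c ≠ 1 := fun h1 => hab (Subtype.ext (inv_mul_eq_one.1 h1).symm)
      have hlx : l * S.x * l⁻¹ = S.x := by
        have : Fact (Nat.card S.P).Prime := ⟨S.card_P.symm ▸ hp.out⟩
        have hgen : Subgroup.zpowers (⟨c, hc⟩ : S.P) = ⊤ :=
          (Subgroup.eq_bot_or_eq_top_of_prime_card _).resolve_left fun hbot =>
            hc1 (congrArg Subtype.val (Subgroup.zpowers_eq_bot.1 hbot))
        obtain ⟨i, hi⟩ := Subgroup.mem_zpowers_iff.1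
          (hgen ▸ Subgroup.mem_top (⟨S.x, Subgroup.mem_zpowers S.x⟩ : S.P))
        have hi' : c ^ i = S.x := congrArg Subtype.val hi
        have hlc : l * c * l⁻¹ = c := by
          conv_lhs => rw [← hcl]
          group
        rw [← hi', ← conj_zpow, hlc]
      refine hlV ?_
      show S.act ⟨l, hl⟩ = 1
      refine Units.ext (S.x_pow_val_inj ?_)
      rw [← S.act_spec, Units.val_one, ZMod.val_one, pow_one]
      exact hlx
    obtain ⟨w, hw⟩ := hf ⟨u, hu⟩
    refine ⟨⟨l, hl⟩, w, w.2, ?_⟩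
    show (w : G) * l * (w : G)⁻¹ = l * u
    rw [← show l⁻¹ * (w : G) * l * (w : G)⁻¹ = u from congrArg Subtype.val hw]
    group

theorem eq_one_of_conj_mem_N {g : G} {i : (ZMod p)ˣ} {v : S.V}
    (h : g * S.sing i v * g⁻¹ ∈ S.N) : g ∈ S.N := by
  have hc : Commute (S.x ^ (i : ZMod p).val) ((v : S.L) : G) :=
    ((S.commute_of_mem_V v.2).symm).pow_left _
  set m := Nat.card S.L
  have hvm : (((v : S.L) : G)) ^ m = 1 := by
    rw [← Subgroup.coe_pow, pow_card_eq_one', Subgroup.coe_one]
  have hpow : S.sing i v ^ m = S.x ^ ((i : ZMod p).val * m) := by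
    rw [sing, hc.mul_pow, hvm, mul_one, pow_mul]
  have hm : ((i : ZMod p).val * m).Coprime p :=
    Nat.Coprime.mul_left (ZMod.val_coe_unit_coprime i)
      ((hp.out.coprime_iff_not_dvd.2 S.not_dvd).symm)
  have hne : S.x ^ ((i : ZMod p).val * m) ≠ 1 := by
    intro h1
    have := orderOf_dvd_of_pow_eq_one h1
    rw [S.orderOf_x] at this
    exact (hp.out.coprime_iff_not_dvd.1 hm.symm) this
  have hmem := S.N.pow_mem h m
  rw [conj_pow, hpow] at hmem
  have := S.mem_N_of_fix (g := g⁻¹) (Subgroup.pow_mem _ (Subgroup.mem_zpowers _) _) hne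
    (by rwa [inv_inv])
  simpa using S.N.inv_mem this

/-- Every singular element is conjugate to a standard one. -/
theorem exists_conj_sing {g : G} (hg : p ∣ orderOf g) :
    ∃ (w : G) (i : (ZMod p)ˣ) (v : S.V), w * S.sing i v * w⁻¹ = g := by
  obtain ⟨u, y, hu, hy, huy, ⟨a, ha⟩, hpy⟩ :=
    H86.exists_pPart_mul_pPrimePart g (isOfFinOrder_of_finite g) hp.out
  have hcomm : Commute u y := by
    obtain ⟨i, rfl⟩ := Subgroup.mem_zpowers_iff.1 hu
    obtain ⟨j, rfl⟩ := Subgroup.mem_zpowers_iff.1 hy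
    exact (Commute.refl g).zpow_zpow i j
  have hu_p : orderOf u = p := by
    rcases Nat.lt_or_ge a 2 with h | h
    · interval_cases a
      · exfalso
        rw [pow_zero, orderOf_eq_one_iff] at ha
        rw [← huy, ha, one_mul] at hg
        exact hp.out.one_lt.ne' (Nat.Coprime.eq_one_of_dvd hpy.symm hg)
      · rw [ha, pow_one]
    · exact absurd ((pow_dvd_pow p h).trans (ha ▸ orderOf_dvd_natCard u)) S.not_sq
  have hfac : (Nat.card G).factorization p = 1 := by
    refine le_antisymm ?_ ?_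
    · by_contra h
      exact S.not_sq ((hp.out.pow_dvd_iff_le_factorization Nat.card_pos.ne').2 (by omega))
    · rw [← hp.out.pow_dvd_iff_le_factorization Nat.card_pos.ne', pow_one, ← S.orderOf_x]
      exact orderOf_dvd_natCard S.x
  let P₁ : Sylow p G := Sylow.ofCard S.P (by rw [S.card_P, hfac, pow_one])
  let Q₁ : Sylow p G :=
    Sylow.ofCard (Subgroup.zpowers u) (by rw [Nat.card_zpowers, hu_p, hfac, pow_one])
  obtain ⟨w, hw⟩ := MulAction.exists_smul_eq G P₁ Q₁
  have hw' : ∃ z ∈ S.P, w * z * w⁻¹ = u := by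
    have hmem : u ∈ ((w • P₁ : Sylow p G) : Subgroup G) := by
      rw [hw]; exact Subgroup.mem_zpowers u
    rw [Sylow.coe_subgroup_smul] at hmem
    obtain ⟨z, hz, hzu⟩ := hmem
    exact ⟨z, hz, hzu⟩
  obtain ⟨z, hz, hzu⟩ := hw'
  have hz1 : z ≠ 1 := by
    rintro rfl
    rw [mul_one, mul_inv_cancel] at hzu
    rw [← hzu, orderOf_one] at hu_p
    exact hp.out.one_lt.ne hu_p
  set y' := w⁻¹ * y * w
  have hzy : y' * z = z * y' := by
    have h := hcomm.eq
    rw [← hzu] at h
    calc y' * z = w⁻¹ * (y * (w * z * w⁻¹)) * w := by simp [y', mul_assoc]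
      _ = w⁻¹ * (w * z * w⁻¹ * y) * w := by rw [h]
      _ = z * y' := by simp [y', mul_assoc]
  have hy'N : y' ∈ S.N := by
    refine S.mem_N_of_fix hz hz1 ?_
    rw [mul_assoc, ← hzy, inv_mul_cancel_left]
    exact S.P_le_N hz
  have hgg : w⁻¹ * g * w = z * y' := by
    rw [← huy, ← hzu]; simp [y', mul_assoc]
  rcases S.conj_or_sing (g := w⁻¹ * g * w) (by rw [hgg]; exact S.N.mul_mem (S.P_le_N hz) hy'N) with
    ⟨l, v, hv, e⟩ | ⟨i, v, e⟩
  · exfalso
    refine S.not_dvd_orderOf_L l ?_
    have h1 : orderOf (w⁻¹ * g * w) = orderOf g := by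
      simpa using (MulAut.conj w⁻¹).orderOf_eq g
    rw [← e, show v * (l : G) * v⁻¹ = MulAut.conj v (l : G) from rfl, MulEquiv.orderOf_eq] at h1
    rwa [h1]
  · exact ⟨w, i, v, by rw [← e]; group⟩

/-- The singular classes of the group and of the normalizer agree. -/
theorem card_singClasses_N : Nat.card (singClasses p S.N) = Nat.card (singClasses p G) := by
  classical
  have hord : ∀ y : S.N, orderOf y = orderOf (y : G) := fun y => (Subgroup.orderOf_coe y).symm
  let f : singClasses p S.N → singClasses p G := fun C =>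
    ⟨ConjClasses.mk ((C.2.choose : S.N) : G), _, hord C.2.choose ▸ C.2.choose_spec.1, rfl⟩
  refine Nat.card_eq_of_bijective f ⟨fun C D h => ?_, fun D => ?_⟩
  · have h' := congrArg Subtype.val h
    obtain ⟨g, hg⟩ := isConj_iff.1 (ConjClasses.mk_eq_mk_iff_isConj.1 h')
    obtain ⟨w, i, v, hw⟩ := S.exists_conj_sing
      (g := ((C.2.choose : S.N) : G)) (hord C.2.choose ▸ C.2.choose_spec.1)
    have hwN : w ∈ S.N := S.eq_one_of_conj_mem_N (by rw [hw]; exact Subtype.mem _)
    have hgN : g * w ∈ S.N := S.eq_one_of_conj_mem_N (i := i) (v := v) (by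
      rw [show g * w * S.sing i v * (g * w)⁻¹ = g * (w * S.sing i v * w⁻¹) * g⁻¹ by group, hw, hg]
      exact Subtype.mem _)
    have hgN' : g ∈ S.N := by simpa using S.N.mul_mem hgN (S.N.inv_mem hwN)
    refine Subtype.ext ?_
    rw [← C.2.choose_spec.2, ← D.2.choose_spec.2, ConjClasses.mk_eq_mk_iff_isConj, isConj_iff]
    exact ⟨⟨g, hgN'⟩, Subtype.ext hg⟩
  · obtain ⟨y, hy, hyD⟩ := D.2
    obtain ⟨w, i, v, hw⟩ := S.exists_conj_sing hy
    have hC : ConjClasses.mk (⟨S.sing i v, S.sing_mem_N i v⟩ : S.N) ∈ singClasses p S.N :=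
      ⟨_, by rw [hord]; exact S.dvd_orderOf_sing i v, rfl⟩
    refine ⟨⟨_, hC⟩, Subtype.ext ?_⟩
    have hconj := ConjClasses.mk_eq_mk_iff_isConj.1 hC.choose_spec.2
    obtain ⟨c, hc⟩ := isConj_iff.1 hconj
    show ConjClasses.mk ((hC.choose : S.N) : G) = D.1
    rw [← hyD, ConjClasses.mk_eq_mk_iff_isConj, isConj_iff]
    refine ⟨w * c, ?_⟩
    have hc' : (c : G) * ((hC.choose : S.N) : G) * (c : G)⁻¹ = S.sing i v := congrArg Subtype.val hc
    calc w * (c : G) * ((hC.choose : S.N) : G) * (w * (c : G))⁻¹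
        = w * ((c : G) * ((hC.choose : S.N) : G) * (c : G)⁻¹) * w⁻¹ := by group
      _ = y := (congrArg (fun z => w * z * w⁻¹) hc').trans hw

/-- The regular classes of the normalizer are the classes of the complement. -/
theorem card_regClasses_N : Nat.card (regClasses p S.N) = Nat.card (ConjClasses S.L) := by
  classical
  let inc : S.L → S.N := fun l => ⟨l, S.L_le_N l.2⟩
  have hreg : ∀ l : S.L, ConjClasses.mk (inc l) ∈ regClasses p S.N := fun l =>
    ⟨inc l, fun h => S.not_dvd_orderOf_L l ((Subgroup.orderOf_coe (inc l)).symm ▸ h), rfl⟩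
  have hwd : ∀ a b : S.L, IsConj a b → ConjClasses.mk (inc a) = ConjClasses.mk (inc b) := by
    intro a b hab
    obtain ⟨c, hc⟩ := isConj_iff.1 hab
    exact ConjClasses.mk_eq_mk_iff_isConj.2 (isConj_iff.2 ⟨inc c,
      Subtype.ext (show (c : G) * (a : G) * (c : G)⁻¹ = (b : G) from congrArg Subtype.val hc)⟩)
  let f : ConjClasses S.L → regClasses p S.N :=
    Quotient.lift (fun l => ⟨_, hreg l⟩) fun a b hab => Subtype.ext (hwd a b hab)
  refine (Nat.card_eq_of_bijective f ⟨?_, fun D => ?_⟩).symm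
  · intro A B h
    induction A using Quotient.inductionOn with
    | h a =>
    induction B using Quotient.inductionOn with
    | h b =>
      obtain ⟨⟨g, hg⟩, hgab⟩ :=
        isConj_iff.1 (ConjClasses.mk_eq_mk_iff_isConj.1 (congrArg Subtype.val h))
      have hgab' : g * (a : G) * g⁻¹ = (b : G) := congrArg Subtype.val hgab
      obtain ⟨l, hl, u, hu, rfl⟩ := S.mem_N_iff.1 hg
      refine Quotient.sound (isConj_iff.2 ⟨⟨l, hl⟩, Subtype.ext ?_⟩)
      have key : l * (a : G) * l⁻¹ *
          (l * ((a : G)⁻¹ * u * (a : G) * u⁻¹) * l⁻¹) = (b : G) * 1 := by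
        rw [mul_one, ← hgab']; group
      exact (S.mul_unique (S.L.mul_mem (S.L.mul_mem hl a.2) (S.L.inv_mem hl)) b.2
        (S.conj_mem hl (S.P.mul_mem (S.conj_mem' a.2 hu) (S.P.inv_mem hu))) S.P.one_mem key).1
  · obtain ⟨y, hy, hyD⟩ := D.2
    rcases S.conj_or_sing y.2 with ⟨l, u, hu, e⟩ | ⟨i, v, e⟩
    · refine ⟨Quotient.mk _ l, Subtype.ext ?_⟩
      show ConjClasses.mk (inc l) = D.1
      rw [← hyD, ConjClasses.mk_eq_mk_iff_isConj, isConj_iff]
      exact ⟨⟨u, S.P_le_N hu⟩, Subtype.ext e⟩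
    · exfalso
      refine hy ?_
      rw [← Subgroup.orderOf_coe, e]
      exact S.dvd_orderOf_sing i v

/-- The number of singular classes of the normalizer. -/
theorem card_singClasses_mul :
    Nat.card (singClasses p S.N) * Nat.card S.L =
      (p - 1) * (Nat.card S.V * Nat.card (ConjClasses S.V)) := by
  classical
  let _ : Fintype S.N := Fintype.ofFinite _
  let _ : Fintype S.V := Fintype.ofFinite _
  let emb : (ZMod p)ˣ × S.V → S.N := fun q => ⟨S.sing q.1 q.2, S.sing_mem_N q.1 q.2⟩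
  have hemb : Function.Injective emb := fun a b h => S.sing_injective (congrArg Subtype.val h)
  have hmem : ∀ y : S.N, y ∈ Finset.univ.image emb ↔ p ∣ orderOf y := by
    intro y
    rw [← Subgroup.orderOf_coe]
    constructor
    · intro h
      obtain ⟨q, -, rfl⟩ := Finset.mem_image.1 h
      exact S.dvd_orderOf_sing q.1 q.2
    · intro h
      rcases S.conj_or_sing y.2 with ⟨l, u, hu, e⟩ | ⟨i, v, e⟩
      · exfalso
        refine S.not_dvd_orderOf_L l ?_
        rw [← e, show u * (l : G) * u⁻¹ = MulAut.conj u (l : G) from rfl, MulEquiv.orderOf_eq] at h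
        exact h
      · exact Finset.mem_image.2 ⟨(i, v), Finset.mem_univ _, Subtype.ext e.symm⟩
  have h := sum_centralizer_eq_card_mul (Finset.univ.image emb) (fun g y hy => by
    rw [hmem] at hy ⊢
    rwa [show g * y * g⁻¹ = MulAut.conj g y from rfl, MulEquiv.orderOf_eq])
  rw [Finset.sum_image fun a _ b _ h => hemb h] at h
  have hcent : ∀ q : (ZMod p)ˣ × S.V, Nat.card (Subgroup.centralizer ({emb q} : Set S.N)) =
      p * Nat.card (Subgroup.centralizer ({q.2} : Set S.V)) := by
    rintro ⟨i, v⟩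
    let f : S.P × Subgroup.centralizer ({v} : Set S.V) → Subgroup.centralizer ({emb (i, v)} : Set S.N) :=
      fun z => ⟨⟨(z.1 : G) * (((z.2 : S.V) : S.L) : G),
        S.N.mul_mem (S.P_le_N z.1.2) (S.L_le_N (Subtype.mem _))⟩, by
        rw [Subgroup.mem_centralizer_singleton_iff]
        refine Subtype.ext ?_
        show (z.1 : G) * _ * S.sing i v = S.sing i v * ((z.1 : G) * _)
        have hzv : Commute (((z.2 : S.V) : S.L) : G) ((v : S.L) : G) := by
          have := Subgroup.mem_centralizer_singleton_iff.1 z.2.2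
          exact congrArg (fun a : S.V => ((a : S.L) : G)) this
        have hzx : Commute (((z.2 : S.V) : S.L) : G) S.x := S.commute_of_mem_V (z.2 : S.V).2
        have hu : ∀ c : G, Commute c S.x → Commute c (z.1 : G) := by
          intro c hc
          obtain ⟨n, hn⟩ := Subgroup.mem_zpowers_iff.1 z.1.2
          rw [← hn]; exact hc.zpow_right n
        exact (((hu S.x (Commute.refl _)).symm.pow_right _).mul_right
          (hu _ (S.commute_of_mem_V v.2)).symm).mul_left
            ((hzx.pow_right _).mul_right hzv)⟩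
    rw [show p * Nat.card (Subgroup.centralizer ({v} : Set S.V)) =
      Nat.card (S.P × Subgroup.centralizer ({v} : Set S.V)) by rw [Nat.card_prod, S.card_P]]
    refine (Nat.card_eq_of_bijective f ⟨?_, ?_⟩).symm
    · rintro ⟨a, b⟩ ⟨a', b'⟩ e
      have e' : (a : G) * (((b : S.V) : S.L) : G) = (a' : G) * (((b' : S.V) : S.L) : G) :=
        congrArg (fun z : Subgroup.centralizer ({emb (i, v)} : Set S.N) => ((z : S.N) : G)) e
      have hz : ∀ (a : S.P) (b : S.V), (a : G) * ((b : S.L) : G) = ((b : S.L) : G) * (a : G) := by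
        intro a b
        obtain ⟨n, hn⟩ := Subgroup.mem_zpowers_iff.1 a.2
        rw [← hn]
        exact ((S.commute_of_mem_V b.2).symm.zpow_left n).eq
      rw [hz, hz] at e'
      obtain ⟨h1, h2⟩ := S.mul_unique (Subtype.mem _) (Subtype.mem _) a.2 a'.2 e'
      exact Prod.ext (Subtype.ext h2) (Subtype.ext (Subtype.ext (Subtype.ext h1)))
    · rintro ⟨⟨g, hgN⟩, hg⟩
      obtain ⟨l, hl, u, hu, rfl⟩ := S.mem_N_iff.1 hgN
      have hg' : l * u * S.sing i v = S.sing i v * (l * u) :=
        congrArg Subtype.val (Subgroup.mem_centralizer_singleton_iff.1 hg)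
      have hu' : ∀ c : G, Commute c S.x → Commute c u := by
        intro c hc
        obtain ⟨n, hn⟩ := Subgroup.mem_zpowers_iff.1 hu
        rw [← hn]; exact hc.zpow_right n
      have hus : Commute u (S.sing i v) :=
        ((hu' S.x (Commute.refl _)).symm.pow_right _).mul_right (hu' _ (S.commute_of_mem_V v.2)).symm
      rw [mul_assoc, hus.eq, ← mul_assoc, ← mul_assoc, mul_left_inj] at hg'
      set k : S.L := ⟨l, hl⟩
      have hcv : S.sing i v = ((v : S.L) : G) * S.x ^ (i : ZMod p).val :=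
        (((S.commute_of_mem_V v.2).symm).pow_left _).eq
      have hxi : S.x ^ (i : ZMod p).val ∈ S.P := Subgroup.pow_mem _ (Subgroup.mem_zpowers _) _
      have key : ((k * v : S.L) : G) * S.x ^ (i : ZMod p).val =
          ((v * k : S.L) : G) * (l⁻¹ * S.x ^ (i : ZMod p).val * l) := by
        rw [Subgroup.coe_mul, Subgroup.coe_mul, mul_assoc, ← hcv, hg', hcv]
        show _ = ((v : S.L) : G) * l * _
        group
      obtain ⟨h1, h2⟩ := S.mul_unique (Subtype.mem _) (Subtype.mem _) hxi (S.conj_mem' hl hxi) key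
      have hkV : k ∈ S.V := by
        show S.act k = 1
        have h3 : S.x ^ ((S.act k : ZMod p).val * (i : ZMod p).val) = S.x ^ (i : ZMod p).val := by
          rw [← S.conj_x_pow k]
          conv_lhs => rw [h2]
          show l * _ * l⁻¹ = _
          group
        rw [S.x_pow_eq_iff, Nat.cast_mul, ZMod.natCast_rightInverse, ZMod.natCast_rightInverse] at h3
        refine Units.ext ?_
        rw [Units.val_one]
        exact mul_right_cancel₀ i.ne_zero (h3.trans (one_mul _).symm)
      refine ⟨(⟨u, hu⟩, ⟨⟨k, hkV⟩, Subgroup.mem_centralizer_singleton_iff.2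
        (Subtype.ext (Subtype.ext h1))⟩), Subtype.ext (Subtype.ext ?_)⟩
      exact ((hu' l (S.commute_of_mem_V hkV)).symm).eq
  rw [Finset.sum_congr rfl fun q _ => hcent q, ← Finset.mul_sum, Fintype.sum_prod_type] at h
  simp only [Finset.sum_const, Finset.card_univ, smul_eq_mul, ZMod.card_units p] at h
  rw [sum_centralizer_eq_card_mul Finset.univ (fun g y _ => Finset.mem_univ _)] at h
  have hall : Nat.card {C : ConjClasses S.V // ∃ y ∈ (Finset.univ : Finset S.V),
      ConjClasses.mk y = C} = Nat.card (ConjClasses S.V) :=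
    Nat.card_congr (Equiv.subtypeUnivEquiv fun C => by
      obtain ⟨a, rfl⟩ := ConjClasses.exists_rep C
      exact ⟨a, Finset.mem_univ _, rfl⟩)
  have hsing : Nat.card {C : ConjClasses S.N // ∃ y ∈ Finset.univ.image emb, ConjClasses.mk y = C} =
      Nat.card (singClasses p S.N) :=
    Nat.card_congr (Equiv.subtypeEquivRight fun C => by simp only [hmem]; rfl)
  have hN : Nat.card S.N = p * Nat.card S.L := by
    rw [show p * Nat.card S.L = Nat.card (S.L × S.P) by rw [Nat.card_prod, S.card_P, mul_comm]]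
    refine (Nat.card_eq_of_bijective (fun q : S.L × S.P => (⟨(q.1 : G) * (q.2 : G),
      S.mem_N_iff.2 ⟨_, q.1.2, _, q.2.2, rfl⟩⟩ : S.N)) ⟨?_, ?_⟩).symm
    · intro a b e
      obtain ⟨h1, h2⟩ := S.mul_unique a.1.2 b.1.2 a.2.2 b.2.2 (congrArg Subtype.val e)
      exact Prod.ext (Subtype.ext h1) (Subtype.ext h2)
    · rintro ⟨g, hg⟩
      obtain ⟨l, hl, u, hu, rfl⟩ := S.mem_N_iff.1 hg
      exact ⟨(⟨l, hl⟩, ⟨u, hu⟩), rfl⟩
  rw [hall, hsing, hN] at h
  refine Nat.eq_of_mul_eq_mul_left hp.out.pos ?_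
  calc p * (Nat.card (singClasses p S.N) * Nat.card S.L)
      = Nat.card (singClasses p S.N) * (p * Nat.card S.L) := by ring
    _ = p * ((p - 1) * (Nat.card (ConjClasses S.V) * Nat.card S.V)) := h.symm
    _ = _ := by ring

end Setup

end Cfsg.Agent.H43.D1
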