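import Mathlib
import Cfsg.Agent.H43.D1.Classes
import Cfsg.Agent.H43.CharTools
import Cfsg.Agent.H45.BrauerPerm

/-!
# Classes of a group with a cyclic quotient and characters of the kernel
-/

set_option autoImplicit false
set_option maxHeartbeats 800000

namespace Cfsg.Agent.H43.D1

variable {L Q : Type*} [Group L] [CommGroup Q] (f : L →* Q)

/-- The character of the kernel transported by an element of the group. -/
noncomputable def kerTwist (l : L) (θ : Cfsg.IrrCharacter f.ker) : Cfsg.IrrCharacter f.ker :=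
  irrCongr (MulAut.conjNormal l : MulAut f.ker) θ

theorem kerTwist_apply (l : L) (θ : Cfsg.IrrCharacter f.ker) (v : f.ker) :
    (kerTwist f l θ).1 v = θ.1 (MulAut.conjNormal l v) := rfl

theorem kerTwist_one (θ : Cfsg.IrrCharacter f.ker) : kerTwist f 1 θ = θ :=
  Subtype.ext (funext fun v => by rw [kerTwist_apply, map_one, MulAut.one_apply])

theorem kerTwist_mul (a b : L) (θ : Cfsg.IrrCharacter f.ker) :
    kerTwist f a (kerTwist f b θ) = kerTwist f (b * a) θ :=
  Subtype.ext (funext fun v => by simp only [kerTwist_apply, map_mul, MulAut.mul_apply])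

theorem kerTwist_inv (a : L) (θ : Cfsg.IrrCharacter f.ker) :
    kerTwist f a⁻¹ (kerTwist f a θ) = θ := by
  rw [kerTwist_mul, mul_inv_cancel, kerTwist_one]

theorem kerTwist_of_mem {l : L} (hl : l ∈ f.ker) (θ : Cfsg.IrrCharacter f.ker) :
    kerTwist f l θ = θ := by
  refine Subtype.ext (funext fun v => ?_)
  rw [kerTwist_apply, show (MulAut.conjNormal l) v = (⟨l, hl⟩ : f.ker) * v * ⟨l, hl⟩⁻¹ from
    Subtype.ext rfl, H26.irr_conj]

/-- The image of the stabilizer of a character of the kernel. -/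
noncomputable def stabImage (θ : Cfsg.IrrCharacter f.ker) : Subgroup Q where
  carrier := {a | ∃ l : L, f l = a ∧ kerTwist f l θ = θ}
  one_mem' := ⟨1, map_one f, kerTwist_one f θ⟩
  mul_mem' := by
    rintro _ _ ⟨l, rfl, hl⟩ ⟨m, rfl, hm⟩
    exact ⟨l * m, map_mul f l m, by rw [← kerTwist_mul, hl, hm]⟩
  inv_mem' := by
    rintro _ ⟨l, rfl, hl⟩
    refine ⟨l⁻¹, map_inv f l, ?_⟩
    conv_rhs => rw [← kerTwist_inv f l θ, hl]

theorem mem_stabImage_iff {θ : Cfsg.IrrCharacter f.ker} {l : L} :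
    f l ∈ stabImage f θ ↔ kerTwist f l θ = θ := by
  refine ⟨?_, fun h => ⟨l, rfl, h⟩⟩
  rintro ⟨m, hm, h⟩
  have hk : m⁻¹ * l ∈ f.ker := by rw [MonoidHom.mem_ker, map_mul, map_inv, hm, inv_mul_cancel]
  calc kerTwist f l θ = kerTwist f (m * (m⁻¹ * l)) θ := by rw [mul_inv_cancel_left]
    _ = θ := by rw [← kerTwist_mul, h, kerTwist_of_mem f hk]

/-- The pairs of commuting elements with prescribed images. -/
noncomputable def commCount (a b : Q) : ℕ :=
  Nat.card {z : L × L // f z.1 = a ∧ f z.2 = b ∧ z.1 * z.2 = z.2 * z.1}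

/-- The characters of the kernel whose stabilizer image contains two elements. -/
noncomputable def fixCount (a b : Q) : ℕ :=
  Nat.card {θ : Cfsg.IrrCharacter f.ker // a ∈ stabImage f θ ∧ b ∈ stabImage f θ}

theorem commCount_symm (a b : Q) : commCount f a b = commCount f b a :=
  Nat.card_congr ((Equiv.prodComm L L).subtypeEquiv fun z =>
    ⟨fun h => ⟨h.2.1, h.1, h.2.2.symm⟩, fun h => ⟨h.2.1, h.1, h.2.2.symm⟩⟩)

theorem commCount_mul (a b : Q) : commCount f a (a * b) = commCount f a b := by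
  let e : L × L ≃ L × L :=
    { toFun := fun z => (z.1, z.1⁻¹ * z.2)
      invFun := fun z => (z.1, z.1 * z.2)
      left_inv := fun z => by simp
      right_inv := fun z => by simp }
  refine Nat.card_congr (e.subtypeEquiv fun z => ?_)
  show _ ↔ f z.1 = a ∧ f (z.1⁻¹ * z.2) = b ∧ z.1 * (z.1⁻¹ * z.2) = z.1⁻¹ * z.2 * z.1
  rw [map_mul, map_inv, mul_inv_cancel_left, mul_assoc]
  constructor
  · rintro ⟨h1, h2, h3⟩
    exact ⟨h1, by rw [h1, h2, inv_mul_cancel_left], by rw [← h3, inv_mul_cancel_left]⟩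
  · rintro ⟨h1, h2, h3⟩
    refine ⟨h1, by rw [← h2, h1, mul_inv_cancel_left], ?_⟩
    conv_lhs => rw [h3]
    rw [mul_inv_cancel_left]

theorem fixCount_symm (a b : Q) : fixCount f a b = fixCount f b a :=
  Nat.card_congr (Equiv.subtypeEquivRight fun _ => and_comm)

theorem fixCount_mul (a b : Q) : fixCount f a (a * b) = fixCount f a b :=
  Nat.card_congr (Equiv.subtypeEquivRight fun _ =>
    and_congr_right fun ha => (Subgroup.mul_mem_cancel_left _ ha))

theorem eq_pow_of_invariant {N : Type*} (F : Q → Q → N) (hs : ∀ a b, F a b = F b a)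
    (hm : ∀ a b, F a (a * b) = F a b) (q : Q) (m n : ℕ) :
    F (q ^ m) (q ^ n) = F (q ^ Nat.gcd m n) 1 := by
  have hk : ∀ (a b : Q) (k : ℕ), F a (a ^ k * b) = F a b := by
    intro a b k
    induction k with
    | zero => rw [pow_zero, one_mul]
    | succ k ih => rw [pow_succ', mul_assoc, hm, ih]
  induction m, n using Nat.gcd.induction with
  | H0 n => rw [pow_zero, Nat.gcd_zero_left, hs]
  | H1 m n _ ih =>
    rw [Nat.gcd_rec, ← ih, ← hs (q ^ m) (q ^ (n % m))]
    conv_lhs => arg 2; rw [← Nat.div_add_mod n m, pow_add, pow_mul]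
    exact hk _ _ _

variable [Finite L]

theorem commCount_one (a : Q) :
    commCount f a 1 = Nat.card f.ker * fixCount f a 1 := by
  classical
  rcases em (a ∈ f.range) with hf | hf
  swap
  · have : IsEmpty {z : L × L // f z.1 = a ∧ f z.2 = 1 ∧ z.1 * z.2 = z.2 * z.1} :=
      ⟨fun z => hf ⟨z.1.1, z.2.1⟩⟩
    have : IsEmpty {θ : Cfsg.IrrCharacter f.ker // a ∈ stabImage f θ ∧ 1 ∈ stabImage f θ} :=
      ⟨fun θ => hf (θ.2.1.imp fun _ h => h.1)⟩
    rw [commCount, fixCount, @Nat.card_of_isEmpty _ (by assumption), @Nat.card_of_isEmpty {θ : Cfsg.IrrCharacter f.ker // a ∈ stabImage f θ ∧ 1 ∈ stabImage f θ} (by assumption), mul_zero]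
  let _ : Fintype L := Fintype.ofFinite L
  let _ : Fintype f.ker := Fintype.ofFinite _
  obtain ⟨l₀, hl₀⟩ := hf
  set φ : f.ker ≃ f.ker := (MulAut.conjNormal l₀ : MulAut f.ker).toEquiv with hφ
  have hφc : ∀ g h : f.ker, IsConj g h → IsConj (φ g) (φ h) := fun g h hgh =>
    (MulAut.conjNormal l₀ : MulAut f.ker).toMonoidHom.map_isConj hgh
  have hB := H45.card_fixed_eq_of_bijection φ hφc fun θ => (kerTwist f l₀ θ).2
  have h1 : fixCount f a 1 =
      Nat.card {θ : Cfsg.IrrCharacter f.ker // θ.1 ∘ φ = θ.1} := by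
    refine Nat.card_congr (Equiv.subtypeEquivRight fun θ => ?_)
    rw [and_iff_left (Subgroup.one_mem _), ← hl₀, mem_stabImage_iff]
    exact Subtype.ext_iff
  set s : Finset f.ker := Finset.univ.filter fun v => IsConj v (φ v) with hs
  have hsum := sum_centralizer_eq_card_mul s fun g v hv => by
    rw [hs, Finset.mem_filter] at hv ⊢
    have hc : IsConj v (g * v * g⁻¹) := isConj_iff.2 ⟨g, rfl⟩
    exact ⟨Finset.mem_univ _, (hc.symm.trans hv.2).trans (hφc _ _ hc)⟩
  have h2 : Nat.card {C : ConjClasses f.ker // ∀ v, ConjClasses.mk v = C → IsConj v (φ v)} =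
      Nat.card {C : ConjClasses f.ker // ∃ v ∈ s, ConjClasses.mk v = C} := by
    refine Nat.card_congr (Equiv.subtypeEquivRight fun C => ?_)
    constructor
    · intro h
      obtain ⟨v, rfl⟩ := ConjClasses.exists_rep C
      exact ⟨v, Finset.mem_filter.2 ⟨Finset.mem_univ _, h v rfl⟩, rfl⟩
    · rintro ⟨v, hv, rfl⟩ w hw
      have hwv := ConjClasses.mk_eq_mk_iff_isConj.1 hw
      exact (hwv.trans (Finset.mem_filter.1 hv).2).trans (hφc _ _ hwv.symm)
  rw [h1, ← hB, h2, mul_comm, ← hsum]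
  -- count the pairs by their second entry
  let e : {z : L × L // f z.1 = a ∧ f z.2 = 1 ∧ z.1 * z.2 = z.2 * z.1} ≃
      Σ v : f.ker, {w : f.ker // w * v * w⁻¹ = (φ.symm v)} :=
    { toFun := fun z => ⟨⟨z.1.2, z.2.2.1⟩, ⟨⟨l₀⁻¹ * z.1.1, by
          rw [MonoidHom.mem_ker, map_mul, map_inv, z.2.1, hl₀, inv_mul_cancel]⟩,
        φ.injective (by
          rw [Equiv.apply_symm_apply]
          refine Subtype.ext ?_
          show l₀ * (l₀⁻¹ * z.1.1 * z.1.2 * (l₀⁻¹ * z.1.1)⁻¹) * l₀⁻¹ = z.1.2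
          rw [show l₀ * (l₀⁻¹ * z.1.1 * z.1.2 * (l₀⁻¹ * z.1.1)⁻¹) * l₀⁻¹ =
            z.1.1 * z.1.2 * z.1.1⁻¹ by group, z.2.2.2, mul_inv_cancel_right])⟩⟩
      invFun := fun z => ⟨(l₀ * (z.2.1 : L), (z.1 : L)), by
          rw [map_mul, MonoidHom.mem_ker.1 z.2.1.2, mul_one, hl₀],
        MonoidHom.mem_ker.1 z.1.2, by
          have h := congrArg (fun v => ((φ v : f.ker) : L)) z.2.2
          simp only [Equiv.apply_symm_apply] at h
          change l₀ * ((z.2.1 : L) * (z.1 : L) * (z.2.1 : L)⁻¹) * l₀⁻¹ = (z.1 : L) at h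
          calc l₀ * (z.2.1 : L) * (z.1 : L) = l₀ * ((z.2.1 : L) * (z.1 : L) * (z.2.1 : L)⁻¹) * l₀⁻¹ *
                (l₀ * (z.2.1 : L)) := by group
            _ = (z.1 : L) * (l₀ * (z.2.1 : L)) := by rw [h]⟩
      left_inv := fun z => Subtype.ext (Prod.ext (mul_inv_cancel_left _ _) rfl)
      right_inv := fun z => by
        obtain ⟨v, w, hw⟩ := z
        exact Sigma.ext rfl (heq_of_eq (Subtype.ext (Subtype.ext (inv_mul_cancel_left l₀ (w : L))))) }
  rw [commCount, Nat.card_congr e, Nat.card_sigma,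
    ← Finset.sum_filter_add_sum_filter_not Finset.univ (fun v => IsConj v (φ v)), ← hs]
  rw [Finset.sum_eq_zero (s := Finset.univ.filter fun v => ¬ IsConj v (φ v)) fun v hv => ?_, add_zero]
  · refine Finset.sum_congr rfl fun v hv => ?_
    rw [hs, Finset.mem_filter] at hv
    have hv' : IsConj v (φ.symm v) := by
      have h := (MulAut.conjNormal l₀⁻¹ : MulAut f.ker).toMonoidHom.map_isConj hv.2
      have e1 : (MulAut.conjNormal l₀⁻¹ : MulAut f.ker) (φ v) = v := by
        refine Subtype.ext ?_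
        show l₀⁻¹ * (l₀ * (v : L) * l₀⁻¹) * l₀⁻¹⁻¹ = (v : L)
        group
      have e2 : (MulAut.conjNormal l₀⁻¹ : MulAut f.ker) v = φ.symm v := by
        refine φ.injective ?_
        rw [Equiv.apply_symm_apply]
        refine Subtype.ext ?_
        show l₀ * (l₀⁻¹ * (v : L) * l₀⁻¹⁻¹) * l₀⁻¹ = (v : L)
        group
      simp only [MulEquiv.coe_toMonoidHom] at h
      rw [e1, e2] at h
      exact h.symm
    obtain ⟨c, hc⟩ := isConj_iff.1 hv'
    refine Nat.card_congr ((Equiv.mulLeft c⁻¹).subtypeEquiv fun w => ?_)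
    rw [Equiv.coe_mulLeft, Subgroup.mem_centralizer_singleton_iff]
    constructor
    · intro h
      rw [← hc] at h
      calc c⁻¹ * w * v = c⁻¹ * (w * v * w⁻¹) * w := by group
        _ = v * (c⁻¹ * w) := by rw [h]; group
    · intro h
      rw [← hc]
      calc w * v * w⁻¹ = c * (c⁻¹ * w * v) * w⁻¹ := by group
        _ = c * v * c⁻¹ := by rw [h]; group
  · refine Nat.card_eq_zero.2 (Or.inl ⟨fun w => ?_⟩)
    refine (Finset.mem_filter.1 hv).2 ?_
    have h := hφc _ _ (isConj_iff.2 ⟨w.1, w.2⟩)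
    rwa [Equiv.apply_symm_apply, isConj_comm] at h

/-- The classes of the group counted by the stabilizers of the characters of the kernel. -/
theorem card_classes_mul_eq_sum [IsCyclic Q] [Finite Q]
    [Fintype (Cfsg.IrrCharacter f.ker)] :
    Nat.card (ConjClasses L) * Nat.card f.range =
      ∑ θ : Cfsg.IrrCharacter f.ker, Nat.card (stabImage f θ) ^ 2 := by
  classical
  let _ : Fintype Q := Fintype.ofFinite Q
  let _ : Fintype L := Fintype.ofFinite L
  obtain ⟨q, hq⟩ := IsCyclic.exists_generator (α := Q)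
  have hkey : ∀ a b, commCount f a b = Nat.card f.ker * fixCount f a b := by
    intro a b
    obtain ⟨m, rfl⟩ := mem_powers_iff_mem_zpowers.2 (hq a)
    obtain ⟨n, rfl⟩ := mem_powers_iff_mem_zpowers.2 (hq b)
    rw [eq_pow_of_invariant _ (commCount_symm f) (commCount_mul f),
      eq_pow_of_invariant _ (fixCount_symm f) (fixCount_mul f), commCount_one f]
  have htot : Nat.card (ConjClasses L) * Nat.card L = ∑ a : Q, ∑ b : Q, commCount f a b := by
    rw [← card_comm_eq_card_conjClasses_mul_card L, ← Fintype.sum_prod_type']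
    rw [Nat.card_congr (Equiv.sigmaFiberEquiv
      (fun z : {z : L × L // Commute z.1 z.2} => (f z.1.1, f z.1.2))).symm, Nat.card_sigma]
    refine Finset.sum_congr rfl fun z _ => Nat.card_congr
      ((Equiv.subtypeSubtypeEquivSubtypeInter _ (fun w : L × L => (f w.1, f w.2) = z)).trans
        (Equiv.subtypeEquivRight fun w => ?_))
    simp only [Prod.ext_iff, commute_iff_eq]
    tauto
  have hL : Nat.card L = Nat.card f.ker * Nat.card f.range := by
    rw [← f.ker.card_mul_index, Subgroup.index_ker]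
  have hfix : ∑ a : Q, ∑ b : Q, fixCount f a b =
      ∑ θ : Cfsg.IrrCharacter f.ker, Nat.card (stabImage f θ) ^ 2 := by
    simp only [fixCount, Nat.card_eq_fintype_card, Fintype.card_subtype, Finset.card_filter]
    rw [← Fintype.sum_prod_type', Finset.sum_comm]
    refine Finset.sum_congr rfl fun θ _ => ?_
    rw [Fintype.sum_prod_type, sq, Finset.sum_mul_sum]
    refine Eq.symm ?_
    simp only [ite_and]
    refine Finset.sum_congr rfl fun a _ => Finset.sum_congr rfl fun b _ => ?_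
    split_ifs <;> rfl
  simp only [hkey, ← Finset.mul_sum, hfix, hL] at htot
  refine Nat.eq_of_mul_eq_mul_left (Nat.card_pos (α := f.ker)) ?_
  rw [← htot]
  ring

end Cfsg.Agent.H43.D1
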