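import Mathlib
import Cfsg.Agent.H43.D1.Quotient
import Cfsg.Agent.H68.CharTools

/-!
# Character values at the singular elements: local multiplicities
-/

set_option autoImplicit false
set_option maxHeartbeats 800000
set_option linter.unusedSectionVars false

namespace Cfsg.Agent.H43.D1

open scoped ComplexConjugate

attribute [local instance] Fintype.ofFinite Classical.propDecidable

/-- Column orthogonality with the elements conjugating one argument to the other. -/
theorem column_card {X : Type*} [Group X] [Fintype X] (y z : X) :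
    ∑ χ : Cfsg.IrrCharacter X, χ.1 y * conj (χ.1 z) =
      (Nat.card {g : X // g * y * g⁻¹ = z} : ℂ) := by
  classical
  rw [H26.column_orthogonality]
  unfold H26.classIndicator
  split_ifs with h
  · obtain ⟨w, hw⟩ := isConj_iff.1 h
    rw [mul_one, Nat.cast_inj]
    refine Nat.card_congr ((Equiv.mulRight w).subtypeEquiv fun c => ?_)
    rw [Equiv.coe_mulRight, Subgroup.mem_centralizer_singleton_iff, ← hw]
    constructor
    · intro hc
      calc c * w * y * (c * w)⁻¹ = c * (w * y * w⁻¹) * c⁻¹ := by group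
        _ = w * y * w⁻¹ * c * c⁻¹ := by rw [hc]
        _ = w * y * w⁻¹ := by group
    · intro hc
      calc c * (w * y * w⁻¹) = c * w * y * (c * w)⁻¹ * c := by group
        _ = w * y * w⁻¹ * c := by rw [hc]
  · have : IsEmpty {g : X // g * y * g⁻¹ = z} := ⟨fun g => h (isConj_iff.2 ⟨g.1, g.2⟩)⟩
    rw [mul_zero, Nat.card_of_isEmpty, Nat.cast_zero]

theorem sum_stdAddChar {p : ℕ} [Fact p.Prime] (b : ZMod p) :
    ∑ j : ZMod p, ZMod.stdAddChar (j * b) = if b = 0 then (p : ℂ) else 0 := by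
  rw [AddChar.sum_mulShift b (ZMod.isPrimitive_stdAddChar p)]
  simp [ZMod.card]

theorem sum_zmod_eq_sum_units {p : ℕ} [hp : Fact p.Prime] {M : Type*} [AddCommMonoid M]
    (F : ZMod p → M) (h : F 0 = 0) : ∑ j : ZMod p, F j = ∑ u : (ZMod p)ˣ, F u := by
  classical
  rw [← Finset.sum_erase Finset.univ h]
  refine (Finset.sum_bij (fun (u : (ZMod p)ˣ) _ => (u : ZMod p))
    (fun u _ => Finset.mem_erase.2 ⟨Units.ne_zero u, Finset.mem_univ _⟩)
    (fun _ _ _ _ e => Units.ext e) (fun b hb => ?_) fun _ _ => rfl).symm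
  exact ⟨Units.mk0 b (Finset.mem_erase.1 hb).1, Finset.mem_univ _, rfl⟩

namespace Setup

variable {p : ℕ} [hp : Fact p.Prime] {G : Type*} [Group G] [Finite G] (S : Setup p G)

theorem x_commute_pow {v : S.L} (hv : v ∈ S.V) (n : ℕ) : Commute (S.x ^ n) (v : G) :=
  ((S.commute_of_mem_V hv).symm).pow_left n

theorem conj_line (l : S.L) (j : ZMod p) (v : S.V) :
    (l : G) * (S.x ^ j.val * ((v : S.L) : G)) * (l : G)⁻¹ =
      S.x ^ ((S.act l : ZMod p) * j).val *
        (((MulAut.conjNormal l v : S.V) : S.L) : G) := by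
  rw [show (((MulAut.conjNormal l v : S.V) : S.L) : G) = (l : G) * ((v : S.L) : G) * (l : G)⁻¹ from rfl]
  rw [show (l : G) * (S.x ^ j.val * ((v : S.L) : G)) * (l : G)⁻¹ =
    ((l : G) * S.x ^ j.val * (l : G)⁻¹) * ((l : G) * ((v : S.L) : G) * (l : G)⁻¹) by group,
    S.conj_x_pow]
  congr 1
  rw [S.x_pow_eq_iff, Nat.cast_mul, ZMod.natCast_rightInverse, ZMod.natCast_rightInverse,
    ZMod.natCast_rightInverse]

theorem conj_sing (l : S.L) (i : (ZMod p)ˣ) (v : S.V) :
    (l : G) * S.sing i v * (l : G)⁻¹ = S.sing (S.act l * i) (MulAut.conjNormal l v) := by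
  simp only [sing, Units.val_mul]
  exact S.conj_line l i v

/-- The homomorphism from the direct product of the Sylow subgroup and the `p'`-centralizer. -/
noncomputable def pv : Multiplicative (ZMod p) × S.V →* G where
  toFun z := S.x ^ (Multiplicative.toAdd z.1).val * ((z.2 : S.L) : G)
  map_one' := by simp
  map_mul' a b := by
    show S.x ^ (Multiplicative.toAdd a.1 + Multiplicative.toAdd b.1).val *
      (((a.2 : S.L) : G) * ((b.2 : S.L) : G)) = _
    rw [show S.x ^ (Multiplicative.toAdd a.1 + Multiplicative.toAdd b.1).val =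
        S.x ^ (Multiplicative.toAdd a.1).val * S.x ^ (Multiplicative.toAdd b.1).val by
      rw [← pow_add, S.x_pow_eq_iff, Nat.cast_add, ZMod.natCast_rightInverse,
        ZMod.natCast_rightInverse, ZMod.natCast_rightInverse]]
    simp only [mul_assoc]
    rw [← mul_assoc (S.x ^ (Multiplicative.toAdd b.1).val),
      (S.x_commute_pow a.2.2 _).eq, mul_assoc]

/-- The inner product over the `p'`-centralizer of a character translated by a power of `x`. -/
noncomputable def sv (χ : Cfsg.IrrCharacter G) (θ : Cfsg.IrrCharacter S.V) (j : ZMod p) : ℂ :=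
  Cfsg.classInner (fun v : S.V => χ.1 (S.x ^ j.val * ((v : S.L) : G))) θ.1

theorem value_eq_sum_sv (χ : Cfsg.IrrCharacter G) (j : ZMod p) (v : S.V) :
    χ.1 (S.x ^ j.val * ((v : S.L) : G)) = ∑ θ : Cfsg.IrrCharacter S.V, S.sv χ θ j * θ.1 v := by
  have hf : Cfsg.IsClassFunction S.V
      (fun v : S.V => χ.1 (S.x ^ j.val * ((v : S.L) : G))) := by
    intro a w
    show χ.1 (S.x ^ j.val * (((w : S.L) : G) * ((a : S.L) : G) * ((w : S.L) : G)⁻¹)) = _
    rw [show S.x ^ j.val * (((w : S.L) : G) * ((a : S.L) : G) * ((w : S.L) : G)⁻¹) =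
      (((w : S.L) : G)) * (S.x ^ j.val * ((a : S.L) : G)) * (((w : S.L) : G))⁻¹ by
        rw [← mul_assoc (((w : S.L) : G)), ← (S.x_commute_pow w.2 _).eq]
        simp [mul_assoc]]
    exact H26.irr_conj χ _ _
  have h := congrFun (H26.class_function_expansion _ hf) v
  simpa [sv, Finset.sum_apply, Pi.smul_apply] using h

theorem exists_mv (χ : Cfsg.IrrCharacter G) (θ : Cfsg.IrrCharacter S.V) (c : ZMod p) :
    ∃ m : ℕ, (p : ℂ)⁻¹ * ∑ j : ZMod p, S.sv χ θ j * ZMod.stdAddChar (-(j * c)) = m := by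
  let lam : Multiplicative (ZMod p) →* ℂˣ :=
    ((ZMod.stdAddChar (N := p)).mulShift c).toMonoidHom.toHomUnits
  have h1 := H26.isCharacter_comp (H26.isCharacter_of_irr (H26.isIrrCharacter_hom lam))
    (MonoidHom.fst (Multiplicative (ZMod p)) S.V)
  have h2 := H26.isCharacter_comp (H26.irr_isCharacter θ)
    (MonoidHom.snd (Multiplicative (ZMod p)) S.V)
  have hchar := H26.isCharacter_mul h1 h2
  obtain ⟨m, hm⟩ := H68.exists_nat_classInner_char
    (H26.isCharacter_comp (H26.irr_isCharacter χ) S.pv) hchar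
  refine ⟨m, ?_⟩
  rw [← hm]
  simp only [Cfsg.classInner, sv, Finset.mul_sum, Finset.sum_mul, Pi.mul_apply, Function.comp_apply,
    MonoidHom.coe_fst, MonoidHom.coe_snd]
  rw [Fintype.sum_prod_type (α₁ := Multiplicative (ZMod p)) (α₂ := S.V)]
  refine Finset.sum_equiv Multiplicative.ofAdd (fun _ => by simp) fun j _ =>
    Finset.sum_congr rfl fun v _ => ?_
  rw [Nat.card_prod, show Nat.card (Multiplicative (ZMod p)) = p by simp, Nat.cast_mul, mul_inv,
    map_mul]
  show _ = _ * (χ.1 (S.x ^ j.val * ((v : S.L) : G)) * _)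
  rw [show (lam (Multiplicative.ofAdd j) : ℂ) = ZMod.stdAddChar (c * j) from rfl,
    ← AddChar.map_neg_eq_conj, mul_comm c j]
  ring

/-- The multiplicity of a character of the direct product in the restriction. -/
noncomputable def mv (χ : Cfsg.IrrCharacter G) (θ : Cfsg.IrrCharacter S.V) (c : ZMod p) : ℕ :=
  (S.exists_mv χ θ c).choose

theorem mv_spec (χ : Cfsg.IrrCharacter G) (θ : Cfsg.IrrCharacter S.V) (c : ZMod p) :
    (p : ℂ)⁻¹ * ∑ j : ZMod p, S.sv χ θ j * ZMod.stdAddChar (-(j * c)) = S.mv χ θ c :=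
  (S.exists_mv χ θ c).choose_spec

/-- The excess of the trivial multiplicity over that at `c`. -/
noncomputable def av (χ : Cfsg.IrrCharacter G) (θ : Cfsg.IrrCharacter S.V) (c : ZMod p) : ℤ :=
  (S.mv χ θ 0 : ℤ) - S.mv χ θ c

theorem av_eq (χ : Cfsg.IrrCharacter G) (θ : Cfsg.IrrCharacter S.V) (c : ZMod p) :
    (S.av χ θ c : ℂ) =
      (p : ℂ)⁻¹ * ∑ j : ZMod p, S.sv χ θ j * (1 - ZMod.stdAddChar (-(j * c))) := by
  rw [av, Int.cast_sub, Int.cast_natCast, Int.cast_natCast, ← S.mv_spec, ← S.mv_spec, ← mul_sub,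
    ← Finset.sum_sub_distrib]
  simp only [mul_zero, neg_zero, AddChar.map_zero_eq_one, mul_sub]

theorem av_eq_units (χ : Cfsg.IrrCharacter G) (θ : Cfsg.IrrCharacter S.V) (c : ZMod p) :
    (S.av χ θ c : ℂ) = (p : ℂ)⁻¹ *
      ∑ i : (ZMod p)ˣ, S.sv χ θ i * (1 - ZMod.stdAddChar (-((i : ZMod p) * c))) := by
  rw [S.av_eq, sum_zmod_eq_sum_units _ (by simp [AddChar.map_zero_eq_one])]

theorem sv_eq_neg_sum (χ : Cfsg.IrrCharacter G) (θ : Cfsg.IrrCharacter S.V) (i : (ZMod p)ˣ) :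
    S.sv χ θ i = -∑ c : (ZMod p)ˣ, (S.av χ θ (c : ZMod p) : ℂ) * ZMod.stdAddChar ((i : ZMod p) * (c : ZMod p)) := by
  have hp0 : (p : ℂ) ≠ 0 := Nat.cast_ne_zero.2 hp.out.ne_zero
  have h1 : ∑ c : ZMod p, (S.mv χ θ c : ℂ) * ZMod.stdAddChar ((i : ZMod p) * c) = S.sv χ θ i := by
    simp only [← S.mv_spec, Finset.mul_sum, Finset.sum_mul]
    rw [Finset.sum_comm]
    have : ∀ j : ZMod p, ∑ c : ZMod p, (p : ℂ)⁻¹ * (S.sv χ θ j * ZMod.stdAddChar (-(j * c))) *
        ZMod.stdAddChar ((i : ZMod p) * c) = if (i : ZMod p) = j then S.sv χ θ j else 0 := by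
      intro j
      have h : ∀ c : ZMod p, (p : ℂ)⁻¹ * (S.sv χ θ j * ZMod.stdAddChar (-(j * c))) *
          ZMod.stdAddChar ((i : ZMod p) * c) =
          (p : ℂ)⁻¹ * S.sv χ θ j * ZMod.stdAddChar (c * ((i : ZMod p) - j)) := by
        intro c
        rw [mul_assoc, mul_assoc, ← AddChar.map_add_eq_mul, mul_assoc]
        congr 3
        ring
      rw [Finset.sum_congr rfl fun c _ => h c, ← Finset.mul_sum, sum_stdAddChar]
      simp only [sub_eq_zero]
      split_ifs
      · field_simp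
      · rw [mul_zero]
    rw [Finset.sum_congr rfl fun j _ => this j, Finset.sum_ite_eq, if_pos (Finset.mem_univ _)]
  rw [← h1, ← sum_zmod_eq_sum_units
    (fun c => (S.av χ θ c : ℂ) * ZMod.stdAddChar ((i : ZMod p) * c)) (by simp [av]),
    ← Finset.sum_neg_distrib]
  have hz : ∑ c : ZMod p, ZMod.stdAddChar ((i : ZMod p) * c) = (0 : ℂ) := by
    simp only [mul_comm (i : ZMod p)]
    rw [sum_stdAddChar, if_neg i.ne_zero]
  simp only [av, Int.cast_sub, Int.cast_natCast, sub_mul, neg_sub, Finset.sum_sub_distrib,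
    ← Finset.mul_sum, hz, mul_zero, sub_zero]

/-- Transport of the local data along the complement. -/
theorem sv_twist (χ : Cfsg.IrrCharacter G) (θ : Cfsg.IrrCharacter S.V) (l : S.L) (j : ZMod p) :
    S.sv χ (kerTwist S.act l θ) j = S.sv χ θ ((S.act l : ZMod p) * j) := by
  simp only [sv, Cfsg.classInner]
  congr 1
  refine Fintype.sum_equiv (MulAut.conjNormal l : MulAut S.V).toEquiv _ _ fun v => ?_
  show _ = χ.1 (S.x ^ ((S.act l : ZMod p) * j).val *
    (((MulAut.conjNormal l v : S.V) : S.L) : G)) * conj (θ.1 (MulAut.conjNormal l v))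
  rw [← S.conj_line, H26.irr_conj]
  rfl

theorem av_twist (χ : Cfsg.IrrCharacter G) (θ : Cfsg.IrrCharacter S.V) (l : S.L) (c : ZMod p) :
    S.av χ (kerTwist S.act l θ) c = S.av χ θ (((S.act l)⁻¹ : (ZMod p)ˣ) * c) := by
  rw [← Int.cast_inj (α := ℂ), S.av_eq, S.av_eq]
  congr 1
  refine Fintype.sum_equiv (S.act l).mulLeft _ _ fun j => ?_
  simp only [Units.mulLeft_apply, S.sv_twist]
  rw [mul_mul_mul_comm, Units.mul_inv, one_mul]

/-- Invariance under the stabilizer. -/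
theorem av_mul_mem (χ : Cfsg.IrrCharacter G) (θ : Cfsg.IrrCharacter S.V) {k : (ZMod p)ˣ}
    (hk : k ∈ stabImage S.act θ) (c : ZMod p) : S.av χ θ ((k : ZMod p) * c) = S.av χ θ c := by
  obtain ⟨l, hl, hfix⟩ := hk
  have h := S.av_twist χ θ l ((k : ZMod p) * c)
  rwa [hfix, hl, Units.inv_mul_cancel_left] at h

/-- Orthogonality of the local data. -/
theorem sum_sv_mul_conj (θ : Cfsg.IrrCharacter S.V) (i i' : (ZMod p)ˣ) :
    ∑ χ : Cfsg.IrrCharacter G, S.sv χ θ i * conj (S.sv χ θ i') =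
      if i' * i⁻¹ ∈ stabImage S.act θ then (p : ℂ) else 0 := by
  classical
  have hV : (Nat.card S.V : ℂ) ≠ 0 := Nat.cast_ne_zero.2 Nat.card_pos.ne'
  have hcount : ∀ v w : S.V,
      ∑ χ : Cfsg.IrrCharacter G, χ.1 (S.sing i v) * conj (χ.1 (S.sing i' w)) =
        (p : ℂ) * ∑ l : S.L, if S.act l * i = i' ∧ MulAut.conjNormal l v = w then 1 else 0 := by
    intro v w
    rw [column_card, Finset.sum_boole, ← Fintype.card_subtype, ← Nat.card_eq_fintype_card]
    rw [← Nat.cast_mul, Nat.cast_inj]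
    rw [show p * Nat.card {l : S.L // S.act l * i = i' ∧ MulAut.conjNormal l v = w} =
      Nat.card ({l : S.L // S.act l * i = i' ∧ MulAut.conjNormal l v = w} × S.P) by
        rw [Nat.card_prod, S.card_P, mul_comm]]
    have hu : ∀ u ∈ S.P, Commute u (S.sing i v) := by
      intro u hu
      obtain ⟨n, rfl⟩ := Subgroup.mem_zpowers_iff.1 hu
      exact (((Commute.refl S.x).pow_right _).mul_right
        (S.commute_of_mem_V v.2).symm).zpow_left n
    have hconj : ∀ (l : S.L), ∀ u ∈ S.P, ((l : G) * u) * S.sing i v * ((l : G) * u)⁻¹ =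
        S.sing (S.act l * i) (MulAut.conjNormal l v) := by
      intro l u huP
      rw [← S.conj_sing, show ((l : G) * u) * S.sing i v * ((l : G) * u)⁻¹ =
        (l : G) * (u * S.sing i v * u⁻¹) * (l : G)⁻¹ by group, (hu u huP).eq, mul_inv_cancel_right]
    refine (Nat.card_eq_of_bijective (fun z =>
      (⟨(z.1.1 : G) * (z.2 : G), by rw [hconj _ _ z.2.2, z.1.2.1, z.1.2.2]⟩ :
        {g : G // g * S.sing i v * g⁻¹ = S.sing i' w})) ⟨?_, ?_⟩).symm
    · intro a b e
      obtain ⟨h1, h2⟩ := S.mul_unique a.1.1.2 b.1.1.2 a.2.2 b.2.2 (congrArg Subtype.val e)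
      exact Prod.ext (Subtype.ext (Subtype.ext h1)) (Subtype.ext h2)
    · rintro ⟨g, hg⟩
      have hgN : g ∈ S.N := S.eq_one_of_conj_mem_N (i := i) (v := v)
        (by rw [hg]; exact S.sing_mem_N _ _)
      obtain ⟨l, hl, u, huP, rfl⟩ := S.mem_N_iff.1 hgN
      rw [hconj ⟨l, hl⟩ u huP] at hg
      have := S.sing_injective (a₁ := (_, _)) (a₂ := (_, _)) hg
      exact ⟨(⟨⟨l, hl⟩, congrArg Prod.fst this, congrArg Prod.snd this⟩, ⟨u, huP⟩), rfl⟩
  have hfib : ((Finset.univ.filter fun l : S.L => S.act l * i = i' ∧ kerTwist S.act l θ = θ).card : ℂ) =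
      if i' * i⁻¹ ∈ stabImage S.act θ then (Nat.card S.V : ℂ) else 0 := by
    split_ifs with h
    · obtain ⟨l₀, hl₀, hfix⟩ := h
      rw [← Fintype.card_subtype, ← Nat.card_eq_fintype_card, Nat.cast_inj]
      refine Nat.card_congr ((Equiv.mulLeft l₀⁻¹).subtypeEquiv fun l => ?_)
      rw [Equiv.coe_mulLeft, MonoidHom.mem_ker, map_mul, map_inv, hl₀, inv_mul_eq_one]
      constructor
      · rintro ⟨h1, -⟩
        rw [← h1, mul_inv_cancel_right]
      · intro h1
        refine ⟨by rw [← h1, inv_mul_cancel_right], (mem_stabImage_iff S.act).1 ?_⟩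
        exact ⟨l₀, hl₀.trans h1, hfix⟩
    · rw [Finset.filter_eq_empty_iff.2 fun l _ hl => h ⟨l, by rw [← hl.1, mul_inv_cancel_right], hl.2⟩,
        Finset.card_empty, Nat.cast_zero]
  have hinner : ∀ l : S.L, ∑ v : S.V, conj (θ.1 v) * θ.1 (MulAut.conjNormal l v) =
      if kerTwist S.act l θ = θ then (Nat.card S.V : ℂ) else 0 := by
    intro l
    have h := H26.classInner_irr (kerTwist S.act l θ) θ
    rw [Cfsg.classInner, inv_mul_eq_iff_eq_mul₀ hV] at h
    rw [← (show _ = if kerTwist S.act l θ = θ then (Nat.card S.V : ℂ) else 0 from h.trans (by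
      rw [mul_ite, mul_one, mul_zero]))]
    exact Finset.sum_congr rfl fun v _ => mul_comm _ _
  have hexp : ∑ χ : Cfsg.IrrCharacter G, S.sv χ θ i * conj (S.sv χ θ i') =
      (Nat.card S.V : ℂ)⁻¹ * (Nat.card S.V : ℂ)⁻¹ * ∑ v : S.V, ∑ w : S.V,
        conj (θ.1 v) * θ.1 w *
          ∑ χ : Cfsg.IrrCharacter G, χ.1 (S.sing i v) * conj (χ.1 (S.sing i' w)) := by
    simp only [sv, Cfsg.classInner, map_mul, map_sum, map_inv₀, map_natCast, Complex.conj_conj,
      Finset.sum_mul, Finset.mul_sum]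
    rw [Finset.sum_comm]
    conv_rhs => rw [Finset.sum_comm]
    refine Finset.sum_congr rfl fun w _ => ?_
    rw [Finset.sum_comm]
    refine Finset.sum_congr rfl fun v _ => Finset.sum_congr rfl fun χ _ => ?_
    show _ = _ * (_ * (χ.1 (S.x ^ (i : ZMod p).val * ((v : S.L) : G)) * _))
    unfold sing
    ring
  rw [hexp]
  simp only [hcount, Finset.mul_sum]
  rw [show (∑ v : S.V, ∑ w : S.V, ∑ l : S.L, (Nat.card S.V : ℂ)⁻¹ * (Nat.card S.V : ℂ)⁻¹ *
      (conj (θ.1 v) * θ.1 w * ((p : ℂ) * if S.act l * i = i' ∧ MulAut.conjNormal l v = w then 1 else 0))) =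
    ∑ l : S.L, (Nat.card S.V : ℂ)⁻¹ * (Nat.card S.V : ℂ)⁻¹ * (p : ℂ) *
      (if S.act l * i = i' then ∑ v : S.V, conj (θ.1 v) * θ.1 (MulAut.conjNormal l v) else 0) from ?_]
  · simp only [hinner, ← ite_and, ← Finset.mul_sum, ← Finset.sum_filter, Finset.sum_const,
      nsmul_eq_mul, hfib]
    split_ifs
    · field_simp
    · simp
  · rw [Finset.sum_congr rfl fun v _ => Finset.sum_comm, Finset.sum_comm]
    refine Finset.sum_congr rfl fun l _ => ?_
    by_cases hl : S.act l * i = i'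
    · simp only [hl, true_and, Finset.mul_sum, mul_ite, mul_one, mul_zero, Finset.sum_ite_eq,
        Finset.mem_univ, if_true]
      exact Finset.sum_congr rfl fun v _ => by ring
    · simp [hl]

/-- The singular column is orthogonal to the regular elements. -/
theorem sum_mul_av {g : G} (hg : ¬ p ∣ orderOf g) (θ : Cfsg.IrrCharacter S.V) (c : ZMod p) :
    ∑ χ : Cfsg.IrrCharacter G, χ.1 g * (S.av χ θ c : ℂ) = 0 := by
  simp only [S.av_eq_units, Finset.mul_sum]
  rw [Finset.sum_comm]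
  refine Finset.sum_eq_zero fun i _ => ?_
  simp only [sv, Cfsg.classInner, Finset.mul_sum, Finset.sum_mul]
  rw [Finset.sum_comm]
  refine Finset.sum_eq_zero fun v _ => ?_
  have hempty : IsEmpty {h : G // h * g * h⁻¹ = (S.sing i v)⁻¹} := ⟨fun h => hg (by
    have := (MulAut.conj h.1).orderOf_eq g
    rw [MulAut.conj_apply, h.2, orderOf_inv] at this
    exact this ▸ S.dvd_orderOf_sing i v)⟩
  have h0 : ∑ χ : Cfsg.IrrCharacter G, χ.1 g * χ.1 (S.sing i v) = 0 := by
    have h := column_card g (S.sing i v)⁻¹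
    rw [Nat.card_of_isEmpty, Nat.cast_zero] at h
    simpa [H26.irr_inv] using h
  calc ∑ χ : Cfsg.IrrCharacter G, _ = ∑ χ : Cfsg.IrrCharacter G,
        ((p : ℂ)⁻¹ * (Nat.card S.V : ℂ)⁻¹ * conj (θ.1 v) *
          (1 - ZMod.stdAddChar (-((i : ZMod p) * c)))) * (χ.1 g * χ.1 (S.sing i v)) :=
      Finset.sum_congr rfl fun χ _ => by unfold sing; ring
    _ = 0 := by rw [← Finset.mul_sum, h0, mul_zero]

/-- The Gram matrix of the local integers. -/
theorem sum_av_mul_av (θ : Cfsg.IrrCharacter S.V) (c d : (ZMod p)ˣ) :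
    ∑ χ : Cfsg.IrrCharacter G, S.av χ θ c * S.av χ θ d =
      (Nat.card (stabImage S.act θ) : ℤ) + if c * d⁻¹ ∈ stabImage S.act θ then 1 else 0 := by
  classical
  have hp0 : (p : ℂ) ≠ 0 := Nat.cast_ne_zero.2 hp.out.ne_zero
  set K := stabImage S.act θ
  rw [← Int.cast_inj (α := ℂ), Int.cast_sum]
  have h1 : ∀ χ : Cfsg.IrrCharacter G, ((S.av χ θ c * S.av χ θ d : ℤ) : ℂ) =
      ∑ i : (ZMod p)ˣ, ∑ i' : (ZMod p)ˣ, (p : ℂ)⁻¹ * (p : ℂ)⁻¹ *
        (1 - ZMod.stdAddChar (-((i : ZMod p) * (c : ZMod p)))) *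
          (1 - ZMod.stdAddChar ((i' : ZMod p) * (d : ZMod p))) *
        (S.sv χ θ i * conj (S.sv χ θ i')) := by
    intro χ
    rw [Int.cast_mul, ← map_intCast (starRingEnd ℂ) (S.av χ θ d), S.av_eq_units, S.av_eq_units]
    simp only [map_mul, map_sum, map_inv₀, map_natCast, map_sub, map_one, ← AddChar.map_neg_eq_conj,
      neg_neg, Finset.sum_mul, Finset.mul_sum]
    rw [Finset.sum_comm]
    exact Finset.sum_congr rfl fun i _ => Finset.sum_congr rfl fun i' _ => by ring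
  rw [Finset.sum_congr rfl fun χ _ => h1 χ, Finset.sum_comm,
    Finset.sum_congr rfl fun i _ => Finset.sum_comm]
  simp only [← Finset.mul_sum, S.sum_sv_mul_conj]
  have h2 : ∀ i : (ZMod p)ˣ, ∑ i' : (ZMod p)ˣ, (p : ℂ)⁻¹ * (p : ℂ)⁻¹ *
        (1 - ZMod.stdAddChar (-((i : ZMod p) * (c : ZMod p)))) *
          (1 - ZMod.stdAddChar ((i' : ZMod p) * (d : ZMod p))) *
        (if i' * i⁻¹ ∈ K then (p : ℂ) else 0) =
      ∑ k : K, (p : ℂ)⁻¹ * ((1 - ZMod.stdAddChar (-((i : ZMod p) * (c : ZMod p)))) *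
        (1 - ZMod.stdAddChar (((k : (ZMod p)ˣ) : ZMod p) * (i : ZMod p) * (d : ZMod p)))) := by
    intro i
    rw [← Equiv.sum_comp (Equiv.mulRight i)]
    simp only [Equiv.coe_mulRight, mul_inv_cancel_right, mul_ite, mul_zero]
    rw [← Finset.sum_filter, Finset.sum_subtype (p := fun k => k ∈ K) _ (by simp)]
    refine Finset.sum_congr rfl fun k _ => ?_
    rw [Units.val_mul]
    field_simp
  rw [Finset.sum_congr rfl fun i _ => h2 i, Finset.sum_comm]
  have h3 : ∀ k : K, ∑ i : (ZMod p)ˣ, (p : ℂ)⁻¹ * ((1 - ZMod.stdAddChar (-((i : ZMod p) * (c : ZMod p)))) *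
        (1 - ZMod.stdAddChar (((k : (ZMod p)ˣ) : ZMod p) * (i : ZMod p) * (d : ZMod p)))) =
      1 + if (k : (ZMod p)ˣ) = c * d⁻¹ then 1 else 0 := by
    intro k
    rw [← sum_zmod_eq_sum_units (fun j => (p : ℂ)⁻¹ * ((1 - ZMod.stdAddChar (-(j * (c : ZMod p)))) *
      (1 - ZMod.stdAddChar (((k : (ZMod p)ˣ) : ZMod p) * j * (d : ZMod p))))) (by simp)]
    have h : ∀ j : ZMod p, (p : ℂ)⁻¹ * ((1 - ZMod.stdAddChar (-(j * (c : ZMod p)))) *
        (1 - ZMod.stdAddChar (((k : (ZMod p)ˣ) : ZMod p) * j * (d : ZMod p)))) = (p : ℂ)⁻¹ *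
        (ZMod.stdAddChar (j * 0) - ZMod.stdAddChar (j * (-(c : ZMod p))) -
          ZMod.stdAddChar (j * (((k : (ZMod p)ˣ) : ZMod p) * (d : ZMod p))) +
          ZMod.stdAddChar (j * (((k : (ZMod p)ˣ) : ZMod p) * (d : ZMod p) - (c : ZMod p)))) := by
      intro j
      rw [mul_sub j _ (c : ZMod p), sub_eq_add_neg (j * _) (j * _), AddChar.map_add_eq_mul, mul_zero,
        AddChar.map_zero_eq_one, mul_neg,
        show ((k : (ZMod p)ˣ) : ZMod p) * j * d = j * (((k : (ZMod p)ˣ) : ZMod p) * (d : ZMod p)) by ring]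
      ring
    rw [Finset.sum_congr rfl fun j _ => h j, ← Finset.mul_sum]
    simp only [Finset.sum_add_distrib, Finset.sum_sub_distrib, sum_stdAddChar, neg_eq_zero,
      mul_eq_zero, Units.ne_zero, or_self, if_true, if_false, sub_zero, mul_add]
    rw [inv_mul_cancel₀ hp0]
    congr 1
    have hiff : ((k : (ZMod p)ˣ) : ZMod p) * (d : ZMod p) - (c : ZMod p) = 0 ↔ (k : (ZMod p)ˣ) = c * d⁻¹ := by
      rw [sub_eq_zero, eq_mul_inv_iff_mul_eq, ← Units.val_inj, Units.val_mul]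
    simp only [hiff]
    split_ifs
    · exact inv_mul_cancel₀ hp0
    · exact mul_zero _
  rw [Finset.sum_congr rfl fun k _ => h3 k, Finset.sum_add_distrib, Finset.sum_const, nsmul_one,
    Finset.card_univ, ← Nat.card_eq_fintype_card]
  push_cast
  congr 1
  split_ifs with h
  · rw [Finset.sum_eq_single (⟨_, h⟩ : K) (fun k _ hk => if_neg fun e => hk (Subtype.ext e))
      (fun h' => absurd (Finset.mem_univ _) h'), if_pos rfl]
  · refine Finset.sum_eq_zero fun k _ => ?_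
    rw [if_neg]
    exact fun e => h (e ▸ k.2)

/-- Galois conjugation shifts the local integers. -/
theorem sv_pow {χ χ' : Cfsg.IrrCharacter G} {k : ℕ} (hk : k ≡ 1 [MOD Nat.card G / p])
    (h : ∀ y, χ'.1 y = χ.1 (y ^ k)) (θ : Cfsg.IrrCharacter S.V) (j : ZMod p) :
    S.sv χ' θ j = S.sv χ θ ((k : ZMod p) * j) := by
  simp only [sv, Cfsg.classInner]
  congr 1
  refine Finset.sum_congr rfl fun v _ => ?_
  congr 1
  show χ'.1 _ = χ.1 _
  rw [h]
  have hord : orderOf ((v : S.L) : G) ∣ Nat.card G / p := by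
    have hpG : p ∣ Nat.card G := S.orderOf_x ▸ orderOf_dvd_natCard S.x
    refine (Nat.Coprime.dvd_mul_left ?_).1 ((orderOf_dvd_natCard _).trans
      (dvd_of_eq (Nat.mul_div_cancel' hpG).symm))
    exact ((hp.out.coprime_iff_not_dvd).2 (S.not_dvd_orderOf_L _)).symm
  rw [(S.x_commute_pow v.2 _).mul_pow, ← pow_mul]
  refine congrArg χ.1 (congrArg₂ (· * ·) ?_ ?_)
  · rw [S.x_pow_eq_iff, Nat.cast_mul, ZMod.natCast_rightInverse, ZMod.natCast_rightInverse, mul_comm]
  · conv_rhs => rw [← pow_one ((v : S.L) : G)]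
    exact pow_eq_pow_iff_modEq.2 (hk.of_dvd hord)

theorem av_pow {χ χ' : Cfsg.IrrCharacter G} {k : ℕ} (hk : k ≡ 1 [MOD Nat.card G / p])
    (h : ∀ y, χ'.1 y = χ.1 (y ^ k)) (u : (ZMod p)ˣ) (hu : (k : ZMod p) = u)
    (θ : Cfsg.IrrCharacter S.V) (c : ZMod p) :
    S.av χ' θ c = S.av χ θ ((u⁻¹ : (ZMod p)ˣ) * c) := by
  rw [← Int.cast_inj (α := ℂ), S.av_eq, S.av_eq]
  congr 1
  refine Fintype.sum_equiv u.mulLeft _ _ fun j => ?_
  simp only [Units.mulLeft_apply, S.sv_pow hk h, hu]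
  rw [mul_mul_mul_comm, Units.mul_inv, one_mul]

end Setup

end Cfsg.Agent.H43.D1
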