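import Mathlib
import Cfsg.Agent.H43.D1.Local
import Cfsg.Agent.H43.D1.Comb
import Cfsg.Agent.H43.D1.Count
import Cfsg.Agent.H45.Galois

/-!
# The families of characters of degree prime to `p`
-/

set_option autoImplicit false
set_option maxHeartbeats 1600000
set_option linter.unusedSectionVars false

namespace Cfsg.Agent.H43.D1

open scoped ComplexConjugate

attribute [local instance] Fintype.ofFinite Classical.propDecidable

theorem natCard_irr_eq (X : Type*) [Group X] [Finite X] :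
    Nat.card (Cfsg.IrrCharacter X) = Nat.card (ConjClasses X) := by
  exact H26.card_irr_eq_card_conjClasses (G := X)

namespace Setup

variable {p : ℕ} [hp : Fact p.Prime] {G : Type*} [Group G] [Finite G] (S : Setup p G)

/-- The characters with nonzero local data at a character of the `p'`-centralizer. -/
noncomputable def supp (θ : Cfsg.IrrCharacter S.V) : Finset (Cfsg.IrrCharacter G) :=
  Finset.univ.filter fun χ => ∃ c : (ZMod p)ˣ, S.av χ θ (c : ZMod p) ≠ 0

theorem mem_supp {χ : Cfsg.IrrCharacter G} {θ : Cfsg.IrrCharacter S.V} :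
    χ ∈ S.supp θ ↔ ∃ c : (ZMod p)ˣ, S.av χ θ (c : ZMod p) ≠ 0 := by
  simp [supp]

/-- The order of the stabilizer image. -/
noncomputable def fN (θ : Cfsg.IrrCharacter S.V) : ℕ := Nat.card (stabImage S.act θ)

/-- The number of exceptional characters. -/
noncomputable def tN (θ : Cfsg.IrrCharacter S.V) : ℕ :=
  Nat.card ((ZMod p)ˣ ⧸ stabImage S.act θ)

theorem tN_mul_fN (θ : Cfsg.IrrCharacter S.V) : S.tN θ * S.fN θ = p - 1 := by
  rw [tN, fN, ← Subgroup.card_eq_card_quotient_mul_card_subgroup, Nat.card_eq_fintype_card,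
    ZMod.card_units]

theorem fN_pos (θ : Cfsg.IrrCharacter S.V) : 0 < S.fN θ := Nat.card_pos

theorem tN_pos (θ : Cfsg.IrrCharacter S.V) : 0 < S.tN θ := Nat.card_pos

theorem fN_lt (θ : Cfsg.IrrCharacter S.V) : S.fN θ < p := by
  have h := S.tN_mul_fN θ
  have := Nat.le_mul_of_pos_left (S.fN θ) (S.tN_pos θ)
  have := hp.out.pos
  omega

theorem av_out (χ : Cfsg.IrrCharacter G) (θ : Cfsg.IrrCharacter S.V) (c : (ZMod p)ˣ) :
    S.av χ θ ((Quotient.out (QuotientGroup.mk c : (ZMod p)ˣ ⧸ stabImage S.act θ) : (ZMod p)ˣ) :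
      ZMod p) = S.av χ θ (c : ZMod p) := by
  obtain ⟨k, hk⟩ := QuotientGroup.mk_out_eq_mul (stabImage S.act θ) c
  rw [hk, Units.val_mul, mul_comm, S.av_mul_mem χ θ k.2]

/-- The structure of the local data of the characters over one character of the centralizer. -/
theorem gram_av (θ : Cfsg.IrrCharacter S.V) :
    (S.supp θ).card ≤ S.tN θ + S.fN θ ∧
      ((S.supp θ).card = S.tN θ + S.fN θ →
        ∃ (e : (ZMod p)ˣ ⧸ stabImage S.act θ → Cfsg.IrrCharacter G) (ε : ℤ)
          (b : Cfsg.IrrCharacter G → ℤ), Function.Injective e ∧ (ε = 1 ∨ ε = -1) ∧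
          (∀ j, b (e j) = 0) ∧
          (∀ χ (c : (ZMod p)ˣ), S.av χ θ (c : ZMod p) =
            b χ + if e (QuotientGroup.mk c) = χ then ε else 0) ∧
          (∀ χ, b χ = 0 ∨ b χ = 1 ∨ b χ = -1)) := by
  have h := gram_support
    (fun (χ : Cfsg.IrrCharacter G) (j : (ZMod p)ˣ ⧸ stabImage S.act θ) =>
      S.av χ θ ((Quotient.out j : (ZMod p)ˣ) : ZMod p))
    (fun χ => Cfsg.charDegree χ.1) (S.fN θ) irr_charDegree_pos (fun i j => ?_) (fun j => ?_)
  · have hcard : Nat.card {χ : Cfsg.IrrCharacter G // ∃ j : (ZMod p)ˣ ⧸ stabImage S.act θ,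
        S.av χ θ ((Quotient.out j : (ZMod p)ˣ) : ZMod p) ≠ 0} = (S.supp θ).card := by
      rw [Nat.card_eq_fintype_card, Fintype.card_subtype]
      refine congrArg Finset.card (Finset.filter_congr fun χ _ => ?_)
      constructor
      · rintro ⟨j, hj⟩
        exact ⟨_, hj⟩
      · rintro ⟨c, hc⟩
        exact ⟨QuotientGroup.mk c, by rwa [S.av_out]⟩
    rw [hcard, ← Nat.card_eq_fintype_card] at h
    refine ⟨h.1, fun heq => ?_⟩
    obtain ⟨e, ε, b, he, hε, hbe, hA, hb⟩ := h.2 heq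
    exact ⟨e, ε, b, he, hε, hbe, fun χ c => by rw [← S.av_out, hA], hb⟩
  · rw [S.sum_av_mul_av, fN]
    congr 1
    by_cases hij : i = j
    · rw [if_pos hij, if_pos]
      rw [hij, mul_inv_cancel]
      exact Subgroup.one_mem _
    · rw [if_neg hij, if_neg]
      intro hmem
      refine hij ?_
      rw [← QuotientGroup.out_eq' i, ← QuotientGroup.out_eq' j, QuotientGroup.eq,
        ← Subgroup.inv_mem_iff]
      rwa [mul_inv_rev, inv_inv, mul_comm]
  · have h := S.sum_mul_av (g := (1 : G)) (by simpa using hp.out.not_dvd_one) θ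
      ((Quotient.out j : (ZMod p)ˣ) : ZMod p)
    simp only [irr_charDegree_spec] at h
    exact_mod_cast h

theorem supp_twist (θ : Cfsg.IrrCharacter S.V) (l : S.L) :
    S.supp (kerTwist S.act l θ) = S.supp θ := by
  ext χ
  simp only [mem_supp, S.av_twist, ← Units.val_mul]
  exact ⟨fun ⟨c, hc⟩ => ⟨_, hc⟩, fun ⟨c, hc⟩ => ⟨S.act l * c, by rwa [inv_mul_cancel_left]⟩⟩

/-- The orbit of a character of the `p'`-centralizer. -/
noncomputable def orb (θ : Cfsg.IrrCharacter S.V) : Finset (Cfsg.IrrCharacter S.V) :=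
  Finset.univ.image fun l : S.L => kerTwist S.act l θ

theorem fN_twist (θ : Cfsg.IrrCharacter S.V) (l : S.L) : S.fN (kerTwist S.act l θ) = S.fN θ := by
  have h : stabImage S.act (kerTwist S.act l θ) = stabImage S.act θ := by
    ext a
    constructor
    · rintro ⟨m, rfl, hm⟩
      refine ⟨l * m * l⁻¹, by simp, ?_⟩
      rw [← kerTwist_mul, ← kerTwist_mul, hm, kerTwist_inv]
    · rintro ⟨m, rfl, hm⟩
      refine ⟨l⁻¹ * m * l, by simp [mul_assoc, mul_comm], ?_⟩
      rw [kerTwist_mul, show l * (l⁻¹ * m * l) = m * l by group, ← kerTwist_mul, hm]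
  rw [fN, fN, h]

theorem card_L_eq : Nat.card S.L = Nat.card S.V * Nat.card S.act.range := by
  rw [← S.V.card_mul_index, V, Subgroup.index_ker]

/-- The stabilizer images along an orbit add up to the order of the acting group. -/
theorem card_orb_mul_fN (θ : Cfsg.IrrCharacter S.V) :
    (S.orb θ).card * S.fN θ = Nat.card S.act.range := by
  have hstab : (Finset.univ.filter fun m : S.L => kerTwist S.act m θ = θ).card =
      S.fN θ * Nat.card S.V := by
    rw [Finset.card_eq_sum_card_fiberwise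
      (f := S.act) (t := Finset.univ.filter fun a => a ∈ stabImage S.act θ)
      (fun m hm => Finset.mem_filter.2 ⟨Finset.mem_univ _,
        (mem_stabImage_iff S.act).2 (Finset.mem_filter.1 hm).2⟩)]
    rw [Finset.sum_congr rfl fun a ha => show _ = Nat.card S.V from ?_, Finset.sum_const,
      smul_eq_mul, fN, Nat.card_eq_fintype_card (α := stabImage S.act θ), Fintype.card_subtype]
    rw [Finset.filter_filter, ← Fintype.card_subtype, ← Nat.card_eq_fintype_card]
    obtain ⟨m₀, hm₀, hfix⟩ := (Finset.mem_filter.1 ha).2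
    refine Nat.card_congr ((Equiv.mulLeft m₀⁻¹).subtypeEquiv fun m => ?_)
    rw [Equiv.coe_mulLeft, MonoidHom.mem_ker, map_mul, map_inv, hm₀, inv_mul_eq_one]
    exact ⟨fun h => h.2.symm, fun h => ⟨(mem_stabImage_iff S.act).1 ⟨m₀, hm₀.trans h, hfix⟩, h.symm⟩⟩
  have hall : Nat.card S.L = (S.orb θ).card * (S.fN θ * Nat.card S.V) := by
    rw [Nat.card_eq_fintype_card, ← Finset.card_univ, Finset.card_eq_sum_card_fiberwise
      (f := fun l : S.L => kerTwist S.act l θ) (t := S.orb θ)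
      (fun l _ => Finset.mem_image_of_mem _ (Finset.mem_univ l))]
    rw [Finset.sum_congr rfl fun η hη => show _ = S.fN θ * Nat.card S.V from ?_, Finset.sum_const,
      smul_eq_mul]
    obtain ⟨l₀, -, rfl⟩ := Finset.mem_image.1 hη
    rw [← hstab]
    refine Finset.card_bij' (fun l _ => l * l₀⁻¹) (fun m _ => m * l₀) ?_ ?_ ?_ ?_
    · intro l hl
      rw [Finset.mem_filter] at hl ⊢
      exact ⟨Finset.mem_univ _, by rw [← kerTwist_mul, hl.2, kerTwist_inv]⟩
    · intro m hm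
      rw [Finset.mem_filter] at hm ⊢
      exact ⟨Finset.mem_univ _, by rw [← kerTwist_mul, hm.2]⟩
    · intro l _; rw [inv_mul_cancel_right]
    · intro m _; rw [mul_inv_cancel_right]
  rw [S.card_L_eq] at hall
  refine Nat.eq_of_mul_eq_mul_left (Nat.card_pos (α := S.V)) ?_
  rw [hall]; ring

/-- The weight of a character. -/
noncomputable def wt (χ : Cfsg.IrrCharacter G) : ℕ :=
  ∑ θ ∈ Finset.univ.filter (fun θ : Cfsg.IrrCharacter S.V => χ ∈ S.supp θ), S.fN θ

theorem range_le_wt {χ : Cfsg.IrrCharacter G} {θ : Cfsg.IrrCharacter S.V} (h : χ ∈ S.supp θ) :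
    Nat.card S.act.range ≤ S.wt χ ∧ (S.wt χ = Nat.card S.act.range →
      ∀ θ' : Cfsg.IrrCharacter S.V, χ ∈ S.supp θ' → θ' ∈ S.orb θ) := by
  have hsub : S.orb θ ⊆ Finset.univ.filter (fun θ' : Cfsg.IrrCharacter S.V => χ ∈ S.supp θ') := by
    intro η hη
    obtain ⟨l, -, rfl⟩ := Finset.mem_image.1 hη
    exact Finset.mem_filter.2 ⟨Finset.mem_univ _, by rwa [S.supp_twist]⟩
  have hsum : ∑ η ∈ S.orb θ, S.fN η = Nat.card S.act.range := by
    rw [← S.card_orb_mul_fN θ, Finset.sum_congr rfl fun η hη => show S.fN η = S.fN θ from ?_,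
      Finset.sum_const, smul_eq_mul]
    obtain ⟨l, -, rfl⟩ := Finset.mem_image.1 hη
    exact S.fN_twist θ l
  refine ⟨hsum ▸ Finset.sum_le_sum_of_subset hsub, fun heq θ' hθ' => by_contra fun hne => ?_⟩
  have hlt : ∑ η ∈ S.orb θ, S.fN η < S.wt χ :=
    Finset.sum_lt_sum_of_subset hsub (Finset.mem_filter.2 ⟨Finset.mem_univ _, hθ'⟩) hne (S.fN_pos θ')
      fun _ _ _ => Nat.zero_le _
  omega

/-- A character of degree prime to `p` has nonzero local data. -/
theorem exists_mem_supp {χ : Cfsg.IrrCharacter G} (hχ : ¬ p ∣ Cfsg.charDegree χ.1) :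
    ∃ θ, χ ∈ S.supp θ := by
  by_contra hne
  simp only [mem_supp, not_exists, not_not] at hne
  have hs : ∀ θ (i : (ZMod p)ˣ), S.sv χ θ (i : ZMod p) = 0 := fun θ i => by
    rw [S.sv_eq_neg_sum]
    simp [hne θ]
  have h0 : ∀ θ, S.sv χ θ 0 = (p : ℂ) * S.mv χ θ 0 := fun θ => by
    rw [← S.mv_spec, ← mul_assoc, mul_inv_cancel₀ (Nat.cast_ne_zero.2 hp.out.ne_zero), one_mul,
      Finset.sum_eq_single (0 : ZMod p) (fun j _ hj => by
        rw [show S.sv χ θ j = 0 from hs θ (Units.mk0 j hj), zero_mul])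
        (fun h => absurd (Finset.mem_univ _) h)]
    simp [AddChar.map_zero_eq_one]
  have h1 := S.value_eq_sum_sv χ 0 1
  simp only [ZMod.val_zero, pow_zero, OneMemClass.coe_one, one_mul, h0, irr_charDegree_spec] at h1
  refine hχ ⟨∑ θ : Cfsg.IrrCharacter S.V, S.mv χ θ 0 * Cfsg.charDegree θ.1, ?_⟩
  rw [Finset.mul_sum]
  simp only [← mul_assoc]
  exact_mod_cast h1

theorem card_irr_V : Nat.card (Cfsg.IrrCharacter S.V) = Nat.card (ConjClasses S.V) :=
  natCard_irr_eq _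

theorem card_singClasses_mul_range : Nat.card (singClasses p G) * Nat.card S.act.range =
    (p - 1) * Nat.card (Cfsg.IrrCharacter S.V) := by
  refine Nat.eq_of_mul_eq_mul_left (Nat.card_pos (α := S.V)) ?_
  calc Nat.card S.V * (Nat.card (singClasses p G) * Nat.card S.act.range)
      = Nat.card (singClasses p S.N) * Nat.card S.L := by
        rw [S.card_L_eq, S.card_singClasses_N]; ring
    _ = _ := by rw [S.card_singClasses_mul, S.card_irr_V]; ring

/-- The counting of all families at once. -/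
theorem count_main :
    Nat.card {χ : Cfsg.IrrCharacter G // ¬ p ∣ Cfsg.charDegree χ.1} =
        Nat.card (ConjClasses S.L) + Nat.card (singClasses p G) ∧
      (∀ θ, (S.supp θ).card = S.tN θ + S.fN θ) ∧
      (∀ θ, ∀ χ ∈ S.supp θ, ¬ p ∣ Cfsg.charDegree χ.1 ∧ S.wt χ = Nat.card S.act.range) := by
  have hdiv : p ∣ Nat.card G := S.orderOf_x ▸ orderOf_dvd_natCard S.x
  set e := Nat.card S.act.range with he
  have hepos : 0 < e := Nat.card_pos
  set D := Finset.univ.filter fun χ : Cfsg.IrrCharacter G => ¬ p ∣ Cfsg.charDegree χ.1 with hD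
  set T := Nat.card (ConjClasses S.L) + Nat.card (singClasses p G) with hT
  have hDcard : Nat.card {χ : Cfsg.IrrCharacter G // ¬ p ∣ Cfsg.charDegree χ.1} = D.card := by
    rw [Nat.card_eq_fintype_card, Fintype.card_subtype]
  -- the lower bound
  have hlow : T ≤ D.card := by
    have h := card_add_le_regClasses S hdiv
    have hk : Nat.card (Cfsg.IrrCharacter G) = Nat.card (ConjClasses G) := natCard_irr_eq G
    rw [Nat.card_eq_fintype_card (α := Cfsg.IrrCharacter G), ← Finset.card_univ,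
      ← Finset.card_filter_add_card_filter_not (p := fun χ : Cfsg.IrrCharacter G =>
        p ∣ Cfsg.charDegree χ.1), card_conjClasses_eq_add p G, ← hD] at hk
    rw [Nat.card_eq_fintype_card (α := {χ : Cfsg.IrrCharacter G // p ∣ Cfsg.charDegree χ.1}),
      Fintype.card_subtype, natCard_irr_eq S.L] at h
    omega
  -- the upper bound
  have hle1 : D.card * e ≤ ∑ χ ∈ D, S.wt χ := by
    refine (Finset.card_nsmul_le_sum D _ e fun χ hχ => ?_)
    obtain ⟨θ, hθ⟩ := S.exists_mem_supp (Finset.mem_filter.1 hχ).2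
    exact (S.range_le_wt hθ).1
  have hle2 : ∑ χ ∈ D, S.wt χ ≤ ∑ χ, S.wt χ := Finset.sum_le_sum_of_subset (Finset.subset_univ D)
  have hswap : ∑ χ, S.wt χ = ∑ θ : Cfsg.IrrCharacter S.V, (S.supp θ).card * S.fN θ := by
    simp only [wt, Finset.sum_filter]
    rw [Finset.sum_comm]
    refine Finset.sum_congr rfl fun θ _ => ?_
    rw [← Finset.sum_filter, Finset.sum_const, smul_eq_mul]
    congr 2
    ext χ
    simp
  have hle3 : ∀ θ ∈ (Finset.univ : Finset (Cfsg.IrrCharacter S.V)),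
      (S.supp θ).card * S.fN θ ≤ (S.tN θ + S.fN θ) * S.fN θ :=
    fun θ _ => Nat.mul_le_mul_right _ (S.gram_av θ).1
  have htot : ∑ θ : Cfsg.IrrCharacter S.V, (S.tN θ + S.fN θ) * S.fN θ = T * e := by
    have hq := card_classes_mul_eq_sum S.act
    rw [hT, add_mul, S.card_singClasses_mul_range, hq]
    simp only [add_mul, Finset.sum_add_distrib]
    rw [Finset.sum_congr rfl fun θ _ => S.tN_mul_fN θ, Finset.sum_const, Finset.card_univ, smul_eq_mul,
      Nat.card_eq_fintype_card (α := Cfsg.IrrCharacter S.V)]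
    simp only [fN, sq]
    ring
  have hle4 : ∑ χ, S.wt χ ≤ T * e := hswap ▸ htot ▸ Finset.sum_le_sum hle3
  have hlow' : T * e ≤ D.card * e := Nat.mul_le_mul_right e hlow
  have hDT : D.card = T := Nat.eq_of_mul_eq_mul_right hepos (by omega)
  refine ⟨hDcard.trans hDT, fun θ => ?_, fun θ χ hχ => ?_⟩
  · refine Nat.eq_of_mul_eq_mul_right (S.fN_pos θ) ?_
    exact (Finset.sum_eq_sum_iff_of_le hle3).1 (by omega) θ (Finset.mem_univ θ)
  · have hw := (S.range_le_wt hχ).1
    have hmem : χ ∈ D := by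
      by_contra hne
      have : ∑ χ ∈ D, S.wt χ < ∑ χ, S.wt χ :=
        Finset.sum_lt_sum_of_subset (Finset.subset_univ D) (Finset.mem_univ χ) hne
          (hepos.trans_le hw) fun _ _ _ => Nat.zero_le _
      omega
    have hge : ∀ x ∈ D, e ≤ S.wt x := fun x hx => by
      obtain ⟨θ', hθ'⟩ := S.exists_mem_supp (Finset.mem_filter.1 hx).2
      exact (S.range_le_wt hθ').1
    have heq : ∑ x ∈ D, e = ∑ x ∈ D, S.wt x := by
      rw [Finset.sum_const, smul_eq_mul]
      omega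
    exact ⟨(Finset.mem_filter.1 hmem).2, ((Finset.sum_eq_sum_iff_of_le hge).1 heq χ hmem).symm⟩

theorem mem_orb_of_mem_supp {χ : Cfsg.IrrCharacter G} {θ θ' : Cfsg.IrrCharacter S.V}
    (h : χ ∈ S.supp θ) (h' : χ ∈ S.supp θ') : θ' ∈ S.orb θ :=
  (S.range_le_wt h).2 (S.count_main.2.2 θ χ h).2 θ' h'

theorem not_mem_supp_sv {χ : Cfsg.IrrCharacter G} {θ : Cfsg.IrrCharacter S.V} (h : χ ∉ S.supp θ)
    (i : (ZMod p)ˣ) : S.sv χ θ (i : ZMod p) = 0 := by
  simp only [mem_supp, not_exists, not_not] at h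
  rw [S.sv_eq_neg_sum]
  simp [h]

/-- Off the orbit of a family the local data of its members vanish. -/
theorem sv_eq_zero_of_not_mem_orb {χ : Cfsg.IrrCharacter G} {θ θ' : Cfsg.IrrCharacter S.V}
    (h : χ ∈ S.supp θ) (h' : θ' ∉ S.orb θ) (i : (ZMod p)ˣ) : S.sv χ θ' (i : ZMod p) = 0 :=
  S.not_mem_supp_sv (fun hm => h' (S.mem_orb_of_mem_supp h hm)) i

/-- The values at singular elements and at regular elements determine a character. -/
theorem eq_of_sv_eq {χ ψ : Cfsg.IrrCharacter G}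
    (hreg : ∀ g : G, ¬ p ∣ orderOf g → ψ.1 g = χ.1 g)
    (hsv : ∀ θ (i : (ZMod p)ˣ), S.sv ψ θ (i : ZMod p) = S.sv χ θ (i : ZMod p)) : ψ = χ := by
  refine Subtype.ext (funext fun g => ?_)
  by_cases hg : p ∣ orderOf g
  · obtain ⟨w, i, v, rfl⟩ := S.exists_conj_sing hg
    rw [H26.irr_conj, H26.irr_conj, sing, S.value_eq_sum_sv, S.value_eq_sum_sv]
    simp only [hsv]
  · exact hreg g hg

/-- A `p`-conjugate by a given unit. -/
def IsConjBy (χ : Cfsg.IrrCharacter G) (u : (ZMod p)ˣ) (ψ : Cfsg.IrrCharacter G) : Prop :=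
  ∃ k : ℕ, k ≡ 1 [MOD Nat.card G / p] ∧ (k : ZMod p) = u ∧ ∀ y, ψ.1 y = χ.1 (y ^ k)

include S in
theorem value_eq_of_isConjBy {χ ψ : Cfsg.IrrCharacter G} {u : (ZMod p)ˣ} (h : IsConjBy χ u ψ)
    {g : G} (hg : ¬ p ∣ orderOf g) : ψ.1 g = χ.1 g := by
  obtain ⟨k, hk, -, hy⟩ := h
  have hdiv : p ∣ Nat.card G := S.orderOf_x ▸ orderOf_dvd_natCard S.x
  have hord : orderOf g ∣ Nat.card G / p :=
    (Nat.Coprime.dvd_mul_left ((hp.out.coprime_iff_not_dvd).2 hg).symm).1
      ((orderOf_dvd_natCard _).trans (dvd_of_eq (Nat.mul_div_cancel' hdiv).symm))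
  rw [hy]
  refine congrArg χ.1 ?_
  conv_rhs => rw [← pow_one g]
  exact pow_eq_pow_iff_modEq.2 (hk.of_dvd hord)

theorem av_of_isConjBy {χ ψ : Cfsg.IrrCharacter G} {u : (ZMod p)ˣ} (h : IsConjBy χ u ψ)
    (θ : Cfsg.IrrCharacter S.V) (c : (ZMod p)ˣ) :
    S.av ψ θ (c : ZMod p) = S.av χ θ ((u⁻¹ * c : (ZMod p)ˣ) : ZMod p) := by
  obtain ⟨k, hk, hu, hy⟩ := h
  rw [S.av_pow hk hy u hu, Units.val_mul]

include S in
theorem exists_isConjBy (χ : Cfsg.IrrCharacter G) (u : (ZMod p)ˣ) :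
    ∃ (σ : ℂ ≃+* ℂ) (ψ : Cfsg.IrrCharacter G),
      σ (Complex.exp (2 * Real.pi * Complex.I / ((Nat.card G / p : ℕ)))) =
        Complex.exp (2 * Real.pi * Complex.I / ((Nat.card G / p : ℕ))) ∧
      (ψ.1 = fun g => σ (χ.1 g)) ∧ IsConjBy χ u ψ := by
  have hdiv : p ∣ Nat.card G := S.orderOf_x ▸ orderOf_dvd_natCard S.x
  have hmul : Nat.card G / p * p = Nat.card G := Nat.div_mul_cancel hdiv
  have hcop : (Nat.card G / p).Coprime p :=
    (hp.out.coprime_iff_not_dvd.2 fun h => S.not_sq (by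
      rw [sq, ← Nat.dvd_div_iff_mul_dvd hdiv]
      exact h)).symm
  obtain ⟨k, hk1, hk2⟩ := Nat.chineseRemainder hcop 1 (u : ZMod p).val
  have hku : (k : ZMod p) = u := by
    rw [(ZMod.natCast_eq_natCast_iff _ _ _).2 hk2, ZMod.natCast_rightInverse]
  have hkc : k.Coprime (Nat.card G) := by
    rw [← hmul]
    refine Nat.Coprime.mul_right ?_ ?_
    · rw [Nat.coprime_iff_gcd_eq_one, hk1.gcd_eq, Nat.gcd_one_left]
    · rw [Nat.coprime_iff_gcd_eq_one, hk2.gcd_eq, ← Nat.coprime_iff_gcd_eq_one]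
      exact ZMod.val_coe_unit_coprime u
  obtain ⟨σ, hσ⟩ := H45.exists_ringAut_pow (Nat.card_pos (α := G)).ne' hkc
  refine ⟨σ, H45.galIrr hkc χ, ?_, funext fun g =>
    (H45.ringAut_char (H26.irr_isCharacter χ) σ hσ g).symm, k, hk1, hku, fun _ => rfl⟩
  have hne : Nat.card G / p ≠ 0 :=
    (Nat.div_pos (Nat.le_of_dvd Nat.card_pos hdiv) hp.out.pos).ne'
  have hζ := Complex.isPrimitiveRoot_exp _ hne
  rw [hσ _ (by conv_lhs => arg 2; rw [← hmul]
               rw [pow_mul, hζ.pow_eq_one, one_pow])]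
  conv_rhs => rw [← pow_one (Complex.exp _)]
  rw [pow_eq_pow_mod k hζ.pow_eq_one, hk1, ← pow_eq_pow_mod 1 hζ.pow_eq_one]

include S in
theorem isConjBy_of_ringAut {χ ψ : Cfsg.IrrCharacter G} (σ : ℂ ≃+* ℂ)
    (hσ : σ (Complex.exp (2 * Real.pi * Complex.I / ((Nat.card G / p : ℕ)))) =
      Complex.exp (2 * Real.pi * Complex.I / ((Nat.card G / p : ℕ))))
    (hψ : ψ.1 = fun g => σ (χ.1 g)) : ∃ u : (ZMod p)ˣ, IsConjBy χ u ψ := by
  have hdiv : p ∣ Nat.card G := S.orderOf_x ▸ orderOf_dvd_natCard S.x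
  have hmul : Nat.card G / p * p = Nat.card G := Nat.div_mul_cancel hdiv
  obtain ⟨k, hk, hkσ⟩ := H45.exists_pow_of_ringAut σ (Nat.card_pos (α := G)).ne'
  have hne : Nat.card G / p ≠ 0 :=
    (Nat.div_pos (Nat.le_of_dvd Nat.card_pos hdiv) hp.out.pos).ne'
  have hζ := Complex.isPrimitiveRoot_exp _ hne
  set ζ := Complex.exp (2 * Real.pi * Complex.I / ((Nat.card G / p : ℕ))) with hζdef
  have hζG : ζ ^ Nat.card G = 1 := by rw [← hmul, pow_mul, hζ.pow_eq_one, one_pow]
  rw [hkσ ζ hζG] at hσ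
  refine ⟨ZMod.unitOfCoprime k (hk.of_dvd_right hdiv), k, ?_, rfl,
    fun y => (congrFun hψ y).trans (H45.ringAut_char (H26.irr_isCharacter χ) σ hkσ y)⟩
  have h : ζ ^ k = ζ ^ 1 := by rw [pow_one, hσ]
  rw [(isOfFinOrder_iff_pow_eq_one.2 ⟨_, Nat.pos_of_ne_zero hne, hζ.pow_eq_one⟩).pow_eq_pow_iff_modEq,
    ← hζ.eq_orderOf] at h
  exact h

/-- A character constant on a family is fixed by every `p`-conjugation. -/
theorem eq_of_isConjBy_of_const {χ ψ : Cfsg.IrrCharacter G} {u : (ZMod p)ˣ} (h : IsConjBy χ u ψ)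
    {θ : Cfsg.IrrCharacter S.V} (hχ : χ ∈ S.supp θ) (b : ℤ)
    (hb : ∀ c : (ZMod p)ˣ, S.av χ θ (c : ZMod p) = b) : ψ = χ := by
  refine S.eq_of_sv_eq (fun g hg => S.value_eq_of_isConjBy h hg) fun θ' i => ?_
  rw [S.sv_eq_neg_sum, S.sv_eq_neg_sum]
  congr 1
  refine Finset.sum_congr rfl fun c _ => ?_
  congr 2
  rw [S.av_of_isConjBy h]
  by_cases hθ' : θ' ∈ S.orb θ
  · obtain ⟨l, -, rfl⟩ := Finset.mem_image.1 hθ'
    simp only [S.av_twist, ← Units.val_mul, hb]
  · have hns : χ ∉ S.supp θ' := fun hm => hθ' (S.mem_orb_of_mem_supp hχ hm)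
    simp only [mem_supp, not_exists, not_not] at hns
    rw [hns, hns]

end Setup

end Cfsg.Agent.H43.D1
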