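import Mathlib
import Cfsg.Agent.H43.D1.Families
import Cfsg.Agent.H43.D1.SmallModular
import Cfsg.Agent.H31.Defect.Field
import Cfsg.Agent.H44.SmallDimension
import Cfsg.Agent.H44.Inflation
import Cfsg.Agent.H26.CharFS
import Cfsg.Agent.H26.CharLinear

/-!
# A faithful character of degree less than `(p - 1) / 2` forces a normal Sylow subgroup
-/

set_option autoImplicit false
set_option maxHeartbeats 1600000
set_option linter.unusedSectionVars false

namespace Cfsg.Agent.H43.D1

open scoped ComplexConjugate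
open Module IsLocalRing

attribute [local instance] Fintype.ofFinite Classical.propDecidable

/-- The residue field of a valuation subring of `ℂ` is algebraically closed. -/
theorem isAlgClosed_residueField (O : ValuationSubring ℂ) : IsAlgClosed (ResidueField O) := by
  refine IsAlgClosed.of_exists_root _ fun P hP hirr => ?_
  obtain ⟨Q, hQ, hdeg, hmon⟩ := Polynomial.lifts_and_natDegree_eq_and_monic
    (Polynomial.mem_lifts_of_surjective (f := residue O) residue_surjective P) hP
  have hd : 0 < Q.natDegree := hdeg ▸ hirr.natDegree_pos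
  obtain ⟨z, hz⟩ := IsAlgClosed.exists_root (Q.map O.subtype) (by
    rw [Polynomial.degree_map_eq_of_injective Subtype.val_injective,
      Polynomial.degree_eq_natDegree hmon.ne_zero]
    exact_mod_cast hd.ne')
  have hz' : Polynomial.eval₂ (algebraMap O ℂ) z Q = 0 := by
    rw [Polynomial.IsRoot.def, Polynomial.eval_map] at hz
    exact hz
  obtain ⟨y, rfl⟩ := IsIntegrallyClosed.isIntegral_iff.1 (⟨Q, hmon, hz'⟩ : IsIntegral O z)
  refine ⟨residue O y, ?_⟩
  rw [Polynomial.eval₂_at_apply, map_eq_zero_iff _ (IsFractionRing.injective O ℂ)] at hz'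
  rw [← hQ, Polynomial.eval_map, Polynomial.eval₂_at_apply, hz', map_zero]

/-- In a perfect group generated by the conjugates of `x`, the centralizer of `x` in the
complement becomes central as soon as there is a small nontrivial module. -/
theorem central_of_module {k : Type*} [Field k] [IsAlgClosed k] {G : Type*} [Group G] [Fintype G]
    {p : ℕ} [hp : Fact p.Prime] [CharP k p] (S : Setup p G)
    (hgen : ∀ H : Subgroup G, H.Normal → S.x ∈ H → H = ⊤) (hperf : commutator G = ⊤)
    (hcent : ∀ H : Subgroup G, H.Normal → S.x ∉ H → H ≤ Subgroup.center G) :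
    ∀ (n : ℕ) (W : Type*) [AddCommGroup W] [Module k W] [FiniteDimensional k W]
      (ρ : G →* Module.End k W), finrank k W = n → 2 * finrank k W ≤ p → ρ S.x ≠ 1 →
      ∀ (v : S.V) (g : G), Commute ((v : S.L) : G) g := by
  intro n
  induction n using Nat.strong_induction_on with
  | _ n ih =>
  intro W _ _ _ ρ hn hd hx v g
  by_cases hirr : IsIrred ρ
  · obtain ⟨c, hc⟩ := scalar_of_mem S ρ hirr hd hgen S.V (fun w hw => S.commute_of_mem_V hw) v
    have hK : ρ.ker ≤ Subgroup.center G :=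
      hcent _ inferInstance fun h => hx (MonoidHom.mem_ker.1 h)
    set w : G := ((v : S.L) : G)
    have hmem : ∀ a : G, w * a * w⁻¹ * a⁻¹ ∈ Subgroup.center G := by
      intro a
      refine hK ?_
      rw [MonoidHom.mem_ker, map_mul, map_mul, map_mul, hc, smul_mul_assoc, one_mul,
        show c • ρ a * ρ w⁻¹ = ρ a * (ρ w * ρ w⁻¹) by
          rw [hc, smul_mul_assoc, smul_mul_assoc, one_mul, mul_smul_comm],
        ← map_mul ρ w, mul_inv_cancel, map_one, mul_one, ← map_mul, mul_inv_cancel, map_one]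
    clear ih
    let f : G →* Subgroup.center G :=
      { toFun := fun a => ⟨_, hmem a⟩
        map_one' := Subtype.ext (by simp)
        map_mul' := fun a b => Subtype.ext (by
          show w * (a * b) * w⁻¹ * (a * b)⁻¹ = (w * a * w⁻¹ * a⁻¹) * (w * b * w⁻¹ * b⁻¹)
          have hc := Subgroup.mem_center_iff.1 (hmem b) a⁻¹
          calc w * (a * b) * w⁻¹ * (a * b)⁻¹
              = (w * a * w⁻¹) * ((w * b * w⁻¹ * b⁻¹) * a⁻¹) := by group
            _ = (w * a * w⁻¹) * (a⁻¹ * (w * b * w⁻¹ * b⁻¹)) := by rw [hc]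
            _ = _ := by group) }
    have h1 : f g = 1 := by
      have hle : commutator G ≤ f.ker := by
        rw [commutator_def, Subgroup.commutator_le]
        intro a _ b _
        rw [MonoidHom.mem_ker, map_commutatorElement, commutatorElement_eq_one_iff_commute]
        exact Subtype.ext (Subgroup.mem_center_iff.1 (f b).2 _)
      exact MonoidHom.mem_ker.1 (hle (hperf ▸ Subgroup.mem_top g))
    have h2 : w * g * w⁻¹ * g⁻¹ = 1 := congrArg Subtype.val h1
    exact mul_inv_eq_iff_eq_mul.1 (mul_inv_eq_one.1 h2)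
  have hWn : Nontrivial W := by
    by_contra h
    rw [not_nontrivial_iff_subsingleton] at h
    exact hx (LinearMap.ext fun z => Subsingleton.elim _ _)
  obtain ⟨U, hU, hU0, hU1⟩ : ∃ U : Submodule k W, (∀ g, ∀ z ∈ U, ρ g z ∈ U) ∧ U ≠ ⊥ ∧ U ≠ ⊤ := by
    by_contra hc
    refine hirr ⟨hWn, fun U hU => ?_⟩
    by_contra h
    rw [not_or] at h
    exact hc ⟨U, hU, h.1, h.2⟩
  set σ₁ := restrictRep ρ U hU
  let σ₂ : G →* Module.End k (W ⧸ U) :=
    { toFun := fun a => U.mapQ U (ρ a) (hU a)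
      map_one' := Submodule.linearMap_qext _ (LinearMap.ext fun z => by simp)
      map_mul' := fun a b => Submodule.linearMap_qext _ (LinearMap.ext fun z => by simp) }
  by_cases h1 : σ₁ S.x = 1
  swap
  · exact ih _ (hn ▸ Submodule.finrank_lt hU1) U σ₁ rfl
      ((Nat.mul_le_mul_left 2 (Submodule.finrank_le U)).trans hd) h1 v g
  by_cases h2 : σ₂ S.x = 1
  swap
  · have hlt : finrank k (W ⧸ U) < finrank k W := by
      have := U.finrank_quotient_add_finrank
      have : 0 < finrank k U := Nat.pos_of_ne_zero fun h => hU0 (Submodule.finrank_eq_zero.1 h)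
      omega
    exact ih _ (hn ▸ hlt) (W ⧸ U) σ₂ rfl ((Nat.mul_le_mul_left 2 hlt.le).trans hd) h2 v g
  exfalso
  have hs1 : σ₁.ker = ⊤ := hgen _ inferInstance h1
  have hs2 : σ₂.ker = ⊤ := hgen _ inferInstance h2
  have hU' : ∀ a, ∀ z ∈ U, ρ a z = z := fun a z hz =>
    congrArg Subtype.val (LinearMap.congr_fun (MonoidHom.mem_ker.1 (hs1 ▸ Subgroup.mem_top a : a ∈ σ₁.ker))
      ⟨z, hz⟩)
  have hQ : ∀ a z, ρ a z - z ∈ U := fun a z =>
    (Submodule.Quotient.eq U).1 (LinearMap.congr_fun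
      (MonoidHom.mem_ker.1 (hs2 ▸ Subgroup.mem_top a : a ∈ σ₂.ker)) (Submodule.Quotient.mk z))
  have hcomm : ∀ a b : G, ρ (a * b) = ρ (b * a) := by
    intro a b
    refine LinearMap.ext fun z => ?_
    rw [map_mul, map_mul, Module.End.mul_apply, Module.End.mul_apply]
    have e1 : ρ a (ρ b z) = ρ b z - z + ρ a z := by
      conv_lhs => rw [show ρ b z = (ρ b z - z) + z by abel]
      rw [map_add, hU' a _ (hQ b z)]
    have e2 : ρ b (ρ a z) = ρ a z - z + ρ b z := by
      conv_lhs => rw [show ρ a z = (ρ a z - z) + z by abel]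
      rw [map_add, hU' b _ (hQ a z)]
    rw [e1, e2]; abel
  refine hx (MonoidHom.mem_ker.1 (?_ : S.x ∈ ρ.ker))
  have hle : commutator G ≤ ρ.ker := by
    rw [commutator_def, Subgroup.commutator_le]
    intro a _ b _
    rw [MonoidHom.mem_ker, commutatorElement_def, map_mul, map_mul, hcomm a b,
      ← map_mul, ← map_mul]
    simp [mul_assoc]
  exact hle (hperf ▸ Subgroup.mem_top _)

/-- A faithful representation reduces to a modular one in which `x` acts nontrivially. -/
theorem exists_reduction {G : Type*} [Group G] [Fintype G] {p : ℕ} [hp : Fact p.Prime]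
    {d : ℕ} (ρ : Representation ℂ G (Fin d → ℂ)) (hinj : Function.Injective ρ) (x : G)
    (hgen : ∀ H : Subgroup G, H.Normal → x ∈ H → H = ⊤) {l : G} (hl : ¬ p ∣ orderOf l)
    (hl1 : l ≠ 1) :
    ∃ O : ValuationSubring ℂ, (p : O) ∈ maximalIdeal O ∧
      ∃ σ : G →* Module.End (ResidueField O) (Fin d → ResidueField O), σ x ≠ 1 := by
  obtain ⟨O, hO⟩ := H44.exists_valuationSubring_natCast_mem p
  obtain ⟨R, X, hX⟩ := H31.Defect.exists_lattice O (H26.matHom ρ)
  refine ⟨O, hO, Matrix.toLinAlgEquiv'.toMonoidHom.comp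
    ((H31.Defect.red O (Fin d)).toMonoidHom.comp R), fun hx => ?_⟩
  set σ := Matrix.toLinAlgEquiv'.toMonoidHom.comp ((H31.Defect.red O (Fin d)).toMonoidHom.comp R)
  have hker := hgen σ.ker inferInstance hx
  have hred : H31.Defect.red O (Fin d) (R l) = 1 :=
    Matrix.toLinAlgEquiv'.injective
      ((MonoidHom.mem_ker.1 (hker ▸ Subgroup.mem_top l : l ∈ σ.ker)).trans (map_one _).symm)
  have hR : R l = 1 := by
    set T := ∑ i ∈ Finset.range (orderOf l), R l ^ i with hT
    have hmul : T * (R l - 1) = 0 := by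
      rw [hT, geom_sum_mul, ← map_pow, pow_orderOf_eq_one, map_one, sub_self]
    have hTu : IsUnit T := by
      rw [Matrix.isUnit_iff_isUnit_det]
      by_contra hnu
      have h0 : residue O T.det = 0 := (residue_eq_zero_iff _).2 ((mem_maximalIdeal _).2 hnu)
      rw [RingHom.map_det] at h0
      change (H31.Defect.red O (Fin d) T).det = 0 at h0
      rw [hT, map_sum, Finset.sum_congr rfl fun i _ => by rw [map_pow, hred, one_pow],
        Finset.sum_const, Finset.card_range, ← Nat.cast_smul_eq_nsmul (ResidueField O), Matrix.det_smul,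
        Matrix.det_one, mul_one] at h0
      have h1 := eq_zero_of_pow_eq_zero h0
      have : CharP (ResidueField O) p := (CharP.charP_iff_prime_eq_zero hp.out).2 (by
        rw [← map_natCast (residue O), residue_eq_zero_iff]; exact hO)
      exact hl ((CharP.cast_eq_zero_iff (ResidueField O) p _).1 h1)
    exact sub_eq_zero.1 (hTu.mul_right_eq_zero.1 hmul)
  refine hl1 (hinj ?_)
  have h := hX l
  rw [hR, map_one, mul_one] at h
  have : H26.matHom ρ l = 1 := by
    calc H26.matHom ρ l = H26.matHom ρ l * (X : Matrix _ _ ℂ) * (↑X⁻¹ : Matrix _ _ ℂ) := by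
          rw [Units.mul_inv_cancel_right]
      _ = 1 := by rw [← h, Units.mul_inv]
  rw [map_one]
  exact (LinearMap.toMatrix' (R := ℂ) (m := Fin d) (n := Fin d)).injective
    (this.trans LinearMap.toMatrix'_id.symm)

/-- The nontrivial `p`-th roots of unity sum to `-1`. -/
theorem sum_units_stdAddChar {p : ℕ} [hp : Fact p.Prime] {a : ZMod p} (ha : a ≠ 0) :
    ∑ u : (ZMod p)ˣ, ZMod.stdAddChar (a * (u : ZMod p)) = (-1 : ℂ) := by
  have h := sum_zmod_eq_sum_units (p := p)
    (fun c => ZMod.stdAddChar (a * c) - if c = 0 then (1 : ℂ) else 0) (by simp [AddChar.map_zero_eq_one])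
  rw [Finset.sum_sub_distrib, Finset.sum_sub_distrib] at h
  have h' := sum_stdAddChar (p := p) a
  rw [if_neg ha] at h'
  have h'' : ∑ c : ZMod p, ZMod.stdAddChar (a * c) = (0 : ℂ) := by
    rw [← h']; exact Finset.sum_congr rfl fun c _ => by rw [mul_comm]
  simp [h'', Finset.sum_ite_eq'] at h
  linear_combination -h

/-- The nontrivial `p`-th roots of unity sum to `-1`. -/
theorem sum_units_stdAddChar_one {p : ℕ} [hp : Fact p.Prime] :
    ∑ u : (ZMod p)ˣ, ZMod.stdAddChar (u : ZMod p) = (-1 : ℂ) := by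
  simpa using sum_units_stdAddChar (p := p) one_ne_zero

namespace Setup

variable {p : ℕ} [hp : Fact p.Prime] {G : Type*} [Group G] [Finite G] (S : Setup p G)

theorem sum_mv_cast (χ : Cfsg.IrrCharacter G) (θ : Cfsg.IrrCharacter S.V) :
    ∑ c : ZMod p, (S.mv χ θ c : ℂ) = S.sv χ θ 0 := by
  have hp0 : (p : ℂ) ≠ 0 := Nat.cast_ne_zero.2 hp.out.ne_zero
  simp only [← S.mv_spec, Finset.mul_sum]
  rw [Finset.sum_comm]
  have h : ∀ j : ZMod p, ∑ c : ZMod p, ZMod.stdAddChar (-(j * c)) = if j = 0 then (p : ℂ) else 0 := by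
    intro j
    have h := sum_stdAddChar (-j)
    simp only [neg_eq_zero] at h
    rw [← h]
    exact Finset.sum_congr rfl fun c _ => by congr 1; ring
  simp only [← Finset.mul_sum, h, mul_ite, mul_zero, Finset.sum_ite_eq', Finset.mem_univ, if_true]
  field_simp

/-- The dimension of an isotypic part. -/
noncomputable def partDim (χ : Cfsg.IrrCharacter G) (θ : Cfsg.IrrCharacter S.V) : ℕ :=
  ∑ c : ZMod p, S.mv χ θ c

theorem charDegree_eq_sum_partDim (χ : Cfsg.IrrCharacter G) :
    Cfsg.charDegree χ.1 = ∑ θ : Cfsg.IrrCharacter S.V, S.partDim χ θ * Cfsg.charDegree θ.1 := by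
  have h := S.value_eq_sum_sv χ 0 1
  simp only [ZMod.val_zero, pow_zero, OneMemClass.coe_one, one_mul, ← S.sum_mv_cast,
    irr_charDegree_spec] at h
  rw [← Nat.cast_inj (R := ℂ), h, Nat.cast_sum]
  exact Finset.sum_congr rfl fun θ _ => by simp [partDim]

theorem partDim_le (χ : Cfsg.IrrCharacter G) (θ : Cfsg.IrrCharacter S.V) :
    S.partDim χ θ ≤ Cfsg.charDegree χ.1 := by
  rw [S.charDegree_eq_sum_partDim χ]
  refine le_trans ?_ (Finset.single_le_sum (fun _ _ => Nat.zero_le _) (Finset.mem_univ θ))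
  exact Nat.le_mul_of_pos_right _ (irr_charDegree_pos θ)

theorem partDim_eq (χ : Cfsg.IrrCharacter G) (θ : Cfsg.IrrCharacter S.V) :
    (S.partDim χ θ : ℤ) = p * S.mv χ θ 0 - ∑ c : (ZMod p)ˣ, S.av χ θ (c : ZMod p) := by
  rw [← sum_zmod_eq_sum_units (fun c => S.av χ θ c) (by simp [av])]
  simp [partDim, av, Finset.sum_sub_distrib, ZMod.card]

theorem av_eq_mv_sub (χ : Cfsg.IrrCharacter G) (θ : Cfsg.IrrCharacter S.V) (c : ZMod p) :
    S.av χ θ c = (S.mv χ θ 0 : ℤ) - S.mv χ θ c := rfl

theorem eq_zero_of_mv {χ : Cfsg.IrrCharacter G} {θ : Cfsg.IrrCharacter S.V}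
    (hav : ∀ c : (ZMod p)ˣ, S.av χ θ (c : ZMod p) = 0) (hd : Cfsg.charDegree χ.1 < p) :
    S.mv χ θ 0 = 0 ∧ S.partDim χ θ = 0 := by
  have h := S.partDim_eq χ θ
  simp only [hav, Finset.sum_const_zero, sub_zero] at h
  have h' : S.partDim χ θ = p * S.mv χ θ 0 := by exact_mod_cast h
  have hle := S.partDim_le χ θ
  rcases Nat.eq_zero_or_pos (S.mv χ θ 0) with h0 | h0
  · exact ⟨h0, by rw [h', h0, mul_zero]⟩
  · have := Nat.le_mul_of_pos_right p h0
    omega

/-- The shape of a small irreducible character not trivial at `x`. -/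
theorem exists_small_shape {χ : Cfsg.IrrCharacter G} (hd : 2 * Cfsg.charDegree χ.1 + 2 ≤ p)
    (hx : χ.1 S.x ≠ χ.1 1) :
    ∃ θ, χ ∈ S.supp θ ∧ (∀ θ', S.mv χ θ' 0 = 0) ∧ (∀ θ' ∈ S.orb θ, S.partDim χ θ' = S.fN θ) ∧
      (∀ θ', θ' ∉ S.orb θ → S.partDim χ θ' = 0) ∧ ∀ c : ZMod p, S.mv χ θ c ≤ 1 := by
  have hd0 := irr_charDegree_pos χ
  have hp' : ¬ p ∣ Cfsg.charDegree χ.1 := fun h => by
    have := Nat.le_of_dvd hd0 h
    omega
  obtain ⟨θ, hθ⟩ := S.exists_mem_supp hp'
  obtain ⟨e, ε, b, he, hε, hbe, hav, hb⟩ := (S.gram_av θ).2 (S.count_main.2.1 θ)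
  have hout : ∀ θ', θ' ∉ S.orb θ → S.mv χ θ' 0 = 0 ∧ S.partDim χ θ' = 0 := by
    intro θ' h
    refine S.eq_zero_of_mv (fun c => ?_) (by omega)
    have hns : χ ∉ S.supp θ' := fun hm => h (S.mem_orb_of_mem_supp hθ hm)
    simp only [mem_supp, not_exists, not_not] at hns
    exact hns c
  have htw : ∀ θ' ∈ S.orb θ, ∃ l : S.L, ∀ c : (ZMod p)ˣ,
      S.av χ θ' (c : ZMod p) = S.av χ θ (((S.act l)⁻¹ * c : (ZMod p)ˣ) : ZMod p) := by
    intro θ' h
    obtain ⟨l, -, rfl⟩ := Finset.mem_image.1 h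
    exact ⟨l, fun c => by rw [S.av_twist, Units.val_mul]⟩
  have hf := S.fN_pos θ
  have hfp := S.fN_lt θ
  -- the constant pattern is impossible
  have hconst : ∀ a : ℤ, (a = 1 ∨ a = -1) → ¬ ∀ c : (ZMod p)ˣ, S.av χ θ (c : ZMod p) = a := by
    intro a ha hall
    have hallo : ∀ θ' ∈ S.orb θ, ∀ c : (ZMod p)ˣ, S.av χ θ' (c : ZMod p) = a := by
      intro θ' h c
      obtain ⟨l, hl⟩ := htw θ' h
      rw [hl, hall]
    have hD : ∀ θ' ∈ S.orb θ, (S.partDim χ θ' : ℤ) = p * S.mv χ θ' 0 - ((p : ℤ) - 1) * a := by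
      intro θ' h
      rw [S.partDim_eq, Finset.sum_congr rfl fun c _ => hallo θ' h c, Finset.sum_const,
        Finset.card_univ, ZMod.card_units, nsmul_eq_mul, Nat.cast_sub hp.out.one_lt.le, Nat.cast_one]
    have hθorb : θ ∈ S.orb θ := Finset.mem_image.2 ⟨1, Finset.mem_univ _, kerTwist_one _ _⟩
    rcases ha with rfl | rfl
    · have hm1 : ∀ θ' ∈ S.orb θ, S.mv χ θ' 0 = 1 ∧ S.partDim χ θ' = 1 := by
        intro θ' h
        have hD' := hD θ' h
        have hle := S.partDim_le χ θ'
        have hmv : 1 ≤ S.mv χ θ' 0 := by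
          have := hallo θ' h 1
          rw [S.av_eq_mv_sub] at this
          omega
        have : S.mv χ θ' 0 = 1 := by
          by_contra hne
          have h2 : p * 2 ≤ p * S.mv χ θ' 0 := Nat.mul_le_mul_left p (by omega)
          omega
        rw [this, Nat.cast_one] at hD'
        exact ⟨this, by omega⟩
      refine hx ?_
      have h0 : ∀ θ', S.sv χ θ' ((1 : (ZMod p)ˣ) : ZMod p) = S.sv χ θ' 0 := by
        intro θ'
        by_cases h : θ' ∈ S.orb θ
        · rw [S.sv_eq_neg_sum, ← S.sum_mv_cast, ← Nat.cast_sum, show ∑ c : ZMod p, S.mv χ θ' c =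
            S.partDim χ θ' from rfl, (hm1 θ' h).2]
          simp only [hallo θ' h, Int.cast_one, one_mul, Units.val_one, Nat.cast_one]
          rw [sum_units_stdAddChar_one, neg_neg]
        · rw [S.sv_eq_zero_of_not_mem_orb hθ h, ← S.sum_mv_cast, ← Nat.cast_sum,
            show ∑ c : ZMod p, S.mv χ θ' c = S.partDim χ θ' from rfl, (hout θ' h).2, Nat.cast_zero]
      have h1 := S.value_eq_sum_sv χ ((1 : (ZMod p)ˣ) : ZMod p) 1
      have h2 := S.value_eq_sum_sv χ 0 1
      simp only [h0] at h1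
      rw [← h2] at h1
      simpa [ZMod.val_one] using h1
    · have h1 := hD θ hθorb
      have hle := S.partDim_le χ θ
      have hm : (0 : ℤ) ≤ (p : ℤ) * S.mv χ θ 0 := by positivity
      omega
  have hY : ∃ j, e j = χ := by
    by_contra hn
    simp only [not_exists] at hn
    obtain ⟨c, hc⟩ := S.mem_supp.1 hθ
    have hbc : ∀ c : (ZMod p)ˣ, S.av χ θ (c : ZMod p) = b χ := fun c => by
      rw [hav, if_neg (hn _), add_zero]
    rw [hbc] at hc
    exact hconst _ ((hb χ).resolve_left hc) hbc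
  obtain ⟨j, rfl⟩ := hY
  have haj : ∀ c : (ZMod p)ˣ, S.av (e j) θ (c : ZMod p) =
      if QuotientGroup.mk c = j then ε else 0 := fun c => by
    rw [hav, hbe, zero_add]
    simp only [he.eq_iff]
  have hnt : Nontrivial ((ZMod p)ˣ ⧸ stabImage S.act θ) := by
    by_contra h
    rw [not_nontrivial_iff_subsingleton] at h
    exact hconst ε hε fun c => by rw [haj, if_pos (Subsingleton.elim _ _)]
  have ht : 2 ≤ S.tN θ := by
    rw [tN, Nat.card_eq_fintype_card]
    exact Fintype.one_lt_card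
  have h2f : 2 * S.fN θ ≤ p - 1 := by
    rw [← S.tN_mul_fN θ]
    exact Nat.mul_le_mul_right _ ht
  have hsum : ∀ θ' ∈ S.orb θ, ∑ c : (ZMod p)ˣ, S.av (e j) θ' (c : ZMod p) = ε * S.fN θ := by
    intro θ' h
    obtain ⟨l, hl⟩ := htw θ' h
    rw [Finset.sum_congr rfl fun c _ => hl c,
      Fintype.sum_equiv (Equiv.mulLeft (S.act l)⁻¹)
        (fun c : (ZMod p)ˣ => S.av (e j) θ (((S.act l)⁻¹ * c : (ZMod p)ˣ) : ZMod p))
        (fun c : (ZMod p)ˣ => S.av (e j) θ (c : ZMod p)) fun c => rfl]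
    simp only [haj, Finset.sum_ite, Finset.sum_const_zero, add_zero, Finset.sum_const, nsmul_eq_mul]
    rw [mul_comm]
    congr 1
    rw [Nat.cast_inj, fN, ← Fintype.card_subtype, ← Nat.card_eq_fintype_card]
    obtain ⟨c₀, rfl⟩ := QuotientGroup.mk_surjective j
    refine Nat.card_congr ((Equiv.mulLeft c₀⁻¹).subtypeEquiv fun c => ?_)
    rw [Equiv.coe_mulLeft, QuotientGroup.eq]
    constructor
    · intro h; simpa [mul_comm] using Subgroup.inv_mem _ h
    · intro h; simpa [mul_comm] using Subgroup.inv_mem _ h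
  have hεneg : ε = -1 := by
    refine hε.resolve_left fun h => ?_
    subst h
    obtain ⟨c, hc⟩ := QuotientGroup.mk_surjective j
    have hmv : 1 ≤ S.mv (e j) θ 0 := by
      have := haj c
      rw [if_pos hc, S.av_eq_mv_sub] at this
      omega
    have h1 := S.partDim_eq (e j) θ
    rw [hsum θ (Finset.mem_image.2 ⟨1, Finset.mem_univ _, kerTwist_one _ _⟩), one_mul] at h1
    have hle := S.partDim_le (e j) θ
    have : p * 1 ≤ p * S.mv (e j) θ 0 := Nat.mul_le_mul_left p hmv
    omega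
  subst hεneg
  have horb : ∀ θ' ∈ S.orb θ, S.mv (e j) θ' 0 = 0 ∧ S.partDim (e j) θ' = S.fN θ := by
    intro θ' h
    have h1 := S.partDim_eq (e j) θ'
    rw [hsum θ' h] at h1
    have hle := S.partDim_le (e j) θ'
    have : S.mv (e j) θ' 0 = 0 := by
      by_contra hne
      have : p * 1 ≤ p * S.mv (e j) θ' 0 := Nat.mul_le_mul_left p (by omega)
      omega
    rw [this] at h1
    exact ⟨this, by push_cast at h1; omega⟩
  have hθorb : θ ∈ S.orb θ := Finset.mem_image.2 ⟨1, Finset.mem_univ _, kerTwist_one _ _⟩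
  refine ⟨θ, hθ, fun θ' => ?_, fun θ' h => (horb θ' h).2, fun θ' h => (hout θ' h).2, fun c => ?_⟩
  · by_cases h : θ' ∈ S.orb θ
    · exact (horb θ' h).1
    · exact (hout θ' h).1
  · by_cases hc : c = 0
    · rw [hc, (horb θ hθorb).1]; exact Nat.zero_le _
    · have h := haj (Units.mk0 c hc)
      rw [Units.val_mk0, S.av_eq_mv_sub, (horb θ hθorb).1] at h
      split_ifs at h <;> omega

/-- No irreducible character of a perfect group is faithful and small. -/
theorem not_small_irreducible (hgen : ∀ H : Subgroup G, H.Normal → S.x ∈ H → H = ⊤)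
    (hperf : commutator G = ⊤) (hVc : ∀ (v : S.V) (g : G), Commute ((v : S.L) : G) g)
    (χ : Cfsg.IrrCharacter G) (hx : χ.1 S.x ≠ χ.1 1)
    (hd : 2 * Cfsg.charDegree χ.1 + 2 ≤ p) : False := by
  obtain ⟨θ, hθ, hm0, hD, hDout, hmv1⟩ := S.exists_small_shape hd hx
  have htwist : ∀ (l : S.L) (η : Cfsg.IrrCharacter S.V), kerTwist S.act l η = η := by
    intro l η
    refine Subtype.ext (funext fun v => ?_)
    rw [kerTwist_apply]
    refine congrArg η.1 ?_
    refine Subtype.ext (Subtype.ext ?_)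
    show (l : G) * ((v : S.L) : G) * (l : G)⁻¹ = ((v : S.L) : G)
    rw [← (hVc v (l : G)).eq, mul_inv_cancel_right]
  have horb : ∀ η : Cfsg.IrrCharacter S.V, S.orb η = {η} := fun η => by
    ext η'
    simp [orb, htwist, eq_comm]
  set e := Nat.card S.act.range
  have hfe : ∀ η : Cfsg.IrrCharacter S.V, S.fN η = e := fun η => by
    have h := S.card_orb_mul_fN η
    rw [horb, Finset.card_singleton, one_mul] at h
    exact h
  have hlin : ∀ η : Cfsg.IrrCharacter S.V, η.1 1 = 1 :=
    H26.irr_one_eq_one_of_comm fun a b => Subtype.ext (Subtype.ext (hVc a ((b : S.L) : G)).eq)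
  have hde : Cfsg.charDegree χ.1 = e := by
    have hθ1 : Cfsg.charDegree θ.1 = 1 := by
      have := irr_charDegree_spec θ
      rw [hlin] at this
      exact_mod_cast this.symm
    rw [S.charDegree_eq_sum_partDim χ, Finset.sum_eq_single θ (fun η _ hη => by
        rw [hDout η (by simpa [horb] using hη), zero_mul])
      (fun h => absurd (Finset.mem_univ _) h), hD θ (by simp [horb]), hfe, hθ1, mul_one]
  have he2 : 2 ≤ e := by
    by_contra h
    have he1 : Cfsg.charDegree χ.1 = 1 := by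
      have := irr_charDegree_pos χ
      omega
    have hχ1 : χ.1 1 = 1 := by rw [irr_charDegree_spec, he1, Nat.cast_one]
    have hle := (H44.irr_one_eq_one_iff χ).1 hχ1
    rw [hperf, top_le_iff] at hle
    exact hx (H44.mem_kerOf.1 (hle ▸ Subgroup.mem_top S.x))
  -- the constituents of the adjoint character
  set Φ : G → ℂ := χ.1 * (H26.conjIrr χ).1 with hΦdef
  have hΦ : Cfsg.IsCharacter G Φ :=
    H26.isCharacter_mul (H26.irr_isCharacter χ) (H26.irr_isCharacter _)
  obtain ⟨m, hm, hΦsum⟩ := H26.exists_nat_coeffs hΦ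
  set one' : Cfsg.IrrCharacter S.V := H26.oneIrr S.V
  have hΦ1 : Φ 1 = ((e * e : ℕ) : ℂ) := by
    rw [hΦdef, Pi.mul_apply, H26.conjIrr_val, irr_charDegree_spec, Complex.conj_natCast, hde]
    push_cast; ring
  have hdeg : ∑ ψ, m ψ * Cfsg.charDegree ψ.1 = e * e := by
    rw [← Nat.cast_inj (R := ℂ), ← hΦ1, hΦsum]
    simp [Finset.sum_apply, irr_charDegree_spec]
  have hm1 : m (H26.oneIrr G) = 1 := by
    rw [← Nat.cast_inj (R := ℂ), ← hm, Nat.cast_one]
    have h := H26.classInner_irr χ χ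
    rw [if_pos rfl] at h
    rw [← h]
    simp only [Cfsg.classInner, hΦdef, Pi.mul_apply, H26.conjIrr_val, H26.oneIrr_val, map_one, mul_one]
  -- fixed points of the direct product
  have hfix : ∑ ψ, m ψ * S.mv ψ one' 0 = e := by
    have hmv : ∀ ψ : Cfsg.IrrCharacter G, (S.mv ψ one' 0 : ℂ) = (p : ℂ)⁻¹ * ∑ j : ZMod p,
        (Nat.card S.V : ℂ)⁻¹ * ∑ v : S.V, ψ.1 (S.x ^ j.val * ((v : S.L) : G)) := by
      intro ψ
      rw [← S.mv_spec]
      simp [sv, Cfsg.classInner, one', H26.oneIrr_val, AddChar.map_zero_eq_one]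
    rw [← Nat.cast_inj (R := ℂ), Nat.cast_sum]
    simp only [Nat.cast_mul, hmv]
    have hsw : ∑ ψ, (m ψ : ℂ) * ((p : ℂ)⁻¹ * ∑ j : ZMod p,
        (Nat.card S.V : ℂ)⁻¹ * ∑ v : S.V, ψ.1 (S.x ^ j.val * ((v : S.L) : G))) =
        (p : ℂ)⁻¹ * ∑ j : ZMod p, (Nat.card S.V : ℂ)⁻¹ *
          ∑ v : S.V, Φ (S.x ^ j.val * ((v : S.L) : G)) := by
      conv_rhs => rw [hΦsum]
      simp only [Finset.sum_apply, Pi.smul_apply, smul_eq_mul, Finset.mul_sum]
      rw [Finset.sum_comm]
      refine Finset.sum_congr rfl fun j _ => ?_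
      rw [Finset.sum_comm]
      exact Finset.sum_congr rfl fun v _ => Finset.sum_congr rfl fun ψ _ => by ring
    rw [hsw]
    have hval : ∀ (j : ZMod p) (v : S.V), χ.1 (S.x ^ j.val * ((v : S.L) : G)) = S.sv χ θ j * θ.1 v := by
      intro j v
      rw [S.value_eq_sum_sv, Finset.sum_eq_single θ (fun η _ hη => ?_)
        (fun h => absurd (Finset.mem_univ _) h)]
      rcases eq_or_ne j 0 with rfl | hj
      · rw [← S.sum_mv_cast, ← Nat.cast_sum, show ∑ c : ZMod p, S.mv χ η c = S.partDim χ η from rfl,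
          hDout η (by simpa [horb] using hη), Nat.cast_zero, zero_mul]
      · rw [show S.sv χ η j = S.sv χ η ((Units.mk0 j hj : (ZMod p)ˣ) : ZMod p) from rfl,
          S.sv_eq_zero_of_not_mem_orb hθ (by simpa [horb] using hη), zero_mul]
    have hθθ : ∑ v : S.V, θ.1 v * conj (θ.1 v) = (Nat.card S.V : ℂ) := by
      have h := H26.classInner_irr θ θ
      rw [if_pos rfl, Cfsg.classInner, inv_mul_eq_iff_eq_mul₀
        (Nat.cast_ne_zero.2 Nat.card_pos.ne'), mul_one] at h
      exact h
    have hin : ∀ j : ZMod p, (Nat.card S.V : ℂ)⁻¹ * ∑ v : S.V, Φ (S.x ^ j.val * ((v : S.L) : G)) =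
        S.sv χ θ j * conj (S.sv χ θ j) := by
      intro j
      simp only [hΦdef, Pi.mul_apply, H26.conjIrr_val, hval, map_mul]
      rw [Finset.sum_congr rfl fun v _ => show S.sv χ θ j * θ.1 v * (conj (S.sv χ θ j) * conj (θ.1 v)) =
        S.sv χ θ j * conj (S.sv χ θ j) * (θ.1 v * conj (θ.1 v)) by ring, ← Finset.mul_sum, hθθ]
      have : (Nat.card S.V : ℂ) ≠ 0 := Nat.cast_ne_zero.2 Nat.card_pos.ne'
      field_simp
    simp only [hin]
    have hinv : ∀ j : ZMod p, S.sv χ θ j =
        ∑ c : ZMod p, (S.mv χ θ c : ℂ) * ZMod.stdAddChar (j * c) := by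
      intro j
      rcases eq_or_ne j 0 with rfl | hj
      · simp [← S.sum_mv_cast, AddChar.map_zero_eq_one]
      · rw [show S.sv χ θ j = S.sv χ θ ((Units.mk0 j hj : (ZMod p)ˣ) : ZMod p) from rfl, S.sv_eq_neg_sum]
        simp only [Units.val_mk0]
        rw [← sum_zmod_eq_sum_units
            (fun c => (S.av χ θ c : ℂ) * ZMod.stdAddChar ((j : ZMod p) * c)) (by simp [av]),
          ← Finset.sum_neg_distrib]
        simp [av, hm0 θ]
    have hpe : ∑ j : ZMod p, S.sv χ θ j * conj (S.sv χ θ j) =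
        (p : ℂ) * ∑ c : ZMod p, (S.mv χ θ c : ℂ) * S.mv χ θ c := by
      simp only [hinv, map_sum, map_mul, map_natCast, ← AddChar.map_neg_eq_conj, Finset.mul_sum,
        Finset.sum_mul]
      rw [Finset.sum_comm]
      refine Finset.sum_congr rfl fun c _ => ?_
      rw [Finset.sum_comm]
      have : ∀ d : ZMod p, ∑ j : ZMod p, (S.mv χ θ d : ℂ) * ZMod.stdAddChar (j * d) *
          ((S.mv χ θ c : ℂ) * ZMod.stdAddChar (-(j * c))) =
          if d = c then (p : ℂ) * ((S.mv χ θ c : ℂ) * S.mv χ θ c) else 0 := by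
        intro d
        have h : ∀ j : ZMod p, (S.mv χ θ d : ℂ) * ZMod.stdAddChar (j * d) *
          ((S.mv χ θ c : ℂ) * ZMod.stdAddChar (-(j * c))) =
          (S.mv χ θ d : ℂ) * (S.mv χ θ c : ℂ) * ZMod.stdAddChar (j * (d - c)) := by
          intro j
          rw [mul_sub, sub_eq_add_neg, AddChar.map_add_eq_mul]
          ring
        rw [Finset.sum_congr rfl fun j _ => h j, ← Finset.mul_sum, sum_stdAddChar]
        simp only [sub_eq_zero]
        split_ifs with hdc
        · rw [hdc]; ring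
        · rw [mul_zero]
      rw [Finset.sum_congr rfl fun d _ => this d, Finset.sum_ite_eq', if_pos (Finset.mem_univ _)]
    rw [hpe, inv_mul_cancel_left₀ (Nat.cast_ne_zero.2 hp.out.ne_zero),
      Finset.sum_congr rfl fun c _ => show (S.mv χ θ c : ℂ) * S.mv χ θ c = (S.mv χ θ c : ℂ) by
        have := hmv1 c
        interval_cases (S.mv χ θ c) <;> simp,
      ← Nat.cast_sum, show ∑ c : ZMod p, S.mv χ θ c = S.partDim χ θ from rfl, hD θ (by simp [horb]),
      hfe]
  -- the bound for each nontrivial constituent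
  have hbound : ∀ ψ : Cfsg.IrrCharacter G, ψ ≠ H26.oneIrr G →
      (p + 1) * S.mv ψ one' 0 ≤ 2 * Cfsg.charDegree ψ.1 := by
    intro ψ hψ
    set M := S.mv ψ one' 0 with hM
    have hle := S.partDim_le ψ one'
    have hD1 := S.partDim_eq ψ one'
    rw [← hM] at hD1
    rcases Nat.eq_zero_or_pos M with h0 | h0
    · simp [h0]
    by_cases hsupp : ψ ∈ S.supp one'
    swap
    · simp only [mem_supp, not_exists, not_not] at hsupp
      simp only [hsupp, Finset.sum_const_zero, sub_zero] at hD1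
      have h' : S.partDim ψ one' = p * M := by exact_mod_cast hD1
      have : M ≤ p * M := Nat.le_mul_of_pos_left M hp.out.pos
      have h3 : (p + 1) * M = p * M + M := by ring
      omega
    obtain ⟨ej, ε, b, he', hε, hbe, hav, hb⟩ := (S.gram_av one').2 (S.count_main.2.1 one')
    have hcards : (p : ℤ) - 1 = ((p - 1 : ℕ) : ℤ) := by
      rw [Nat.cast_sub hp.out.one_lt.le, Nat.cast_one]
    by_cases hconst : ∃ a : ℤ, (a = 1 ∨ a = -1) ∧ ∀ c : (ZMod p)ˣ, S.av ψ one' (c : ZMod p) = a
    · obtain ⟨a, ha, hall⟩ := hconst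
      rw [Finset.sum_congr rfl fun c _ => hall c, Finset.sum_const, Finset.card_univ,
        ZMod.card_units, nsmul_eq_mul, ← hcards] at hD1
      have h3 : (p + 1) * M = p * M + M := by ring
      have h4 : M ≤ p * M := Nat.le_mul_of_pos_left M hp.out.pos
      rcases ha with rfl | rfl
      swap
      · omega
      rcases Nat.lt_or_ge M 2 with h2 | h2
      · have hM1 : M = 1 := by omega
        rw [hM1, Nat.cast_one] at hD1
        by_contra hlt
        -- the only other constituents would be regular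
        have hother : ∀ η, η ≠ one' → S.mv ψ η 0 = 0 ∧ S.partDim ψ η = 0 := by
          intro η hη
          refine S.eq_zero_of_mv (fun c => ?_) (by rw [hM1] at hlt; omega)
          have hns : ψ ∉ S.supp η := fun hm => hη (by
            simpa [horb] using S.mem_orb_of_mem_supp hsupp hm)
          simp only [mem_supp, not_exists, not_not] at hns
          exact hns c
        have hψx : ψ.1 S.x = ψ.1 1 := by
          have h1 := S.value_eq_sum_sv ψ ((1 : (ZMod p)ˣ) : ZMod p) 1
          have h2 := S.value_eq_sum_sv ψ 0 1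
          have hs : ∀ η, S.sv ψ η ((1 : (ZMod p)ˣ) : ZMod p) = S.sv ψ η 0 := by
            intro η
            rcases eq_or_ne η one' with rfl | hη
            · rw [S.sv_eq_neg_sum, ← S.sum_mv_cast, ← Nat.cast_sum, show ∑ c : ZMod p, S.mv ψ one' c =
                S.partDim ψ one' from rfl, show S.partDim ψ one' = 1 by omega]
              simp only [hall, Int.cast_one, one_mul, Units.val_one, Nat.cast_one]
              rw [sum_units_stdAddChar_one, neg_neg]
            · rw [S.not_mem_supp_sv (fun hm => hη (by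
                simpa [horb] using S.mem_orb_of_mem_supp hsupp hm)), ← S.sum_mv_cast, ← Nat.cast_sum,
                show ∑ c : ZMod p, S.mv ψ η c = S.partDim ψ η from rfl, (hother η hη).2, Nat.cast_zero]
          simp only [hs] at h1
          rw [← h2] at h1
          simpa [ZMod.val_one] using h1
        have hker : H44.kerOf ψ = ⊤ := hgen _ (H44.kerOf_normal ψ) (H44.mem_kerOf.2 hψx)
        have hψ1 := (H44.irr_one_eq_one_iff ψ).2 (hker ▸ le_top)
        refine hψ (Subtype.ext (funext fun g => ?_))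
        rw [H26.oneIrr_val, H44.mem_kerOf.1 (hker ▸ Subgroup.mem_top g), hψ1]
      · have h2' : p * M + M + 2 * (p - 1) ≤ 2 * (p * M) := by
          obtain ⟨q, hq⟩ : ∃ q, p = q + 1 := ⟨p - 1, by omega⟩
          rw [hq, Nat.add_sub_cancel]
          have h6 : q * 2 ≤ q * M := Nat.mul_le_mul_left q h2
          rw [add_mul, one_mul]
          omega
        omega
    obtain ⟨j, hj⟩ : ∃ j, ej j = ψ := by
      by_contra hn
      simp only [not_exists] at hn
      obtain ⟨c, hc⟩ := S.mem_supp.1 hsupp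
      have hbc : ∀ c : (ZMod p)ˣ, S.av ψ one' (c : ZMod p) = b ψ := fun c => by
        rw [hav, if_neg (hn _), add_zero]
      rw [hbc] at hc
      exact hconst ⟨_, (hb ψ).resolve_left hc, hbc⟩
    have haj : ∀ c : (ZMod p)ˣ, S.av ψ one' (c : ZMod p) =
        if QuotientGroup.mk c = j then ε else 0 := fun c => by
      rw [hav, ← hj, hbe, zero_add]
      simp only [he'.eq_iff]
    have hnt : Nontrivial ((ZMod p)ˣ ⧸ stabImage S.act one') := by
      by_contra h
      rw [not_nontrivial_iff_subsingleton] at h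
      exact hconst ⟨ε, hε, fun c => by rw [haj, if_pos (Subsingleton.elim _ _)]⟩
    have hsum : ∑ c : (ZMod p)ˣ, S.av ψ one' (c : ZMod p) ≤ e := by
      simp only [haj, Finset.sum_ite, Finset.sum_const_zero, add_zero, Finset.sum_const, nsmul_eq_mul]
      have hc : (Finset.univ.filter fun c : (ZMod p)ˣ => QuotientGroup.mk c = j).card = e := by
        rw [← hfe one', fN, ← Fintype.card_subtype, ← Nat.card_eq_fintype_card]
        obtain ⟨c₀, rfl⟩ := QuotientGroup.mk_surjective j
        refine Nat.card_congr ((Equiv.mulLeft c₀⁻¹).subtypeEquiv fun c => ?_)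
        rw [Equiv.coe_mulLeft, QuotientGroup.eq]
        constructor
        · intro h; simpa [mul_comm] using Subgroup.inv_mem _ h
        · intro h; simpa [mul_comm] using Subgroup.inv_mem _ h
      rw [hc]
      rcases hε with rfl | rfl <;> omega
    have h2e : 2 * e ≤ p - 1 := by
      rw [← hfe one', ← S.tN_mul_fN one']
      refine Nat.mul_le_mul_right _ ?_
      rw [tN, Nat.card_eq_fintype_card]
      exact Fintype.one_lt_card
    have h5 : (S.partDim ψ one' : ℤ) + e ≥ p * M := by omega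
    have h5' : p * M ≤ S.partDim ψ one' + e := by exact_mod_cast h5
    have h7 : p * M + M + 2 * e ≤ 2 * (p * M) := by
      obtain ⟨q, hq⟩ : ∃ q, p = q + 1 := ⟨p - 1, by omega⟩
      rw [hq, add_mul, one_mul]
      have h6 : q ≤ q * M := Nat.le_mul_of_pos_right q h0
      omega
    have h3 : (p + 1) * M = p * M + M := by ring
    omega
  -- summing up
  have hone : S.mv (H26.oneIrr G) one' 0 = 1 ∧ Cfsg.charDegree (H26.oneIrr G).1 = 1 := by
    refine ⟨?_, ?_⟩
    · rw [← Nat.cast_inj (R := ℂ), ← S.mv_spec]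
      have hV0 : (Nat.card S.V : ℂ) ≠ 0 := Nat.cast_ne_zero.2 Nat.card_pos.ne'
      simp only [sv, Cfsg.classInner, one', H26.oneIrr_val, map_one, mul_one, Finset.sum_const,
        Finset.card_univ, ← Nat.card_eq_fintype_card, nsmul_eq_mul, inv_mul_cancel₀ hV0, mul_zero,
        neg_zero, AddChar.map_zero_eq_one, Nat.card_zmod, Nat.cast_one]
      exact inv_mul_cancel₀ (Nat.cast_ne_zero.2 hp.out.ne_zero)
    · exact Nat.cast_injective (R := ℂ) (by rw [← irr_charDegree_spec, H26.oneIrr_val, Nat.cast_one])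
  have hsum : (p + 1) * (e - 1) ≤ 2 * (e * e - 1) := by
    have h1 : ∑ ψ ∈ Finset.univ.erase (H26.oneIrr G), m ψ * S.mv ψ one' 0 = e - 1 := by
      have h := Finset.add_sum_erase Finset.univ (fun ψ => m ψ * S.mv ψ one' 0)
        (Finset.mem_univ (H26.oneIrr G))
      rw [hm1, hone.1, hfix] at h
      omega
    have h2 : ∑ ψ ∈ Finset.univ.erase (H26.oneIrr G), m ψ * Cfsg.charDegree ψ.1 = e * e - 1 := by
      have h := Finset.add_sum_erase Finset.univ (fun ψ => m ψ * Cfsg.charDegree ψ.1)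
        (Finset.mem_univ (H26.oneIrr G))
      rw [hm1, hone.2, hdeg] at h
      omega
    rw [← h1, ← h2, Finset.mul_sum, Finset.mul_sum]
    refine Finset.sum_le_sum fun ψ hψ => ?_
    calc (p + 1) * (m ψ * S.mv ψ one' 0) = m ψ * ((p + 1) * S.mv ψ one' 0) := by ring
      _ ≤ m ψ * (2 * Cfsg.charDegree ψ.1) :=
        Nat.mul_le_mul_left _ (hbound ψ (Finset.mem_erase.1 hψ).1)
      _ = _ := by ring
  obtain ⟨r, hr⟩ : ∃ r, e = r + 2 := ⟨e - 2, by omega⟩
  rw [hr, show r + 2 - 1 = r + 1 by omega,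
    show (r + 2) * (r + 2) - 1 = (r + 3) * (r + 1) from
      Nat.sub_eq_of_eq_add (by ring), ← mul_assoc] at hsum
  have := Nat.le_of_mul_le_mul_right hsum (by omega)
  omega

end Setup

theorem mem_of_normal_card {G : Type*} [Group G] [Finite G] {p : ℕ} [hp : Fact p.Prime]
    (hsq : ¬ p ^ 2 ∣ Nat.card G) (K : Subgroup G) [K.Normal] (hK : Nat.card K = p) {y : G}
    (hy : y ^ p = 1) : y ∈ K := by
  by_contra h
  refine hsq ?_
  have h1 : orderOf (y : G ⧸ K) = p := by
    refine orderOf_eq_prime ?_ fun e => h ((QuotientGroup.eq_one_iff y).1 e)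
    rw [← QuotientGroup.mk_pow, hy, QuotientGroup.mk_one]
  have h2 : p ∣ Nat.card (G ⧸ K) := by
    have := orderOf_dvd_natCard (y : G ⧸ K)
    rwa [h1] at this
  rw [K.card_eq_card_quotient_mul_card_subgroup, hK, sq]
  exact mul_dvd_mul h2 dvd_rfl

/-- Feit–Thompson: a faithful character of degree less than `(p - 1) / 2` forces a normal subgroup
of order `p`. -/
theorem exists_normal_of_small.{u} : ∀ (n : ℕ) (G : Type u) [Group G] [Finite G], Nat.card G ≤ n →
    ∀ {p : ℕ} [Fact p.Prime], p ∣ Nat.card G → ¬ p ^ 2 ∣ Nat.card G →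
    ∀ χ : G → ℂ, Cfsg.IsCharacter G χ → (∀ g, χ g = χ 1 → g = 1) →
    2 * Cfsg.charDegree χ + 2 ≤ p → ∃ H : Subgroup G, H.Normal ∧ Nat.card H = p := by
  intro n
  induction n with
  | zero => intro G _ _ hn; exact absurd hn (Nat.not_le.2 Nat.card_pos)
  | succ n ih =>
  intro G _ _ hn p hp hdiv hsq χ hχ hfaith hd
  by_contra hno
  obtain ⟨x₀, hx₀⟩ := exists_prime_orderOf_dvd_card' p hdiv
  obtain ⟨S, -⟩ := exists_setup hdiv hsq (P := Subgroup.zpowers x₀) (by rw [Nat.card_zpowers, hx₀])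
  -- proper subgroups containing `x` normalize `P`
  have hsub : ∀ H : Subgroup G, S.x ∈ H → H ≠ ⊤ → H ≤ S.N := by
    intro H hxH hH
    have hlt : Nat.card H < Nat.card G :=
      lt_of_le_of_ne H.card_le_card_group fun e => hH (H.eq_top_of_card_eq e)
    have hxo : orderOf (⟨S.x, hxH⟩ : H) = p := by rw [Subgroup.orderOf_mk, S.orderOf_x]
    have hpH : p ∣ Nat.card H := by
      have := orderOf_dvd_natCard (⟨S.x, hxH⟩ : H); rwa [hxo] at this
    have hd1 : Cfsg.charDegree (χ ∘ H.subtype) = Cfsg.charDegree χ := by simp [Cfsg.charDegree]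
    obtain ⟨K, hK, hKc⟩ := ih H (by omega) hpH
      (fun h => hsq (h.trans H.card_subgroup_dvd_card)) (χ ∘ H.subtype) (H26.isCharacter_comp hχ _)
      (fun g hg => Subtype.ext (hfaith _ hg)) (hd1 ▸ hd)
    have hxK : (⟨S.x, hxH⟩ : H) ∈ K := mem_of_normal_card
      (fun h => hsq (h.trans H.card_subgroup_dvd_card)) K hKc
      (orderOf_dvd_iff_pow_eq_one.1 (dvd_of_eq hxo))
    have hKP : K.map H.subtype = S.P := by
      refine (Subgroup.eq_of_le_of_card_ge (show S.P ≤ K.map H.subtype from Subgroup.zpowers_le.2 ⟨_, hxK, rfl⟩) ?_).symm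
      rw [Subgroup.card_map_of_injective Subtype.val_injective, hKc, S.card_P]
    intro h hh
    refine S.mem_N_of_conj_mem ?_
    rw [← hKP]
    exact ⟨_, hK.conj_mem _ hxK ⟨h, hh⟩, rfl⟩
  have hgen : ∀ H : Subgroup G, H.Normal → S.x ∈ H → H = ⊤ := by
    intro H hHn hxH
    by_contra hne
    refine hno ⟨S.P, ⟨fun u hu g => ?_⟩, S.card_P⟩
    refine S.mem_P_of_pow (hsub H hxH hne (hHn.conj_mem u (?_ : u ∈ H) g)) ?_
    · exact Subgroup.zpowers_le.2 hxH hu
    · obtain ⟨i, rfl⟩ := Subgroup.mem_zpowers_iff.1 hu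
      rw [conj_pow, ← zpow_natCast (S.x ^ i), ← zpow_mul, mul_comm, zpow_mul, zpow_natCast,
        S.x_pow_p, one_zpow, mul_one, mul_inv_cancel]
  -- the constituents
  obtain ⟨m, hm, hsum⟩ := H26.exists_nat_coeffs (G := G) hχ
  obtain ⟨ψ₀, hψ₀m, hψ₀x⟩ : ∃ ψ : Cfsg.IrrCharacter G, m ψ ≠ 0 ∧ ψ.1 S.x ≠ ψ.1 1 := by
    by_contra hc
    simp only [not_exists, not_and, not_not] at hc
    refine S.x_ne_one (hfaith _ ?_)
    rw [hsum, Finset.sum_apply, Finset.sum_apply]
    refine Finset.sum_congr rfl fun ψ _ => ?_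
    by_cases h : m ψ = 0
    · simp [h]
    · simp [hc ψ h]
  have hψle : ∀ ψ : Cfsg.IrrCharacter G, m ψ ≠ 0 →
      Cfsg.charDegree ψ.1 ≤ Cfsg.charDegree χ := by
    intro ψ hψm
    have h1 : χ 1 = ((∑ φ : Cfsg.IrrCharacter G, m φ * Cfsg.charDegree φ.1 : ℕ) : ℂ) := by
      rw [hsum]; simp [Finset.sum_apply, irr_charDegree_spec]
    have h2 : Cfsg.charDegree χ = ∑ φ : Cfsg.IrrCharacter G, m φ * Cfsg.charDegree φ.1 := by
      rw [Cfsg.charDegree, h1, Complex.natCast_re, Nat.floor_natCast]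
    rw [h2]
    refine le_trans ?_ (Finset.single_le_sum (fun _ _ => Nat.zero_le _) (Finset.mem_univ ψ))
    exact Nat.le_mul_of_pos_left _ (Nat.pos_of_ne_zero hψm)
  have hperf : commutator G = ⊤ := by
    by_contra hne
    have hxK : S.x ∉ commutator G := fun h => hne (hgen _ inferInstance h)
    have hsup : S.P ⊔ commutator G = ⊤ := by
      refine hgen _ (Subgroup.Normal.of_commutator_le G le_sup_right) ?_
      exact Subgroup.mem_sup_left (Subgroup.mem_zpowers _)
    -- `L` centralizes `P`, and `N` has abelian action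
    have hact : ∀ l : S.L, S.act l = 1 := by
      intro l
      refine Units.ext (S.x_pow_val_inj ?_)
      rw [← S.act_spec, Units.val_one, ZMod.val_one, pow_one, ← mul_inv_eq_one]
      have h1 : (l : G) * S.x * (l : G)⁻¹ * S.x⁻¹ ∈ commutator G :=
        Subgroup.commutator_mem_commutator (Subgroup.mem_top _) (Subgroup.mem_top _)
      have h2 : (l : G) * S.x * (l : G)⁻¹ * S.x⁻¹ ∈ S.P :=
        S.P.mul_mem (S.le_norm _ l.2) (S.P.inv_mem (Subgroup.mem_zpowers _))
      by_contra hne'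
      have : Fact (Nat.card S.P).Prime := ⟨S.card_P.symm ▸ hp.out⟩
      rcases Subgroup.eq_bot_or_eq_top_of_prime_card ((commutator G).subgroupOf S.P) with h | h
      · have h3 : (⟨_, h2⟩ : S.P) ∈ (⊥ : Subgroup S.P) := by
          rw [← h]; exact Subgroup.mem_subgroupOf.2 h1
        exact hne' (congrArg Subtype.val (Subgroup.mem_bot.1 h3 : (⟨_, h2⟩ : S.P) = 1))
      · have h3 : (⟨S.x, Subgroup.mem_zpowers _⟩ : S.P) ∈ (commutator G).subgroupOf S.P := by
          rw [h]; exact Subgroup.mem_top _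
        exact hxK h3
    -- every constituent maps `x` to a scalar
    have hscalar : ∀ ψ : Cfsg.IrrCharacter G, m ψ ≠ 0 → ∀ g : G,
        ψ.1 (S.x * g * S.x⁻¹ * g⁻¹) = ψ.1 1 := by
      intro ψ hψm g
      obtain ⟨r, ρ, hρ, hψρ⟩ := ψ.2
      suffices hs : ∃ a : ℂ, ρ S.x = a • (LinearMap.id : (Fin r → ℂ) →ₗ[ℂ] _) by
        obtain ⟨a, ha⟩ := hs
        have hcomm : ρ S.x * ρ g = ρ g * ρ S.x := by
          rw [ha, ← Module.End.one_eq_id, smul_mul_assoc, one_mul, mul_smul_comm, mul_one]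
        have h1 : ρ (S.x * g * S.x⁻¹ * g⁻¹) = ρ 1 := by
          rw [map_mul, map_mul, map_mul, hcomm, ← map_mul, ← map_mul, ← map_mul]
          congr 1; group
        rw [← hψρ]
        show LinearMap.trace ℂ _ (ρ _) = LinearMap.trace ℂ _ (ρ 1)
        rw [h1]
      by_cases hψx : ψ.1 S.x = ψ.1 1
      · refine ⟨1, ?_⟩
        rw [one_smul]
        refine (H25.char_eq_degree_iff ρ S.x).1 ?_
        rw [← ρ.char_one, hψρ]
        exact hψx
      obtain ⟨θ, hθ, hm0, hD, hDout, hmv⟩ := S.exists_small_shape (χ := ψ)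
        (by have := hψle ψ hψm; omega) hψx
      have he1 : Nat.card S.act.range = 1 := by
        rw [Subgroup.card_eq_one, MonoidHom.range_eq_bot_iff]
        exact MonoidHom.ext hact
      have hv : ‖ψ.1 S.x‖ = (Cfsg.charDegree ψ.1 : ℝ) := by
        have horb := S.card_orb_mul_fN θ
        rw [he1, mul_eq_one] at horb
        obtain ⟨θ₁, hθ₁⟩ := Finset.card_eq_one.1 horb.1
        have hθmem : θ ∈ S.orb θ := Finset.mem_image.2 ⟨1, Finset.mem_univ _, kerTwist_one _ _⟩
        obtain rfl : θ = θ₁ := Finset.mem_singleton.1 (hθ₁ ▸ hθmem)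
        have hDθ := hD θ hθmem
        rw [horb.2] at hDθ
        have hdeg : Cfsg.charDegree ψ.1 = Cfsg.charDegree θ.1 := by
          rw [S.charDegree_eq_sum_partDim ψ, Finset.sum_eq_single θ (fun η _ hη => by
            rw [hDout η (by rw [hθ₁]; simpa using hη), zero_mul]) (fun h => absurd (Finset.mem_univ _) h),
            hDθ, one_mul]
        have hval := S.value_eq_sum_sv ψ ((1 : (ZMod p)ˣ) : ZMod p) 1
        rw [Finset.sum_eq_single θ (fun η _ hη => by
          rw [S.sv_eq_zero_of_not_mem_orb hθ (by rw [hθ₁]; simpa using hη), zero_mul])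
          (fun h => absurd (Finset.mem_univ _) h)] at hval
        simp only [Units.val_one, ZMod.val_one, pow_one, OneMemClass.coe_one, mul_one] at hval
        obtain ⟨c₀, -, hc₀⟩ := Finset.exists_ne_zero_of_sum_ne_zero
          (show ∑ c : ZMod p, S.mv ψ θ c ≠ 0 by
            rw [show ∑ c : ZMod p, S.mv ψ θ c = 1 from hDθ]; exact one_ne_zero)
        have hc0 : c₀ ≠ 0 := fun h => hc₀ (h ▸ hm0 θ)
        have hsplit := Finset.add_sum_erase Finset.univ (fun c => S.mv ψ θ c) (Finset.mem_univ c₀)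
        rw [show ∑ c : ZMod p, S.mv ψ θ c = 1 from hDθ] at hsplit
        have hsv : S.sv ψ θ (1 : ZMod p) = ZMod.stdAddChar c₀ := by
          rw [← Units.val_one, S.sv_eq_neg_sum, Finset.sum_eq_single (Units.mk0 c₀ hc0) (fun c _ hc => ?_)
            (fun h => absurd (Finset.mem_univ _) h)]
          · simp only [Units.val_mk0, Units.val_one, one_mul, S.av_eq_mv_sub, hm0,
              show S.mv ψ θ c₀ = 1 by have := hmv c₀; omega]
            simp
          · have hne : (c : ZMod p) ≠ c₀ := fun e => hc (Units.ext e)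
            have : S.mv ψ θ (c : ZMod p) = 0 := by
              have h := Finset.sum_eq_zero_iff.1
                (show ∑ c ∈ Finset.univ.erase c₀, S.mv ψ θ c = 0 by omega) (c : ZMod p)
                (Finset.mem_erase.2 ⟨hne, Finset.mem_univ _⟩)
              exact h
            simp [S.av_eq_mv_sub, hm0, this]
        rw [hval, hsv, norm_mul, AddChar.norm_apply, one_mul, irr_charDegree_spec, hdeg,
          Complex.norm_natCast]
      have hrd : (Cfsg.charDegree ψ.1 : ℝ) = (finrank ℂ (Fin r → ℂ) : ℝ) := by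
        rw [Nat.cast_inj, ← Nat.cast_inj (R := ℂ), ← irr_charDegree_spec, ← hψρ, ρ.char_one]
      rw [hrd, ← hψρ] at hv
      exact ⟨_, H25.apply_eq_smul_id_of_norm_eq ρ S.x hv⟩
    -- so `x` is central
    have hxc : ∀ g : G, S.x * g = g * S.x := by
      intro g
      have h : S.x * g * S.x⁻¹ * g⁻¹ = 1 := by
        refine hfaith _ ?_
        rw [hsum, Finset.sum_apply, Finset.sum_apply]
        refine Finset.sum_congr rfl fun ψ _ => ?_
        by_cases h : m ψ = 0
        · simp [h]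
        · simp [hscalar ψ h g]
      exact mul_inv_eq_iff_eq_mul.1 (mul_inv_eq_one.1 h)
    refine hno ⟨S.P, ⟨fun u hu g => ?_⟩, S.card_P⟩
    obtain ⟨i, rfl⟩ := Subgroup.mem_zpowers_iff.1 hu
    rw [((show Commute S.x g from hxc g).zpow_left i).eq.symm, mul_inv_cancel_right]
    exact hu
  have hcent : ∀ H : Subgroup G, H.Normal → S.x ∉ H → H ≤ Subgroup.center G := by
    intro H hHn hxH
    have hne : S.P ⊔ H ≠ ⊤ := by
      intro htop
      refine hxH ((?_ : ⊤ ≤ H) (Subgroup.mem_top _))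
      rw [← hperf]
      refine Subgroup.Normal.commutator_le_of_self_sup_commutative_eq_top (H := S.P) ?_ inferInstance
      rwa [sup_comm] at htop
    have hHN : H ≤ S.N := le_sup_right.trans
      (hsub _ (Subgroup.mem_sup_left (Subgroup.mem_zpowers _)) hne)
    have hcx : ∀ h ∈ H, h * S.x = S.x * h := by
      intro h hh
      have h2 : h * S.x * h⁻¹ * S.x⁻¹ ∈ S.P :=
        S.P.mul_mem ((hHN hh S.x).1 (Subgroup.mem_zpowers _)) (S.P.inv_mem (Subgroup.mem_zpowers _))
      have h1 : h * S.x * h⁻¹ * S.x⁻¹ ∈ H := by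
        rw [show h * S.x * h⁻¹ * S.x⁻¹ = h * (S.x * h⁻¹ * S.x⁻¹) by group]
        exact H.mul_mem hh (hHn.conj_mem _ (H.inv_mem hh) _)
      have : Fact (Nat.card S.P).Prime := ⟨S.card_P.symm ▸ hp.out⟩
      rcases Subgroup.eq_bot_or_eq_top_of_prime_card (H.subgroupOf S.P) with e | e
      · have h3 : (⟨_, h2⟩ : S.P) ∈ (⊥ : Subgroup S.P) := by
          rw [← e]; exact Subgroup.mem_subgroupOf.2 h1
        have h4 : h * S.x * h⁻¹ * S.x⁻¹ = 1 :=
          congrArg Subtype.val (Subgroup.mem_bot.1 h3 : (⟨_, h2⟩ : S.P) = 1)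
        exact mul_inv_eq_iff_eq_mul.1 (mul_inv_eq_one.1 h4)
      · have h3 : (⟨S.x, Subgroup.mem_zpowers _⟩ : S.P) ∈ H.subgroupOf S.P := by
          rw [e]; exact Subgroup.mem_top _
        exact absurd h3 hxH
    have hC := hgen (Subgroup.centralizer (H : Set G)) inferInstance
      (Subgroup.mem_centralizer_iff.2 fun h hh => hcx h hh)
    intro h hh
    rw [Subgroup.mem_center_iff]
    intro g
    exact (Subgroup.mem_centralizer_iff.1 (hC ▸ Subgroup.mem_top g) h hh).symm
  -- a regular element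
  obtain ⟨l, hl, hl1⟩ : ∃ l : G, ¬ p ∣ orderOf l ∧ l ≠ 1 := by
    by_contra hc
    simp only [not_exists, not_and, not_not] at hc
    refine hno ⟨⊤, inferInstance, ?_⟩
    rw [Subgroup.card_top]
    have hG : IsPGroup p G := by
      intro g
      obtain ⟨u, y, -, -, huy, ⟨a, ha⟩, hpy⟩ :=
        H86.exists_pPart_mul_pPrimePart g (isOfFinOrder_of_finite g) hp.out
      have hy1 : y = 1 := hc y fun h => hp.out.one_lt.ne' (Nat.Coprime.eq_one_of_dvd hpy.symm h)
      exact ⟨a, by rw [← huy, hy1, mul_one, ← ha, pow_orderOf_eq_one]⟩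
    obtain ⟨k, hk⟩ := (IsPGroup.iff_card).1 hG
    rcases Nat.lt_or_ge k 2 with h | h
    · interval_cases k
      · rw [hk, pow_zero] at hdiv
        exact absurd (Nat.le_of_dvd one_pos hdiv) (by have := hp.out.one_lt; omega)
      · rw [hk, pow_one]
    · exact absurd ((pow_dvd_pow p h).trans (hk ▸ dvd_rfl)) hsq
  obtain ⟨d, ρ, rfl⟩ := hχ
  have hinj : Function.Injective ρ := by
    refine (injective_iff_map_eq_one (ρ : G →* Module.End ℂ (Fin d → ℂ))).2 fun g hg => hfaith g ?_
    show LinearMap.trace ℂ _ (ρ g) = LinearMap.trace ℂ _ (ρ 1)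
    rw [hg, map_one ρ]
  obtain ⟨O, hO, σ, hσ⟩ := exists_reduction ρ hinj S.x hgen hl hl1
  have := isAlgClosed_residueField O
  have : CharP (ResidueField O) p := (CharP.charP_iff_prime_eq_zero hp.out).2 (by
    rw [← map_natCast (residue O), residue_eq_zero_iff]; exact hO)
  have hdd : Cfsg.charDegree ρ.character = d := by
    rw [Cfsg.charDegree, ρ.char_one]; simp
  rw [hdd] at hd
  have hVc := central_of_module (k := ResidueField O) S hgen hperf hcent _
    (Fin d → ResidueField O) σ rfl (by rw [Module.finrank_fin_fun]; omega) hσ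
  -- a constituent not trivial at `x`
  refine S.not_small_irreducible hgen hperf hVc ψ₀ hψ₀x ?_
  have := hψle ψ₀ hψ₀m
  rw [hdd] at this
  omega

end Cfsg.Agent.H43.D1
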